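import Cfsg.Agent.Helper18.Conj

/-! Helper18: kernel-evaluated additivity checks for the Cartan table of type E7, rows 4..5. -/

set_option autoImplicit false

namespace Cfsg.Agent.Helper18

open Cfsg Cfsg.Lie

set_option maxRecDepth 100000 in
theorem addOK_E7_4 : addOK chevE7 4 = true := by decide +kernel

set_option maxRecDepth 100000 in
theorem addOK_E7_5 : addOK chevE7 5 = true := by decide +kernel

end Cfsg.Agent.Helper18
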