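import Cfsg.Agent.Helper18.AddE8r0
import Cfsg.Agent.Helper18.AddE8r2
import Cfsg.Agent.Helper18.AddE8r4
import Cfsg.Agent.Helper18.AddE8r6

/-! Helper18: additivity of the Cartan table of type E8. -/

set_option autoImplicit false

namespace Cfsg.Agent.Helper18

open Cfsg Cfsg.Lie

theorem addAllOK_E8 : addAllOK chevE8 = true := by
  unfold addAllOK
  rw [List.all_eq_true]
  intro i hi
  have hi' : i < 8 := List.mem_range.mp hi
  interval_cases i
  · exact addOK_E8_0
  · exact addOK_E8_1
  · exact addOK_E8_2
  · exact addOK_E8_3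
  · exact addOK_E8_4
  · exact addOK_E8_5
  · exact addOK_E8_6
  · exact addOK_E8_7

end Cfsg.Agent.Helper18
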