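import Cfsg.Agent.Helper18.AddSmall
import Cfsg.Agent.Helper18.AddE7
import Cfsg.Agent.Helper18.AddE8

/-!
Helper18: `h_r(c) x_s(t) = x_s(c ^ <s, r^∨> t) h_r(c)` for all roots `r`, `s` of the seven tabulated types.
-/

set_option autoImplicit false

namespace Cfsg.Agent.Helper18

open Cfsg Cfsg.Lie

theorem addAllOK_of_mem (D : ChevalleyDatum) (hD : D ∈ allData) : addAllOK D = true := by
  simp only [allData, List.mem_cons, List.not_mem_nil, or_false] at hD
  rcases hD with rfl | rfl | rfl | rfl | rfl | rfl | rfl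
  · exact addAllOK_G2
  · exact addAllOK_B2
  · exact addAllOK_D4
  · exact addAllOK_F4
  · exact addAllOK_E6
  · exact addAllOK_E7
  · exact addAllOK_E8

/-- `h_r(c) x_s(t) = x_s(c ^ <s, r^∨> t) h_r(c)`. -/
theorem hMat_mul_x {F : Type*} [Field F] (D : ChevalleyDatum) (hD : D ∈ allData) (r s : ℕ) (hr : r < D.nroots)
    (hs : s < D.nroots) (c t : F) (hc : c ≠ 0) :
    D.hMat F r c * D.x F s t = D.x F s (c ^ pairing' D r s * t) * D.hMat F r c := by
  rw [hMat_eq_wDiag D hD r hr c hc]
  exact wDiag_mul_x D (pairing' D r) s hs (isAdditiveAt_of_addAllOK D (addAllOK_of_mem D hD) r s hs) c t hc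

end Cfsg.Agent.Helper18
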