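import Mathlib
set_option autoImplicit false
namespace Cfsg.Agent.Helper18

open scoped commutatorElement

section Supp
variable {m R : Type*} [Fintype m] [DecidableEq m] [CommRing R]

/-- the entries of `M` vanish unless the level of the row is at least `k` more than that of the column -/
def Supp (b : m → ℕ) (k : ℕ) (M : Matrix m m R) : Prop := ∀ i j, b i < b j + k → M i j = 0

theorem Supp.mono {b : m → ℕ} {k l : ℕ} {M : Matrix m m R} (h : Supp b l M) (hkl : k ≤ l) : Supp b k M :=
  fun i j hij => h i j (by omega)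

theorem Supp.add {b : m → ℕ} {k : ℕ} {M N : Matrix m m R} (hM : Supp b k M) (hN : Supp b k N) :
    Supp b k (M + N) := fun i j hij => by rw [Matrix.add_apply, hM i j hij, hN i j hij, add_zero]

theorem Supp.sub {b : m → ℕ} {k : ℕ} {M N : Matrix m m R} (hM : Supp b k M) (hN : Supp b k N) :
    Supp b k (M - N) := fun i j hij => by rw [Matrix.sub_apply, hM i j hij, hN i j hij, sub_zero]

theorem Supp.neg {b : m → ℕ} {k : ℕ} {M : Matrix m m R} (hM : Supp b k M) :
    Supp b k (-M) := fun i j hij => by rw [Matrix.neg_apply, hM i j hij, neg_zero]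

theorem Supp.mul {b : m → ℕ} {k l : ℕ} {M N : Matrix m m R} (hM : Supp b k M) (hN : Supp b l N) :
    Supp b (k + l) (M * N) := by
  intro i j hij
  rw [Matrix.mul_apply]
  apply Finset.sum_eq_zero
  intro x _
  by_cases h : b i < b x + k
  · rw [hM i x h, zero_mul]
  · rw [hN x j (by omega), mul_zero]

theorem supp_zero_mat (b : m → ℕ) (k : ℕ) : Supp b k (0 : Matrix m m R) := fun _ _ _ => rfl

theorem supp_one (b : m → ℕ) : Supp b 0 (1 : Matrix m m R) := by
  intro i j hij
  have : i ≠ j := by rintro rfl; omega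
  simp [this]

theorem supp_zero_iff (b : m → ℕ) (M : Matrix m m R) :
    Supp b 0 M ↔ M.BlockTriangular (OrderDual.toDual ∘ b) := by
  constructor
  · intro h i j hij
    exact h i j (by simpa using hij)
  · intro h i j hij
    exact h (by simpa using hij)

theorem Supp.eq_zero {b : m → ℕ} {k : ℕ} {M : Matrix m m R} (hM : Supp b k M) (hk : ∀ i, b i < k) : M = 0 := by
  ext i j
  exact hM i j (by have := hk i; omega)

/-- the diagonal of a product of lower triangular matrices -/
theorem Supp.mul_diag {b : m → ℕ} (hb : Function.Injective b) {M N : Matrix m m R} (hM : Supp b 0 M)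
    (hN : Supp b 0 N) (i : m) : (M * N) i i = M i i * N i i := by
  rw [Matrix.mul_apply]
  apply Finset.sum_eq_single i
  · intro x _ hx
    have : b x ≠ b i := fun e => hx (hb e)
    by_cases h : b i < b x
    · rw [hM i x (by omega), zero_mul]
    · rw [hN x i (by omega), mul_zero]
  · intro h; exact absurd (Finset.mem_univ _) h

/-- the commutator of two lower triangular matrices is strictly lower triangular -/
theorem Supp.comm_sub {b : m → ℕ} (hb : Function.Injective b) {M N : Matrix m m R} (hM : Supp b 0 M)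
    (hN : Supp b 0 N) : Supp b 1 (M * N - N * M) := by
  intro i j hij
  by_cases h : i = j
  · subst h
    rw [Matrix.sub_apply, hM.mul_diag hb hN, hN.mul_diag hb hM, mul_comm, sub_self]
  · have : b i ≠ b j := fun e => h (hb e)
    exact (hM.mul hN).sub (hN.mul hM) i j (by omega)

/-- the inverse of an invertible lower triangular matrix is lower triangular -/
theorem Supp.inv {b : m → ℕ} (g : GL m R) (h : Supp b 0 (g : Matrix m m R)) :
    Supp b 0 ((g⁻¹ : GL m R) : Matrix m m R) := by
  rw [supp_zero_iff] at h ⊢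
  rw [Matrix.coe_units_inv]
  haveI : Invertible (g : Matrix m m R) := Units.invertible g
  exact Matrix.blockTriangular_inv_of_blockTriangular h

/-- the group of invertible lower triangular matrices (`k = 0`) and its congruence subgroups (`k ≥ 1`) -/
def lowerGL (b : m → ℕ) (R : Type*) [CommRing R] (k : ℕ) : Subgroup (GL m R) where
  carrier := {g | Supp b 0 (g : Matrix m m R) ∧ Supp b k ((g : Matrix m m R) - 1)}
  one_mem' := ⟨supp_one b, by simpa using supp_zero_mat b k⟩
  mul_mem' := by
    rintro g h ⟨hg0, hg⟩ ⟨hh0, hh⟩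
    refine ⟨by simpa using hg0.mul hh0, ?_⟩
    have e : ((g * h : GL m R) : Matrix m m R) - 1 =
        ((g : Matrix m m R) - 1) * (h : Matrix m m R) + ((h : Matrix m m R) - 1) := by
      rw [Units.val_mul]; noncomm_ring
    rw [e]
    exact (by simpa using hg.mul hh0 : Supp b k _).add hh
  inv_mem' := by
    rintro g ⟨hg0, hg⟩
    have hi := Supp.inv g hg0
    refine ⟨hi, ?_⟩
    have e : ((g⁻¹ : GL m R) : Matrix m m R) - 1 = -(((g⁻¹ : GL m R) : Matrix m m R) * ((g : Matrix m m R) - 1)) := by
      rw [mul_sub, ← Units.val_mul, inv_mul_cancel]; simp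
    rw [e]
    exact (by simpa using hi.mul hg : Supp b k _).neg

theorem mem_lowerGL (b : m → ℕ) (k : ℕ) (g : GL m R) :
    g ∈ lowerGL b R k ↔ Supp b 0 (g : Matrix m m R) ∧ Supp b k ((g : Matrix m m R) - 1) := Iff.rfl

theorem mem_lowerGL_zero (b : m → ℕ) (g : GL m R) :
    g ∈ lowerGL b R 0 ↔ Supp b 0 (g : Matrix m m R) := by
  rw [mem_lowerGL]
  exact ⟨fun h => h.1, fun h => ⟨h, h.sub (supp_one b)⟩⟩

theorem lowerGL_eq_bot (b : m → ℕ) (k : ℕ) (hk : ∀ i, b i < k) : lowerGL b R k = ⊥ := by
  rw [eq_bot_iff]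
  rintro g ⟨-, hg⟩
  rw [Subgroup.mem_bot]
  apply Units.ext
  have := hg.eq_zero hk
  rw [sub_eq_zero] at this
  exact this

theorem commutator_sub_one (g h : GL m R) :
    ((⁅g, h⁆ : GL m R) : Matrix m m R) - 1 =
      ((g : Matrix m m R) * (h : Matrix m m R) - (h : Matrix m m R) * (g : Matrix m m R)) *
        (((g⁻¹ : GL m R) : Matrix m m R) * ((h⁻¹ : GL m R) : Matrix m m R)) := by
  rw [commutatorElement_def, sub_mul]
  simp only [Units.val_mul]
  have h1 : (h : Matrix m m R) * (g : Matrix m m R) * (((g⁻¹ : GL m R) : Matrix m m R) * ((h⁻¹ : GL m R) : Matrix m m R)) = 1 := by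
    rw [← Units.val_mul, ← Units.val_mul, ← Units.val_mul]
    simp
  rw [h1]
  simp only [mul_assoc]

theorem commutator_lowerGL_zero (b : m → ℕ) (hb : Function.Injective b) :
    ⁅lowerGL b R 0, lowerGL b R 0⁆ ≤ lowerGL b R 1 := by
  rw [Subgroup.commutator_le]
  intro g hg h hh
  rw [mem_lowerGL_zero] at hg hh
  have h0 : Supp b 0 ((⁅g, h⁆ : GL m R) : Matrix m m R) := by
    rw [commutatorElement_def]
    simp only [Units.val_mul]
    simpa using ((hg.mul hh).mul (Supp.inv g hg)).mul (Supp.inv h hh)
  refine ⟨h0, ?_⟩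
  rw [commutator_sub_one]
  simpa using (hg.comm_sub hb hh).mul ((Supp.inv g hg).mul (Supp.inv h hh))

theorem commutator_lowerGL (b : m → ℕ) (k : ℕ) :
    ⁅lowerGL b R k, lowerGL b R k⁆ ≤ lowerGL b R (k + k) := by
  rw [Subgroup.commutator_le]
  rintro g ⟨hg0, hg⟩ h ⟨hh0, hh⟩
  have h0 : Supp b 0 ((⁅g, h⁆ : GL m R) : Matrix m m R) := by
    rw [commutatorElement_def]
    simp only [Units.val_mul]
    simpa using ((hg0.mul hh0).mul (Supp.inv g hg0)).mul (Supp.inv h hh0)
  refine ⟨h0, ?_⟩
  rw [commutator_sub_one]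
  have e : (g : Matrix m m R) * (h : Matrix m m R) - (h : Matrix m m R) * (g : Matrix m m R) =
      ((g : Matrix m m R) - 1) * ((h : Matrix m m R) - 1) - ((h : Matrix m m R) - 1) * ((g : Matrix m m R) - 1) := by
    noncomm_ring
  rw [e]
  simpa using ((hg.mul hh).sub (hh.mul hg)).mul ((Supp.inv g hg0).mul (Supp.inv h hh0))

end Supp

/-- a subgroup contained in the first term of a chain of subgroups, in which the commutator subgroup of each term is
contained in the next and which reaches the trivial subgroup, is solvable -/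
theorem isSolvable_of_chain {G : Type*} [Group G] (H : Subgroup G) (K : ℕ → Subgroup G) (h0 : H ≤ K 0)
    (hstep : ∀ n, ⁅K n, K n⁆ ≤ K (n + 1)) (hend : ∃ n, K n = ⊥)   : Group.IsSolvable H := by
  have key : ∀ n, (derivedSeries H n).map H.subtype ≤ K n := by
    intro n
    induction n with
    | zero =>
      rw [derivedSeries_zero]
      intro x hx
      obtain ⟨y, -, rfl⟩ := Subgroup.mem_map.mp hx
      exact h0 y.2
    | succ n ih =>
      rw [derivedSeries_succ, Subgroup.map_commutator]
      exact le_trans (Subgroup.commutator_mono ih ih) (hstep n)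
  obtain ⟨n, hn⟩ := hend
  rw [Group.isSolvable_def]
  refine ⟨n, ?_⟩
  have := key n
  rw [hn, le_bot_iff] at this
  exact (Subgroup.map_eq_bot_iff_of_injective _ H.subtype_injective).mp this

/-- the group of invertible lower triangular matrices is solvable -/
theorem isSolvable_of_le_lowerGL {m R : Type*} [Fintype m] [DecidableEq m] [CommRing R] (b : m → ℕ)
    (hb : Function.Injective b) (H : Subgroup (GL m R)) (hH : H ≤ lowerGL b R 0)   : Group.IsSolvable H := by
  apply isSolvable_of_chain H (fun n => if n = 0 then lowerGL b R 0 else lowerGL b R (2 ^ (n - 1))) hH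
  · intro n
    rcases n with _ | n
    · simpa using commutator_lowerGL_zero b hb
    · simp only [Nat.add_eq_zero_iff, one_ne_zero, and_false, if_false, add_tsub_cancel_right]
      have : 2 ^ n + 2 ^ n = 2 ^ (n + 1) := by ring
      rw [← this]
      exact commutator_lowerGL b _
  · obtain ⟨N, hN⟩ : ∃ N, ∀ i, b i < N := by
      refine ⟨(Finset.univ.sup b) + 1, fun i => ?_⟩
      have : b i ≤ Finset.univ.sup b := Finset.le_sup (Finset.mem_univ i)
      omega
    refine ⟨N + 1, ?_⟩
    simp only [Nat.add_eq_zero_iff, one_ne_zero, and_false, if_false, add_tsub_cancel_right]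
    apply lowerGL_eq_bot
    intro i
    have := hN i
    have : N < 2 ^ N := Nat.lt_two_pow_self
    omega

end Cfsg.Agent.Helper18
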