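import Cfsg.Agent.Helper18.TriAll
import Cfsg.Agent.Helper18.TriGroup
import Cfsg.Agent.Helper18.ConjAll

/-!
Helper18: the subgroups `U`, `V`, `H`, `B` of a Chevalley group inside triangular matrix groups.

* `U ≤ lowerGL lvl 1` (lower unitriangular), `V ≤ lowerGL lvlR 1` (upper unitriangular),
  `H ≤ lowerGL lvl 0 ⊓ lowerGL lvlR 0` (diagonal), `B ≤ lowerGL lvl 0`;
* `H` normalizes `U` and `V`.
-/

set_option autoImplicit false

namespace Cfsg.Agent.Helper18

open Cfsg Cfsg.Lie

section
variable {F : Type*} [Field F]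

/-- the reversed level function -/
def lvlR (D : ChevalleyDatum) (hlf : ℕ) : D.Idx → ℕ := fun i => hlf + D.rank + D.nroots - lvl D hlf i

theorem lvl_le (D : ChevalleyDatum) (hlf : ℕ) (i : D.Idx) : lvl D hlf i ≤ hlf + D.rank + D.nroots := by
  rcases i with a | s
  · have := a.2
    simp only [lvl, Sum.elim_inl]; omega
  · have := s.2
    simp only [lvl, Sum.elim_inr]; split_ifs <;> omega

theorem lvlR_lt_iff (D : ChevalleyDatum) (hlf : ℕ) (i j : D.Idx) :
    lvlR D hlf i < lvlR D hlf j ↔ lvl D hlf j < lvl D hlf i := by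
  have h1 := lvl_le D hlf i
  have h2 := lvl_le D hlf j
  unfold lvlR
  omega

theorem lvlR_injective (D : ChevalleyDatum) (hlf : ℕ) : Function.Injective (lvlR D hlf) := by
  intro i j h
  apply lvl_injective D hlf
  have h1 := lvl_le D hlf i
  have h2 := lvl_le D hlf j
  unfold lvlR at h
  omega

theorem supp_lvl_iff (D : ChevalleyDatum) (hlf : ℕ) (M : Matrix D.Idx D.Idx F) :
    Supp (lvl D hlf) 0 M ↔ IsLower D hlf M := Iff.rfl

theorem supp_lvlR_iff (D : ChevalleyDatum) (hlf : ℕ) (M : Matrix D.Idx D.Idx F) :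
    Supp (lvlR D hlf) 0 M ↔ IsUpper D hlf M := by
  constructor
  · intro h i j hij
    exact h i j (by rw [add_zero, lvlR_lt_iff]; exact hij)
  · intro h i j hij
    rw [add_zero, lvlR_lt_iff] at hij
    exact h i j hij

theorem supp_one_sub_iff {m : Type*} [Fintype m] [DecidableEq m] (b : m → ℕ) (hb : Function.Injective b)
    (M : Matrix m m F) : Supp b 1 (M - 1) ↔ Supp b 0 M ∧ ∀ i, M i i = 1 := by
  constructor
  · intro h
    constructor
    · intro i j hij
      have hne : i ≠ j := by rintro rfl; omega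
      have := h i j (by omega)
      rw [Matrix.sub_apply, Matrix.one_apply_ne hne, sub_zero] at this
      exact this
    · intro i
      have := h i i (by omega)
      rw [Matrix.sub_apply, Matrix.one_apply_eq, sub_eq_zero] at this
      exact this
  · rintro ⟨h0, h1⟩ i j hij
    by_cases hne : i = j
    · subst hne
      rw [Matrix.sub_apply, Matrix.one_apply_eq, h1, sub_self]
    · have : b i ≠ b j := fun e => hne (hb e)
      rw [Matrix.sub_apply, Matrix.one_apply_ne hne, sub_zero]
      exact h0 i j (by omega)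

theorem mem_lowerGL_one_iff {m : Type*} [Fintype m] [DecidableEq m] (b : m → ℕ) (hb : Function.Injective b)
    (g : GL m F) : g ∈ lowerGL b F 1 ↔ Supp b 0 (g : Matrix m m F) ∧ ∀ i, (g : Matrix m m F) i i = 1 := by
  rw [mem_lowerGL, supp_one_sub_iff b hb]
  tauto

/-- lower triangular and upper unitriangular matrices meet trivially -/
theorem lower_inf_upperUni (D : ChevalleyDatum) (hlf : ℕ) :
    lowerGL (lvl D hlf) F 0 ⊓ lowerGL (lvlR D hlf) F 1 = ⊥ := by
  rw [eq_bot_iff]
  intro g hg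
  rw [Subgroup.mem_inf] at hg
  obtain ⟨hg1, hg2⟩ := hg
  rw [mem_lowerGL_zero, supp_lvl_iff] at hg1
  rw [mem_lowerGL_one_iff _ (lvlR_injective D hlf), supp_lvlR_iff] at hg2
  rw [Subgroup.mem_bot]
  apply Units.ext
  ext i j
  by_cases hij : i = j
  · subst hij
    rw [hg2.2 i]; simp
  · have hne : lvl D hlf i ≠ lvl D hlf j := fun e => hij (lvl_injective D hlf e)
    rw [Units.val_one, Matrix.one_apply_ne hij]
    rcases Nat.lt_or_gt_of_ne hne with h | h
    · exact hg1 i j h
    · exact hg2.1 i j h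

/-- lower unitriangular and upper triangular matrices meet trivially -/
theorem lowerUni_inf_upper (D : ChevalleyDatum) (hlf : ℕ) :
    lowerGL (lvl D hlf) F 1 ⊓ lowerGL (lvlR D hlf) F 0 = ⊥ := by
  rw [eq_bot_iff]
  intro g hg
  rw [Subgroup.mem_inf] at hg
  obtain ⟨hg1, hg2⟩ := hg
  rw [mem_lowerGL_zero, supp_lvlR_iff] at hg2
  rw [mem_lowerGL_one_iff _ (lvl_injective D hlf), supp_lvl_iff] at hg1
  rw [Subgroup.mem_bot]
  apply Units.ext
  ext i j
  by_cases hij : i = j
  · subst hij
    rw [hg1.2 i]; simp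
  · have hne : lvl D hlf i ≠ lvl D hlf j := fun e => hij (lvl_injective D hlf e)
    rw [Units.val_one, Matrix.one_apply_ne hij]
    rcases Nat.lt_or_gt_of_ne hne with h | h
    · exact hg1.1 i j h
    · exact hg2 i j h

theorem lowerGL_one_le_zero {m : Type*} [Fintype m] [DecidableEq m] (b : m → ℕ) :
    lowerGL b F 1 ≤ lowerGL b F 0 := by
  intro g hg
  rw [mem_lowerGL_zero]
  exact hg.1

variable (D : ChevalleyDatum) (hD : D ∈ [chevG2, chevB2, chevD4, chevF4, chevE6, chevE7, chevE8])
include hD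

theorem posUnipotent_le : D.posUnipotent F ≤ lowerGL (lvl D (hlfOf D)) F 1 := by
  have htri := triOK_of_mem D hD
  have hpos := posOK_of_mem D hD
  unfold ChevalleyDatum.posUnipotent
  rw [Subgroup.closure_le]
  rintro g ⟨r, t, hr, hg⟩
  rw [SetLike.mem_coe, mem_lowerGL_one_iff _ (lvl_injective D _), supp_lvl_iff, hg]
  exact ⟨x_isLower D _ htri r ((isPosRoot_iff D _ hpos r).mp hr).1 t, x_diag D _ htri r t⟩

theorem negUnipotent_le : D.negUnipotent F ≤ lowerGL (lvlR D (hlfOf D)) F 1 := by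
  have htri := triOK_of_mem D hD
  have hpos := posOK_of_mem D hD
  unfold ChevalleyDatum.negUnipotent
  rw [Subgroup.closure_le]
  rintro g ⟨r, t, hr, hg⟩
  rw [SetLike.mem_coe, mem_lowerGL_one_iff _ (lvlR_injective D _), supp_lvlR_iff, hg]
  exact ⟨x_isUpper D _ htri r ((isNegRoot_iff D _ hpos r).mp hr).1 t, x_diag D _ htri r t⟩

theorem diagonalSubgroup_le :
    D.diagonalSubgroup F ≤ lowerGL (lvl D (hlfOf D)) F 0 ⊓ lowerGL (lvlR D (hlfOf D)) F 0 := by
  unfold ChevalleyDatum.diagonalSubgroup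
  rw [Subgroup.closure_le]
  rintro g ⟨r, t, hr, ht, hg⟩
  have hdiag := hMat_eq_wDiag D hD r hr t ht
  rw [← hg] at hdiag
  have hoff : ∀ i j : D.Idx, i ≠ j → (g : Matrix D.Idx D.Idx F) i j = 0 := by
    intro i j hij
    rw [hdiag, wDiag, Matrix.diagonal_apply_ne _ hij]
  rw [SetLike.mem_coe, Subgroup.mem_inf, mem_lowerGL_zero, mem_lowerGL_zero]
  constructor
  · intro i j hij
    exact hoff i j (by rintro rfl; omega)
  · intro i j hij
    exact hoff i j (by rintro rfl; omega)

theorem borelSubgroup_le : D.borelSubgroup F ≤ lowerGL (lvl D (hlfOf D)) F 0 := by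
  unfold ChevalleyDatum.borelSubgroup
  exact sup_le (le_trans (posUnipotent_le D hD) (lowerGL_one_le_zero _))
    (le_trans (diagonalSubgroup_le D hD) inf_le_left)

omit hD in
theorem mem_normalizer_closure_of {G : Type*} [Group G] (S : Set G) (g : G) (h1 : ∀ x ∈ S, g * x * g⁻¹ ∈ S)
    (h2 : ∀ x ∈ S, g⁻¹ * x * g ∈ S) : g ∈ Subgroup.normalizer (Subgroup.closure S : Set G) := by
  apply Subgroup.normalizer_le_normalizer_closure
  rw [Subgroup.mem_set_normalizer_iff]
  intro n
  constructor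
  · exact h1 n
  · intro h
    have := h2 _ h
    simpa [mul_assoc] using this

/-- conjugating a root element by `h_r(c)` -/
theorem hMat_conj_x (g : GL D.Idx F) (r : ℕ) (hr : r < D.nroots) (c : F) (hc : c ≠ 0)
    (hg : (g : Matrix D.Idx D.Idx F) = D.hMat F r c) (s : ℕ) (hs : s < D.nroots) (t : F) :
    g * xGL D F s t * g⁻¹ = xGL D F s (c ^ pairing' D r s * t) ∧
    g⁻¹ * xGL D F s t * g = xGL D F s ((c ^ pairing' D r s)⁻¹ * t) := by
  have htri := triOK_of_mem D hD
  have key : ∀ t : F, g * xGL D F s t = xGL D F s (c ^ pairing' D r s * t) * g := by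
    intro t
    apply Units.ext
    rw [Units.val_mul, Units.val_mul, xGL_val D _ htri, xGL_val D _ htri, hg]
    exact hMat_mul_x D hD r s hr hs c t hc
  constructor
  · rw [key, mul_inv_cancel_right]
  · have hne : c ^ pairing' D r s ≠ 0 := zpow_ne_zero _ hc
    have := key ((c ^ pairing' D r s)⁻¹ * t)
    rw [mul_inv_cancel_left₀ hne] at this
    rw [mul_assoc, ← this, inv_mul_cancel_left]

theorem diagonalSubgroup_le_normalizer_posUnipotent :
    D.diagonalSubgroup F ≤ Subgroup.normalizer (D.posUnipotent F : Set (GL D.Idx F)) := by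
  have htri := triOK_of_mem D hD
  have hpos := posOK_of_mem D hD
  conv_lhs => unfold ChevalleyDatum.diagonalSubgroup
  rw [Subgroup.closure_le]
  rintro g ⟨r, c, hr, hc, hg⟩
  unfold ChevalleyDatum.posUnipotent
  apply mem_normalizer_closure_of
  · rintro x ⟨s, t, hs, hx⟩
    have : x = xGL D F s t := Units.ext (by rw [hx, xGL_val D _ htri])
    rw [this, (hMat_conj_x D hD g r hr c hc hg s hs.1 t).1]
    exact ⟨s, _, hs, xGL_val D _ htri _ _⟩
  · rintro x ⟨s, t, hs, hx⟩
    have : x = xGL D F s t := Units.ext (by rw [hx, xGL_val D _ htri])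
    rw [this, (hMat_conj_x D hD g r hr c hc hg s hs.1 t).2]
    exact ⟨s, _, hs, xGL_val D _ htri _ _⟩

theorem diagonalSubgroup_le_normalizer_negUnipotent :
    D.diagonalSubgroup F ≤ Subgroup.normalizer (D.negUnipotent F : Set (GL D.Idx F)) := by
  have htri := triOK_of_mem D hD
  have hpos := posOK_of_mem D hD
  conv_lhs => unfold ChevalleyDatum.diagonalSubgroup
  rw [Subgroup.closure_le]
  rintro g ⟨r, c, hr, hc, hg⟩
  unfold ChevalleyDatum.negUnipotent
  apply mem_normalizer_closure_of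
  · rintro x ⟨s, t, hs, hx⟩
    have : x = xGL D F s t := Units.ext (by rw [hx, xGL_val D _ htri])
    rw [this, (hMat_conj_x D hD g r hr c hc hg s hs.1 t).1]
    exact ⟨s, _, hs, xGL_val D _ htri _ _⟩
  · rintro x ⟨s, t, hs, hx⟩
    have : x = xGL D F s t := Units.ext (by rw [hx, xGL_val D _ htri])
    rw [this, (hMat_conj_x D hD g r hr c hc hg s hs.1 t).2]
    exact ⟨s, _, hs, xGL_val D _ htri _ _⟩

end

end Cfsg.Agent.Helper18
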