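import Cfsg.Agent.Helper18.Parabolic

/-!
Helper18: the descent checks for the seven types; `P_J = ⟨H, X_r : r ∈ Φ⁺ ∪ Φ_J⟩` from the statement of S1031.
-/

set_option autoImplicit false

namespace Cfsg.Agent.Helper18

open Cfsg Cfsg.Lie

set_option maxRecDepth 100000 in
theorem descOK_G2 : descOK chevG2 reflTabsG2 (hlfOf chevG2) = true := by decide +kernel
set_option maxRecDepth 100000 in
theorem simplePosOK_G2 : simplePosOK chevG2 (hlfOf chevG2) = true := by decide +kernel

set_option maxRecDepth 100000 in
theorem descOK_B2 : descOK chevB2 reflTabsB2 (hlfOf chevB2) = true := by decide +kernel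
set_option maxRecDepth 100000 in
theorem simplePosOK_B2 : simplePosOK chevB2 (hlfOf chevB2) = true := by decide +kernel

set_option maxRecDepth 100000 in
theorem descOK_D4 : descOK chevD4 reflTabsD4 (hlfOf chevD4) = true := by decide +kernel
set_option maxRecDepth 100000 in
theorem simplePosOK_D4 : simplePosOK chevD4 (hlfOf chevD4) = true := by decide +kernel

set_option maxRecDepth 100000 in
theorem descOK_F4 : descOK chevF4 reflTabsF4 (hlfOf chevF4) = true := by decide +kernel
set_option maxRecDepth 100000 in
theorem simplePosOK_F4 : simplePosOK chevF4 (hlfOf chevF4) = true := by decide +kernel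

set_option maxRecDepth 100000 in
theorem descOK_E6 : descOK chevE6 reflTabsE6 (hlfOf chevE6) = true := by decide +kernel
set_option maxRecDepth 100000 in
theorem simplePosOK_E6 : simplePosOK chevE6 (hlfOf chevE6) = true := by decide +kernel

set_option maxRecDepth 100000 in
theorem descOK_E7 : descOK chevE7 reflTabsE7 (hlfOf chevE7) = true := by decide +kernel
set_option maxRecDepth 100000 in
theorem simplePosOK_E7 : simplePosOK chevE7 (hlfOf chevE7) = true := by decide +kernel

set_option maxRecDepth 100000 in
theorem descOK_E8 : descOK chevE8 reflTabsE8 (hlfOf chevE8) = true := by decide +kernel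
set_option maxRecDepth 100000 in
theorem simplePosOK_E8 : simplePosOK chevE8 (hlfOf chevE8) = true := by decide +kernel

theorem parabolic_eq_of_mem {F : Type*} [Field F] (D : ChevalleyDatum)
    (hD : D ∈ [chevG2, chevB2, chevD4, chevF4, chevE6, chevE7, chevE8]) (h31 : NConjHyp D F) (J : Set ℕ) :
    D.parabolicSubgroup F J = D.diagonalSubgroup F ⊔
      Subgroup.closure {g : GL D.Idx F | ∃ (r : ℕ) (t : F), (D.IsPosRoot r ∨ D.InRootSub J r) ∧
        (g : Matrix D.Idx D.Idx F) = D.x F r t} := by
  have hD' := hD
  simp only [List.mem_cons, List.not_mem_nil, or_false] at hD'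
  rcases hD' with rfl | rfl | rfl | rfl | rfl | rfl | rfl
  · exact parabolic_eq _ hD h31 _ tabsOK_G2 descOK_G2 simplePosOK_G2 (by decide) J
  · exact parabolic_eq _ hD h31 _ tabsOK_B2 descOK_B2 simplePosOK_B2 (by decide) J
  · exact parabolic_eq _ hD h31 _ tabsOK_D4 descOK_D4 simplePosOK_D4 (by decide) J
  · exact parabolic_eq _ hD h31 _ tabsOK_F4 descOK_F4 simplePosOK_F4 (by decide) J
  · exact parabolic_eq _ hD h31 _ tabsOK_E6 descOK_E6 simplePosOK_E6 (by decide) J
  · exact parabolic_eq _ hD h31 _ tabsOK_E7 descOK_E7 simplePosOK_E7 (by decide) J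
  · exact parabolic_eq _ hD h31 _ tabsOK_E8 descOK_E8 simplePosOK_E8 (by decide) J

end Cfsg.Agent.Helper18
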