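import Mathlib

/-!
Helper18: abstract rank-one computations. For two one-parameter families of matrices `X`, `Y` acting on
vectors as the root elements `x_r(t)`, `x_{-r}(u)` do on a 2-string, on an isolated vector, or on the block
spanned by `e_r`, `e_{-r}` and the `h_i`, we compute `n(t) = X(t) Y(-t⁻¹) X(t)` and `h(t) = n(t) n(-1)`.
-/

set_option autoImplicit false

namespace Cfsg.Agent.Helper18

section Abstract

variable {ι : Type*} [Fintype ι] {F : Type*} [Field F]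

/-- `n(t) v = X(t) (Y(-t⁻¹) (X(t) v))` -/
def nAct (X Y : F → Matrix ι ι F) (t : F) (v : ι → F) : ι → F :=
  (X t).mulVec ((Y (-t⁻¹)).mulVec ((X t).mulVec v))

/-- `h(t) v = n(t) (n(-1) v)` -/
def hAct (X Y : F → Matrix ι ι F) (t : F) (v : ι → F) : ι → F := nAct X Y t (nAct X Y (-1) v)

theorem nAct_add (X Y : F → Matrix ι ι F) (t : F) (v w : ι → F) :
    nAct X Y t (v + w) = nAct X Y t v + nAct X Y t w := by
  simp [nAct, Matrix.mulVec_add]

theorem nAct_sub (X Y : F → Matrix ι ι F) (t : F) (v w : ι → F) :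
    nAct X Y t (v - w) = nAct X Y t v - nAct X Y t w := by
  simp [nAct, Matrix.mulVec_sub]

theorem nAct_smul (X Y : F → Matrix ι ι F) (t c : F) (v : ι → F) :
    nAct X Y t (c • v) = c • nAct X Y t v := by
  simp [nAct, Matrix.mulVec_smul]

theorem nAct_neg (X Y : F → Matrix ι ι F) (t : F) (v : ι → F) :
    nAct X Y t (-v) = - nAct X Y t v := by
  simp [nAct, Matrix.mulVec_neg]

theorem nAct_sum {κ : Type*} (s : Finset κ) (X Y : F → Matrix ι ι F) (t : F) (v : κ → ι → F) :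
    nAct X Y t (∑ i ∈ s, v i) = ∑ i ∈ s, nAct X Y t (v i) := by
  simp [nAct, Matrix.mulVec_sum]

theorem nAct_isolated (X Y : F → Matrix ι ι F) (v : ι → F)
    (hX : ∀ t, (X t).mulVec v = v) (hY : ∀ u, (Y u).mulVec v = v) (t : F) : nAct X Y t v = v := by
  simp [nAct, hX, hY]

theorem hAct_isolated (X Y : F → Matrix ι ι F) (v : ι → F)
    (hX : ∀ t, (X t).mulVec v = v) (hY : ∀ u, (Y u).mulVec v = v) (t : F) : hAct X Y t v = v := by
  simp [hAct, nAct_isolated X Y v hX hY]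

/-- bottom of a 2-string -/
theorem nAct_bottom (X Y : F → Matrix ι ι F) (a b : ι → F) (M M' : F)
    (hXa : ∀ t, (X t).mulVec a = a + (M * t) • b) (hXb : ∀ t, (X t).mulVec b = b)
    (hYb : ∀ u, (Y u).mulVec b = b + (M' * u) • a) (hYa : ∀ u, (Y u).mulVec a = a)
    (hM : M * M' = 1) (t : F) (ht : t ≠ 0) : nAct X Y t a = (M * t) • b := by
  simp only [nAct, hXa, Matrix.mulVec_add, Matrix.mulVec_smul, hYa, hYb, hXb]
  have : M * t * (M' * -t⁻¹) = -1 := by
    field_simp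
    linear_combination (-1 : F) * hM
  rw [smul_add, smul_smul, this]
  module

/-- top of a 2-string -/
theorem nAct_top (X Y : F → Matrix ι ι F) (a b : ι → F) (M M' : F)
    (hXa : ∀ t, (X t).mulVec a = a + (M * t) • b) (hXb : ∀ t, (X t).mulVec b = b)
    (hYb : ∀ u, (Y u).mulVec b = b + (M' * u) • a)
    (hM : M * M' = 1) (t : F) (ht : t ≠ 0) : nAct X Y t b = (-M' * t⁻¹) • a := by
  simp only [nAct, hXa, Matrix.mulVec_add, Matrix.mulVec_smul, hYb, hXb]
  have : M' * -t⁻¹ * (M * t) = -1 := by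
    field_simp
    linear_combination (-1 : F) * hM
  rw [smul_add, smul_smul, this]
  module

theorem hAct_bottom (X Y : F → Matrix ι ι F) (a b : ι → F) (M M' : F)
    (hXa : ∀ t, (X t).mulVec a = a + (M * t) • b) (hXb : ∀ t, (X t).mulVec b = b)
    (hYb : ∀ u, (Y u).mulVec b = b + (M' * u) • a) (hYa : ∀ u, (Y u).mulVec a = a)
    (hM : M * M' = 1) (t : F) (ht : t ≠ 0) : hAct X Y t a = t⁻¹ • a := by
  have h1 : (-1 : F) ≠ 0 := by simp
  rw [hAct, nAct_bottom X Y a b M M' hXa hXb hYb hYa hM (-1) h1, nAct_smul,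
    nAct_top X Y a b M M' hXa hXb hYb hM t ht, smul_smul]
  congr 1
  linear_combination (t⁻¹) * hM

theorem hAct_top (X Y : F → Matrix ι ι F) (a b : ι → F) (M M' : F)
    (hXa : ∀ t, (X t).mulVec a = a + (M * t) • b) (hXb : ∀ t, (X t).mulVec b = b)
    (hYb : ∀ u, (Y u).mulVec b = b + (M' * u) • a) (hYa : ∀ u, (Y u).mulVec a = a)
    (hM : M * M' = 1) (t : F) (ht : t ≠ 0) : hAct X Y t b = t • b := by
  have h1 : (-1 : F) ≠ 0 := by simp
  rw [hAct, nAct_top X Y a b M M' hXa hXb hYb hM (-1) h1, nAct_smul,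
    nAct_bottom X Y a b M M' hXa hXb hYb hYa hM t ht, smul_smul]
  congr 1
  have : (-1 : F)⁻¹ = -1 := by simp [inv_neg]
  rw [this]
  linear_combination t * hM

/-- the hypotheses describing the block spanned by `e_r`, `e_{-r}` and the `h_i` -/
structure SpecialBlock (X Y : F → Matrix ι ι F) {l : ℕ} (e f : ι → F) (hv : Fin l → ι → F)
    (c a : Fin l → F) : Prop where
  Xe : ∀ t, (X t).mulVec e = e
  Xf : ∀ t, (X t).mulVec f = f + t • (∑ i, c i • hv i) - (t ^ 2) • e
  Xh : ∀ t i, (X t).mulVec (hv i) = hv i - (a i * t) • e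
  Yf : ∀ u, (Y u).mulVec f = f
  Ye : ∀ u, (Y u).mulVec e = e - u • (∑ i, c i • hv i) - (u ^ 2) • f
  Yh : ∀ u i, (Y u).mulVec (hv i) = hv i + (a i * u) • f
  two : ∑ i, c i * a i = 2

namespace SpecialBlock

variable {X Y : F → Matrix ι ι F} {l : ℕ} {e f : ι → F} {hv : Fin l → ι → F} {c a : Fin l → F}

theorem Xk (S : SpecialBlock X Y e f hv c a) (t : F) :
    (X t).mulVec (∑ i, c i • hv i) = (∑ i, c i • hv i) - (2 * t) • e := by
  rw [Matrix.mulVec_sum]
  simp only [Matrix.mulVec_smul, S.Xh, smul_sub, Finset.sum_sub_distrib, smul_smul]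
  congr 1
  rw [← Finset.sum_smul, ← S.two, Finset.sum_mul]
  congr 1
  apply Finset.sum_congr rfl
  intro i _
  ring

theorem Yk (S : SpecialBlock X Y e f hv c a) (u : F) :
    (Y u).mulVec (∑ i, c i • hv i) = (∑ i, c i • hv i) + (2 * u) • f := by
  rw [Matrix.mulVec_sum]
  simp only [Matrix.mulVec_smul, S.Yh, smul_add, Finset.sum_add_distrib, smul_smul]
  congr 1
  rw [← Finset.sum_smul, ← S.two, Finset.sum_mul]
  congr 1
  apply Finset.sum_congr rfl
  intro i _
  ring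

theorem n_e (S : SpecialBlock X Y e f hv c a) (t : F) (ht : t ≠ 0) :
    nAct X Y t e = (-(t⁻¹) ^ 2) • f := by
  simp only [nAct, S.Xe, S.Ye, Matrix.mulVec_sub, Matrix.mulVec_smul, S.Xk, S.Xf]
  generalize (∑ i, c i • hv i) = k
  match_scalars <;> field_simp <;> ring

theorem n_f (S : SpecialBlock X Y e f hv c a) (t : F) (ht : t ≠ 0) :
    nAct X Y t f = (-(t ^ 2)) • e := by
  simp only [nAct, S.Xe, S.Ye, S.Yf, Matrix.mulVec_sub, Matrix.mulVec_add, Matrix.mulVec_smul, S.Xk, S.Yk, S.Xf]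
  generalize (∑ i, c i • hv i) = k
  match_scalars <;> field_simp <;> ring

theorem n_h (S : SpecialBlock X Y e f hv c a) (t : F) (ht : t ≠ 0) (i : Fin l) :
    nAct X Y t (hv i) = hv i - a i • (∑ i, c i • hv i) := by
  simp only [nAct, S.Xe, S.Ye, S.Xh, S.Yh, Matrix.mulVec_sub, Matrix.mulVec_add, Matrix.mulVec_smul, S.Xk,
    S.Xf]
  generalize (∑ i, c i • hv i) = k
  match_scalars <;> field_simp <;> ring

theorem n_k (S : SpecialBlock X Y e f hv c a) (t : F) (ht : t ≠ 0) :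
    nAct X Y t (∑ i, c i • hv i) = - (∑ i, c i • hv i) := by
  rw [nAct_sum]
  simp only [nAct_smul, S.n_h t ht, smul_sub, Finset.sum_sub_distrib, smul_smul]
  rw [← Finset.sum_smul, S.two]
  module

theorem h_e (S : SpecialBlock X Y e f hv c a) (t : F) (ht : t ≠ 0) : hAct X Y t e = (t ^ 2) • e := by
  have h1 : (-1 : F) ≠ 0 := by simp
  rw [hAct, S.n_e (-1) h1, nAct_smul, S.n_f t ht, smul_smul]
  congr 1
  simp

theorem h_f (S : SpecialBlock X Y e f hv c a) (t : F) (ht : t ≠ 0) : hAct X Y t f = ((t⁻¹) ^ 2) • f := by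
  have h1 : (-1 : F) ≠ 0 := by simp
  rw [hAct, S.n_f (-1) h1, nAct_smul, S.n_e t ht, smul_smul]
  congr 1
  simp

theorem h_h (S : SpecialBlock X Y e f hv c a) (t : F) (ht : t ≠ 0) (i : Fin l) : hAct X Y t (hv i) = hv i := by
  have h1 : (-1 : F) ≠ 0 := by simp
  rw [hAct, S.n_h (-1) h1, nAct_sub, nAct_smul, S.n_h t ht, S.n_k t ht]
  module

end SpecialBlock

end Abstract

end Cfsg.Agent.Helper18
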