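import Cfsg.Agent.Helper18.ChevDiag
import Cfsg.Agent.Helper18.Rank1

/-!
Helper18: a cheap (linear-time) check on the tables of a `ChevalleyDatum` for a root `r` all of whose
strings have length at most two, and its consequences for `n_r(t)` and `h_r(t)`.
-/

set_option autoImplicit false

namespace Cfsg.Agent.Helper18

open Cfsg Cfsg.Lie

/-! ### List utilities -/

/-- the indices of the entries of `P` satisfying `p`, in increasing order -/
def idxOf (p : ℤ → Bool) (P : List ℤ) : List ℕ := (P.zipIdx.filter (fun q => p q.1)).map (·.2)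

theorem mem_idxOf {p : ℤ → Bool} {P : List ℤ} {s : ℕ} :
    s ∈ idxOf p P ↔ ∃ x, P[s]? = some x ∧ p x = true := by
  unfold idxOf
  simp only [List.mem_map, List.mem_filter, List.mem_zipIdx_iff_getElem?]
  constructor
  · rintro ⟨⟨x, i⟩, ⟨h1, h2⟩, rfl⟩
    exact ⟨x, h1, h2⟩
  · rintro ⟨x, h1, h2⟩
    exact ⟨(x, s), ⟨h1, h2⟩, rfl⟩

theorem nodup_idxOf (p : ℤ → Bool) (P : List ℤ) : (idxOf p P).Nodup := by
  unfold idxOf
  have h := List.nodup_zipIdx_map_snd P
  exact (List.Nodup.sublist (List.Sublist.map _ List.filter_sublist) h)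

/-- a one-pass version of `idxOf` -/
def idxFrom (p : ℤ → Bool) : List ℤ → ℕ → List ℕ
  | [], _ => []
  | a :: l, k => if p a then k :: idxFrom p l (k + 1) else idxFrom p l (k + 1)

theorem idxFrom_eq (p : ℤ → Bool) (P : List ℤ) (k : ℕ) :
    idxFrom p P k = ((P.zipIdx k).filter (fun q => p q.1)).map (·.2) := by
  induction P generalizing k with
  | nil => rfl
  | cons a l ih =>
    simp only [idxFrom, List.zipIdx_cons, List.filter_cons]
    by_cases h : p a = true
    · simp [h, ih]
    · simp [h, ih]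

theorem idxFrom_zero (p : ℤ → Bool) (P : List ℤ) : idxFrom p P 0 = idxOf p P := idxFrom_eq p P 0

/-- filtering a list with distinct keys by the key of one of its members -/
theorem filter_key_eq_singleton {α : Type*} (L : List (ℕ × α)) (hnd : (L.map (·.1)).Nodup) (e : ℕ × α)
    (he : e ∈ L) : L.filter (fun e' => decide (e'.1 = e.1)) = [e] := by
  induction L with
  | nil => cases he
  | cons a L ih =>
    simp only [List.map_cons, List.nodup_cons] at hnd
    rcases List.mem_cons.mp he with rfl | he'
    · have : L.filter (fun e' => decide (e'.1 = e.1)) = [] := by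
        rw [List.filter_eq_nil_iff]
        intro b hb
        simp only [decide_eq_true_eq]
        intro hbe
        exact hnd.1 (hbe ▸ List.mem_map_of_mem hb)
      simp [List.filter_cons, this]
    · have hne : ¬ a.1 = e.1 := by
        intro h
        exact hnd.1 (h ▸ List.mem_map_of_mem he')
      simp [List.filter_cons, hne, ih hnd.2 he']

theorem filter_key_eq_nil {α : Type*} (L : List (ℕ × α)) (s : ℕ) (hs : s ∉ L.map (·.1)) :
    L.filter (fun e' => decide (e'.1 = s)) = [] := by
  rw [List.filter_eq_nil_iff]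
  intro b hb
  simp only [decide_eq_true_eq]
  intro hbe
  exact hs (hbe ▸ List.mem_map_of_mem hb)

/-! ### The pairing vector -/

/-- the list of all pairings `2(r,s)/(r,r)`, `s < nroots`, computed row by row -/
def pairRow (D : ChevalleyDatum) (r : ℕ) : List ℤ :=
  (List.range D.rank).foldr
    (fun i acc => List.zipWith (fun a b => (D.coroot.getD r #[]).getD i 0 * a + b) (D.cartanSR.getD i #[]).toList acc)
    (List.replicate D.nroots 0)

theorem pairRow_aux (D : ChevalleyDatum) (r : ℕ) (hsz : ∀ i < D.rank, (D.cartanSR.getD i #[]).size = D.nroots)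
    (is : List ℕ) (his : ∀ i ∈ is, i < D.rank) :
    (is.foldr (fun i acc => List.zipWith (fun a b => (D.coroot.getD r #[]).getD i 0 * a + b)
        (D.cartanSR.getD i #[]).toList acc) (List.replicate D.nroots 0)).length = D.nroots ∧
    ∀ s < D.nroots, (is.foldr (fun i acc => List.zipWith (fun a b => (D.coroot.getD r #[]).getD i 0 * a + b)
        (D.cartanSR.getD i #[]).toList acc) (List.replicate D.nroots 0))[s]? =
      some ((is.map fun i => (D.coroot.getD r #[]).getD i 0 * (D.cartanSR.getD i #[]).getD s 0).sum) := by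
  induction is with
  | nil =>
    refine ⟨by simp, ?_⟩
    intro s hs
    simp [hs]
  | cons i is ih =>
    have hi : i < D.rank := his i (List.mem_cons_self)
    obtain ⟨ih1, ih2⟩ := ih (fun j hj => his j (List.mem_cons_of_mem _ hj))
    have hlen : (D.cartanSR.getD i #[]).toList.length = D.nroots := by
      rw [Array.length_toList]; exact hsz i hi
    refine ⟨?_, ?_⟩
    · simp only [List.foldr_cons, List.length_zipWith, ih1, hlen, min_self]
    · intro s hs
      simp only [List.foldr_cons, List.map_cons, List.sum_cons]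
      rw [List.getElem?_zipWith, ih2 s hs]
      have h1 : (D.cartanSR.getD i #[]).toList[s]? = some ((D.cartanSR.getD i #[]).getD s 0) := by
        have hs' : s < (D.cartanSR.getD i #[]).size := by rw [hsz i hi]; exact hs
        generalize D.cartanSR.getD i #[] = A at hs' ⊢
        rw [Array.getElem?_toList, Array.getD_eq_getD_getElem?, Array.getElem?_eq_getElem hs']
        rfl
      rw [h1]

theorem pairRow_length (D : ChevalleyDatum) (r : ℕ) (hsz : ∀ i < D.rank, (D.cartanSR.getD i #[]).size = D.nroots) :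
    (pairRow D r).length = D.nroots :=
  (pairRow_aux D r hsz (List.range D.rank) (fun _ hi => List.mem_range.mp hi)).1

theorem pairRow_getElem? (D : ChevalleyDatum) (r : ℕ) (hsz : ∀ i < D.rank, (D.cartanSR.getD i #[]).size = D.nroots)
    (s : ℕ) (hs : s < D.nroots) : (pairRow D r)[s]? = some (pairing' D r s) :=
  (pairRow_aux D r hsz (List.range D.rank) (fun _ hi => List.mem_range.mp hi)).2 s hs

/-! ### The check -/

/-- a pair of matching entries of `chain[r]` and `chain[-r]` -/
def pairOK (e₁ e₂ : ℕ × Array (ℕ × ℤ)) : Bool :=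
  match e₁.2.toList, e₂.2.toList with
  | [(s', M)], [(s0, M')] => decide (s' = e₂.1) && decide (s0 = e₁.1) && decide (M * M' = 1)
  | _, _ => false

/-- all pairs of a zip satisfy `pairOK`, and the lists have the same length -/
def zipOK : List (ℕ × Array (ℕ × ℤ)) → List (ℕ × Array (ℕ × ℤ)) → Bool
  | [], [] => true
  | e₁ :: l₁, e₂ :: l₂ => pairOK e₁ e₂ && zipOK l₁ l₂
  | _, _ => false

theorem pairOK_spec {e₁ e₂ : ℕ × Array (ℕ × ℤ)} (h : pairOK e₁ e₂ = true) :
    ∃ M M' : ℤ, e₁.2.toList = [(e₂.1, M)] ∧ e₂.2.toList = [(e₁.1, M')] ∧ M * M' = 1 := by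
  unfold pairOK at h
  split at h
  · rename_i s' M s0 M' h1 h2
    simp only [Bool.and_eq_true, decide_eq_true_eq] at h
    obtain ⟨⟨rfl, rfl⟩, hM⟩ := h
    exact ⟨M, M', h1, h2, hM⟩
  · exact absurd h (by simp)

theorem zipOK_left {l₁ l₂ : List (ℕ × Array (ℕ × ℤ))} (h : zipOK l₁ l₂ = true) :
    ∀ e₁ ∈ l₁, ∃ e₂ ∈ l₂, pairOK e₁ e₂ = true := by
  induction l₁ generalizing l₂ with
  | nil => intro e he; cases he
  | cons a l₁ ih =>
    cases l₂ with
    | nil => exact absurd h (by simp [zipOK])
    | cons b l₂ =>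
      simp only [zipOK, Bool.and_eq_true] at h
      intro e he
      rcases List.mem_cons.mp he with rfl | he'
      · exact ⟨b, List.mem_cons_self, h.1⟩
      · obtain ⟨e₂, h2, h3⟩ := ih h.2 e he'
        exact ⟨e₂, List.mem_cons_of_mem _ h2, h3⟩

theorem zipOK_right {l₁ l₂ : List (ℕ × Array (ℕ × ℤ))} (h : zipOK l₁ l₂ = true) :
    ∀ e₂ ∈ l₂, ∃ e₁ ∈ l₁, pairOK e₁ e₂ = true := by
  induction l₁ generalizing l₂ with
  | nil =>
    cases l₂ with
    | nil => intro e he; cases he
    | cons b l₂ => exact absurd h (by simp [zipOK])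
  | cons a l₁ ih =>
    cases l₂ with
    | nil => exact absurd h (by simp [zipOK])
    | cons b l₂ =>
      simp only [zipOK, Bool.and_eq_true] at h
      intro e he
      rcases List.mem_cons.mp he with rfl | he'
      · exact ⟨a, List.mem_cons_self, h.1⟩
      · obtain ⟨e₁, h2, h3⟩ := ih h.2 e he'
        exact ⟨e₁, List.mem_cons_of_mem _ h2, h3⟩

/-- the fast check for the root `r`: all `r`-strings have length at most 2 and match the `(-r)`-strings -/
def checkFast (D : ChevalleyDatum) (r : ℕ) : Bool :=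
  decide (r < D.nroots) && decide (D.neg r < D.nroots) && decide (D.neg (D.neg r) = r) &&
  (List.range D.rank).all (fun i => decide ((D.cartanSR.getD i #[]).size = D.nroots) &&
    decide ((D.coroot.getD (D.neg r) #[]).getD i 0 = - (D.coroot.getD r #[]).getD i 0) &&
    decide ((D.cartanSR.getD i #[]).getD (D.neg r) 0 = - (D.cartanSR.getD i #[]).getD r 0)) &&
  decide ((pairRow D r).getD r 0 = 2) && decide ((pairRow D r).getD (D.neg r) 0 = -2) &&
  zipOK (D.chain.getD r #[]).toList (D.chain.getD (D.neg r) #[]).toList &&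
  decide (idxFrom (fun x => x == -1) (pairRow D r) 0 = (D.chain.getD r #[]).toList.map (·.1)) &&
  decide (idxFrom (fun x => x == 1) (pairRow D r) 0 = (D.chain.getD (D.neg r) #[]).toList.map (·.1)) &&
  (idxFrom (fun x => x != 0 && x != 1 && x != -1) (pairRow D r) 0).all (fun s => s == r || s == D.neg r)

/-- `s` is the bottom and `s'` the top of an `r`-string of length two -/
structure IsTwoString (D : ChevalleyDatum) (r s s' : ℕ) (M M' : ℤ) : Prop where
  lt : s < D.nroots
  lt' : s' < D.nroots
  ne1 : s ≠ r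
  ne2 : s ≠ D.neg r
  ne3 : s' ≠ r
  ne4 : s' ≠ D.neg r
  c1 : colEntries D r s = [(s', 1, M)]
  c2 : colEntries D (D.neg r) s = []
  c3 : colEntries D r s' = []
  c4 : colEntries D (D.neg r) s' = [(s, 1, M')]
  mm : M * M' = 1
  p1 : pairing' D r s = -1
  p2 : pairing' D r s' = 1

/-- what `checkFast` gives -/
structure FastData (D : ChevalleyDatum) (r : ℕ) : Prop where
  hr : r < D.nroots
  hnr : D.neg r < D.nroots
  hnn : D.neg (D.neg r) = r
  hne : D.neg r ≠ r
  hcor : ∀ i < D.rank, (D.coroot.getD (D.neg r) #[]).getD i 0 = - (D.coroot.getD r #[]).getD i 0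
  hcar : ∀ i < D.rank, (D.cartanSR.getD i #[]).getD (D.neg r) 0 = - (D.cartanSR.getD i #[]).getD r 0
  hPr : pairing' D r r = 2
  hPnr : pairing' D r (D.neg r) = -2
  cls : ∀ s < D.nroots, s ≠ r → s ≠ D.neg r →
    (∃ s' M M', IsTwoString D r s s' M M') ∨ (∃ s0 M M', IsTwoString D r s0 s M M') ∨
      (colEntries D r s = [] ∧ colEntries D (D.neg r) s = [] ∧ pairing' D r s = 0)

theorem colEntries_of_filter (D : ChevalleyDatum) (r s : ℕ) (e : ℕ × Array (ℕ × ℤ)) (s' : ℕ) (M : ℤ)
    (hf : (D.chain.getD r #[]).toList.filter (fun e' => decide (e'.1 = s)) = [e])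
    (he : e.2.toList = [(s', M)]) : colEntries D r s = [(s', 1, M)] := by
  unfold colEntries
  rw [hf]
  simp [he]

theorem fastData_of_check (D : ChevalleyDatum) (r : ℕ) (h : checkFast D r = true) : FastData D r := by
  unfold checkFast at h
  simp only [Bool.and_eq_true, decide_eq_true_eq, List.all_eq_true, List.mem_range, idxFrom_zero] at h
  obtain ⟨⟨⟨⟨⟨⟨⟨⟨⟨hr, hnr⟩, hnn⟩, hrk⟩, hPr⟩, hPnr⟩, hzip⟩, hneg⟩, hpos⟩, hoth⟩ := h
  have hsz : ∀ i < D.rank, (D.cartanSR.getD i #[]).size = D.nroots := fun i hi => (hrk i hi).1.1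
  have hP : ∀ s < D.nroots, (pairRow D r)[s]? = some (pairing' D r s) := pairRow_getElem? D r hsz
  have hPr' : pairing' D r r = 2 := by
    have := hP r hr
    rw [List.getD_eq_getElem?_getD, this] at hPr
    exact hPr
  have hPnr' : pairing' D r (D.neg r) = -2 := by
    have := hP _ hnr
    rw [List.getD_eq_getElem?_getD, this] at hPnr
    exact hPnr
  have hne : D.neg r ≠ r := by
    intro e
    rw [e] at hPnr'
    omega
  -- membership in sources
  have hsrc1 : ∀ s, s ∈ (D.chain.getD r #[]).toList.map (·.1) ↔ (s < D.nroots ∧ pairing' D r s = -1) := by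
    intro s
    rw [← hneg, mem_idxOf]
    constructor
    · rintro ⟨x, h1, h2⟩
      have hs : s < D.nroots := by
        rw [← pairRow_length D r hsz]
        exact (List.getElem?_eq_some_iff.mp h1).1
      rw [hP s hs] at h1
      simp only [Option.some.injEq] at h1
      subst h1
      exact ⟨hs, by simpa using h2⟩
    · rintro ⟨hs, h1⟩
      exact ⟨_, hP s hs, by simp [h1]⟩
  have hsrc2 : ∀ s, s ∈ (D.chain.getD (D.neg r) #[]).toList.map (·.1) ↔ (s < D.nroots ∧ pairing' D r s = 1) := by
    intro s
    rw [← hpos, mem_idxOf]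
    constructor
    · rintro ⟨x, h1, h2⟩
      have hs : s < D.nroots := by
        rw [← pairRow_length D r hsz]
        exact (List.getElem?_eq_some_iff.mp h1).1
      rw [hP s hs] at h1
      simp only [Option.some.injEq] at h1
      subst h1
      exact ⟨hs, by simpa using h2⟩
    · rintro ⟨hs, h1⟩
      exact ⟨_, hP s hs, by simp [h1]⟩
  have hnd1 : ((D.chain.getD r #[]).toList.map (·.1)).Nodup := by rw [← hneg]; exact nodup_idxOf _ _
  have hnd2 : ((D.chain.getD (D.neg r) #[]).toList.map (·.1)).Nodup := by rw [← hpos]; exact nodup_idxOf _ _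
  -- two-strings from a pair of entries
  have htwo : ∀ e₁ ∈ (D.chain.getD r #[]).toList, ∀ e₂ ∈ (D.chain.getD (D.neg r) #[]).toList,
      pairOK e₁ e₂ = true → ∃ M M', IsTwoString D r e₁.1 e₂.1 M M' := by
    intro e₁ he₁ e₂ he₂ hok
    obtain ⟨M, M', h1, h2, hM⟩ := pairOK_spec hok
    have hs1 := (hsrc1 e₁.1).mp (List.mem_map_of_mem he₁)
    have hs2 := (hsrc2 e₂.1).mp (List.mem_map_of_mem he₂)
    refine ⟨M, M', ⟨hs1.1, hs2.1, ?_, ?_, ?_, ?_, ?_, ?_, ?_, ?_, hM, hs1.2, hs2.2⟩⟩
    · intro e; rw [e] at hs1; omega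
    · intro e; rw [e] at hs1; omega
    · intro e; rw [e] at hs2; omega
    · intro e; rw [e] at hs2; omega
    · exact colEntries_of_filter D r e₁.1 e₁ e₂.1 M (filter_key_eq_singleton _ hnd1 e₁ he₁) h1
    · unfold colEntries
      rw [filter_key_eq_nil]
      · rfl
      · intro hmem
        have := (hsrc2 e₁.1).mp hmem
        omega
    · unfold colEntries
      rw [filter_key_eq_nil]
      · rfl
      · intro hmem
        have := (hsrc1 e₂.1).mp hmem
        omega
    · exact colEntries_of_filter D (D.neg r) e₂.1 e₂ e₁.1 M' (filter_key_eq_singleton _ hnd2 e₂ he₂) h2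
  refine ⟨hr, hnr, hnn, hne, fun i hi => (hrk i hi).1.2, fun i hi => (hrk i hi).2, hPr', hPnr', ?_⟩
  intro s hs hsr hsnr
  by_cases hm1 : pairing' D r s = -1
  · left
    obtain ⟨e₁, he₁, rfl⟩ := List.mem_map.mp ((hsrc1 s).mpr ⟨hs, hm1⟩)
    obtain ⟨e₂, he₂, hok⟩ := zipOK_left hzip e₁ he₁
    obtain ⟨M, M', h2⟩ := htwo e₁ he₁ e₂ he₂ hok
    exact ⟨e₂.1, M, M', h2⟩
  · by_cases hp1 : pairing' D r s = 1
    · right; left
      obtain ⟨e₂, he₂, rfl⟩ := List.mem_map.mp ((hsrc2 s).mpr ⟨hs, hp1⟩)
      obtain ⟨e₁, he₁, hok⟩ := zipOK_right hzip e₂ he₂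
      obtain ⟨M, M', h2⟩ := htwo e₁ he₁ e₂ he₂ hok
      exact ⟨e₁.1, M, M', h2⟩
    · right; right
      have h0 : pairing' D r s = 0 := by
        by_contra h0
        have hmem : s ∈ idxOf (fun x => x != 0 && x != 1 && x != -1) (pairRow D r) := by
          rw [mem_idxOf]
          exact ⟨_, hP s hs, by simp [h0, hp1, hm1]⟩
        have := hoth s hmem
        simp only [Bool.or_eq_true, beq_iff_eq] at this
        rcases this with e | e
        · exact hsr e
        · exact hsnr e
      refine ⟨?_, ?_, h0⟩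
      · unfold colEntries
        rw [filter_key_eq_nil]
        · rfl
        · intro hmem
          have := (hsrc1 s).mp hmem
          omega
      · unfold colEntries
        rw [filter_key_eq_nil]
        · rfl
        · intro hmem
          have := (hsrc2 s).mp hmem
          omega

theorem pairing'_neg (D : ChevalleyDatum) (r s : ℕ)
    (hcor : ∀ i < D.rank, (D.coroot.getD (D.neg r) #[]).getD i 0 = - (D.coroot.getD r #[]).getD i 0) :
    pairing' D (D.neg r) s = - pairing' D r s := by
  unfold pairing'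
  have hgen : ∀ (l : List ℕ), (∀ i ∈ l, i < D.rank) →
      (l.map fun i => (D.coroot.getD (D.neg r) #[]).getD i 0 * (D.cartanSR.getD i #[]).getD s 0).sum =
      - (l.map fun i => (D.coroot.getD r #[]).getD i 0 * (D.cartanSR.getD i #[]).getD s 0).sum := by
    intro l
    induction l with
    | nil => simp
    | cons a l ih =>
      intro hl
      simp only [List.map_cons, List.sum_cons]
      rw [ih (fun i hi => hl i (List.mem_cons_of_mem _ hi)), hcor a (hl a List.mem_cons_self)]
      ring
  exact hgen _ (fun i hi => List.mem_range.mp hi)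

theorem IsTwoString.swap {D : ChevalleyDatum} {r s s' : ℕ} {M M' : ℤ} (h : IsTwoString D r s s' M M')
    (hnn : D.neg (D.neg r) = r)
    (hcor : ∀ i < D.rank, (D.coroot.getD (D.neg r) #[]).getD i 0 = - (D.coroot.getD r #[]).getD i 0) :
    IsTwoString D (D.neg r) s' s M' M where
  lt := h.lt'
  lt' := h.lt
  ne1 := h.ne4
  ne2 := by rw [hnn]; exact h.ne3
  ne3 := h.ne2
  ne4 := by rw [hnn]; exact h.ne1
  c1 := h.c4
  c2 := by rw [hnn]; exact h.c3
  c3 := h.c2
  c4 := by rw [hnn]; exact h.c1
  mm := by rw [mul_comm]; exact h.mm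
  p1 := by rw [pairing'_neg D r s' hcor, h.p2]
  p2 := by rw [pairing'_neg D r s hcor, h.p1]; norm_num

theorem FastData.neg {D : ChevalleyDatum} {r : ℕ} (h : FastData D r) : FastData D (D.neg r) where
  hr := h.hnr
  hnr := by rw [h.hnn]; exact h.hr
  hnn := by rw [h.hnn]
  hne := by rw [h.hnn]; exact h.hne.symm
  hcor := fun i hi => by rw [h.hnn, h.hcor i hi, neg_neg]
  hcar := fun i hi => by rw [h.hnn, h.hcar i hi, neg_neg]
  hPr := by rw [pairing'_neg D r _ h.hcor, h.hPnr]; norm_num
  hPnr := by rw [h.hnn, pairing'_neg D r _ h.hcor, h.hPr]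
  cls := by
    intro s hs h1 h2
    rw [h.hnn] at h2
    rcases h.cls s hs h2 h1 with ⟨s', M, M', h3⟩ | ⟨s0, M, M', h3⟩ | ⟨c1, c2, p0⟩
    · right; left
      exact ⟨s', M', M, h3.swap h.hnn h.hcor⟩
    · left
      exact ⟨s0, M', M, h3.swap h.hnn h.hcor⟩
    · right; right
      refine ⟨c2, by rw [h.hnn]; exact c1, by rw [pairing'_neg D r s h.hcor, p0]; norm_num⟩

section Mat
variable {F : Type*} [Field F]

/-- basis vector `h_i` -/
def bI (D : ChevalleyDatum) (i : Fin D.rank) : D.Idx → F := Pi.single (Sum.inl i) 1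
/-- basis vector `e_s` -/
def bR (D : ChevalleyDatum) (s : ℕ) (hs : s < D.nroots) : D.Idx → F := Pi.single (Sum.inr ⟨s, hs⟩) 1

theorem vecD_nil (x y z : F) (D : ChevalleyDatum) : vecD x y z D [] = 0 := rfl

theorem vecD_cons_code (x y z : F) (D : ChevalleyDatum) (j : D.Idx) (p : Poly) (v : SVec) :
    vecD x y z D ((code D j, p) :: v) = Pi.single j (peval x y z p) + vecD x y z D v := by
  rw [vecD_cons]
  congr 1
  funext i
  by_cases h : i = j
  · subst h; simp
  · have : ¬ code D j = code D i := fun e => h (code_injective D e).symm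
    simp [h, this]

theorem vecD_cons_inr (x y z : F) (D : ChevalleyDatum) (s : ℕ) (hs : s < D.nroots) (p : Poly) (v : SVec) :
    vecD x y z D ((D.rank + s, p) :: v) = peval x y z p • bR D s hs + vecD x y z D v := by
  have : D.rank + s = code D (Sum.inr ⟨s, hs⟩) := rfl
  rw [this, vecD_cons_code]
  congr 1
  funext i
  simp [bR, Pi.single_apply]

theorem vecD_cons_inl (x y z : F) (D : ChevalleyDatum) (i : Fin D.rank) (p : Poly) (v : SVec) :
    vecD x y z D ((i.val, p) :: v) = peval x y z p • bI D i + vecD x y z D v := by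
  have : i.val = code D (Sum.inl i) := rfl
  rw [this, vecD_cons_code]
  congr 1
  funext i
  simp [bI, Pi.single_apply]

theorem vecD_append (x y z : F) (D : ChevalleyDatum) (v w : SVec) :
    vecD x y z D (v ++ w) = vecD x y z D v + vecD x y z D w := by
  funext i
  simp [vecD, vec_append]

theorem vecD_map_range (x y z : F) (D : ChevalleyDatum) (f : ℕ → Poly) :
    vecD x y z D ((List.range D.rank).map fun i => (i, f i)) = ∑ i : Fin D.rank, peval x y z (f i) • bI D i := by
  funext j
  simp only [vecD, vec_map_range, Finset.sum_apply, Pi.smul_apply, bI, Pi.single_apply, smul_eq_mul]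
  rcases j with a | u
  · have : code D (Sum.inl a) = a.val := rfl
    rw [this, if_pos a.2]
    rw [Finset.sum_eq_single a]
    · simp
    · intro b _ hb
      have : ¬ (Sum.inl a : D.Idx) = Sum.inl b := by
        intro e; exact hb (Sum.inl.inj e).symm
      simp [this]
    · intro h; exact absurd (Finset.mem_univ _) h
  · have : code D (Sum.inr u) = D.rank + u.val := rfl
    rw [this, if_neg (by omega)]
    symm
    apply Finset.sum_eq_zero
    intro b _
    simp

/-- the column `j` of `x_r(τ)` -/
theorem x_mulVec_single (D : ChevalleyDatum) (r : ℕ) (τ : F) (j : D.Idx) :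
    (D.x F r τ).mulVec (Pi.single j 1) = vecD τ 0 0 D (xCol D r pX (code D j)) := by
  funext i
  rw [Matrix.mulVec_single_one]
  simp [vecD, xCol_spec, Matrix.col]

/-- generic column -/
theorem xCol_generic (D : ChevalleyDatum) (r s : ℕ) (hr : r < D.nroots) (hs : s < D.nroots) (h1 : s ≠ r)
    (h2 : s ≠ D.neg r) :
    xCol D r pX (D.rank + s) = (D.rank + s, pconst 1) :: (colEntries D r s).map fun e =>
      (D.rank + e.1, pmul (pconst e.2.2) (ppow pX e.2.1)) := by
  unfold xCol
  have h3 : ¬ D.rank + s < D.rank := by omega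
  have h4 : D.rank + s - D.rank = s := by omega
  have h2' : ¬ s = D.negIdx.getD r 0 := h2
  rw [if_pos hr, if_neg h3, h4, if_pos hs, if_neg h1, if_neg h2']

theorem x_isolated (D : ChevalleyDatum) (r s : ℕ) (hr : r < D.nroots) (hs : s < D.nroots) (h1 : s ≠ r)
    (h2 : s ≠ D.neg r) (hc : colEntries D r s = []) (τ : F) :
    (D.x F r τ).mulVec (bR D s hs) = bR D s hs := by
  unfold bR
  rw [x_mulVec_single]
  have : code D (Sum.inr ⟨s, hs⟩) = D.rank + s := rfl
  rw [this, xCol_generic D r s hr hs h1 h2, hc]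
  simp only [List.map_nil]
  rw [vecD_cons_inr _ _ _ D s hs, vecD_nil]
  simp [bR]

theorem x_step (D : ChevalleyDatum) (r s s' : ℕ) (M : ℤ) (hr : r < D.nroots) (hs : s < D.nroots)
    (hs' : s' < D.nroots) (h1 : s ≠ r) (h2 : s ≠ D.neg r) (hc : colEntries D r s = [(s', 1, M)]) (τ : F) :
    (D.x F r τ).mulVec (bR D s hs) = bR D s hs + ((M : F) * τ) • bR D s' hs' := by
  unfold bR
  rw [x_mulVec_single]
  have : code D (Sum.inr ⟨s, hs⟩) = D.rank + s := rfl
  rw [this, xCol_generic D r s hr hs h1 h2, hc]
  simp only [List.map_cons, List.map_nil]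
  rw [vecD_cons_inr _ _ _ D s hs, vecD_cons_inr _ _ _ D s' hs', vecD_nil]
  simp [bR, peval_pmul, peval_ppow]

theorem x_self (D : ChevalleyDatum) (r : ℕ) (hr : r < D.nroots) (τ : F) :
    (D.x F r τ).mulVec (bR D r hr) = bR D r hr := by
  unfold bR
  rw [x_mulVec_single]
  have : code D (Sum.inr ⟨r, hr⟩) = D.rank + r := rfl
  rw [this]
  have h3 : ¬ D.rank + r < D.rank := by omega
  have h4 : D.rank + r - D.rank = r := by omega
  have : xCol D r pX (D.rank + r) = [(D.rank + r, pconst 1)] := by
    unfold xCol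
    rw [if_pos hr, if_neg h3, h4, if_pos hr, if_pos rfl]
  rw [this, vecD_cons_inr _ _ _ D r hr, vecD_nil]
  simp [bR]

theorem x_neg (D : ChevalleyDatum) (r nr : ℕ) (hr : r < D.nroots) (hnr : nr < D.nroots) (heq : nr = D.neg r)
    (hne : nr ≠ r) (τ : F) :
    (D.x F r τ).mulVec (bR D nr hnr) =
      bR D nr hnr + τ • (∑ i : Fin D.rank, (((D.coroot.getD r #[]).getD i 0 : ℤ) : F) • bI D i) -
        (τ ^ 2) • bR D r hr := by
  unfold bR
  rw [x_mulVec_single]
  have : code D (Sum.inr ⟨nr, hnr⟩) = D.rank + nr := rfl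
  rw [this]
  have h3 : ¬ D.rank + nr < D.rank := by omega
  have h4 : D.rank + nr - D.rank = nr := by omega
  have h5 : nr = D.negIdx.getD r 0 := heq
  have : xCol D r pX (D.rank + nr) =
      ((List.range D.rank).map fun i => (i, pmul (pconst ((D.coroot.getD r #[]).getD i 0)) pX)) ++
        [(D.rank + nr, pconst 1), (D.rank + r, pmul (pconst (-1)) (pmul pX pX))] := by
    unfold xCol
    rw [if_pos hr, if_neg h3, h4, if_pos hnr, if_neg hne, if_pos h5]
  rw [this, vecD_append, vecD_map_range, vecD_cons_inr _ _ _ D _ hnr, vecD_cons_inr _ _ _ D r hr, vecD_nil]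
  simp only [peval_pmul, peval_pconst, peval_pX, bR, Finset.smul_sum, smul_smul]
  have e1 : ∀ i : Fin D.rank, (((D.coroot.getD r #[]).getD i.val 0 : ℤ) : F) * τ =
      τ * (((D.coroot.getD r #[]).getD i.val 0 : ℤ) : F) := fun i => mul_comm _ _
  simp only [e1]
  module

theorem x_cartan (D : ChevalleyDatum) (r : ℕ) (hr : r < D.nroots) (i : Fin D.rank) (τ : F) :
    (D.x F r τ).mulVec (bI D i) =
      bI D i - ((((D.cartanSR.getD i #[]).getD r 0 : ℤ) : F) * τ) • bR D r hr := by
  unfold bI
  rw [x_mulVec_single]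
  have : code D (Sum.inl i) = i.val := rfl
  rw [this]
  have : xCol D r pX i.val =
      [(i.val, pconst 1), (D.rank + r, pmul (pconst (- ((D.cartanSR.getD i.val #[]).getD r 0))) pX)] := by
    unfold xCol
    rw [if_pos hr, if_pos i.2]
  rw [this, vecD_cons_inl, vecD_cons_inr _ _ _ D r hr, vecD_nil]
  simp only [peval_pmul, peval_pconst, peval_pX, bR, bI]
  push_cast
  module

theorem list_range_sum_eq (n : ℕ) (f : ℕ → ℤ) :
    (((List.range n).map f).sum : ℤ) = ∑ i : Fin n, f i.val := by
  induction n with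
  | zero => simp
  | succ n ih =>
    rw [List.range_succ, List.map_append, List.sum_append, ih, Fin.sum_univ_castSucc]
    simp

theorem specialBlock_of_fast (D : ChevalleyDatum) (r : ℕ) (h : FastData D r) :
    SpecialBlock (F := F) (fun t => D.x F r t) (fun u => D.x F (D.neg r) u)
      (bR D r h.hr) (bR D (D.neg r) h.hnr) (fun i => bI D i)
      (fun i : Fin D.rank => (((D.coroot.getD r #[]).getD i.val 0 : ℤ) : F))
      (fun i : Fin D.rank => (((D.cartanSR.getD i.val #[]).getD r 0 : ℤ) : F)) where
  Xe := fun t => x_self D r h.hr t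
  Xf := fun t => x_neg D r (D.neg r) h.hr h.hnr rfl h.hne t
  Xh := fun t i => x_cartan D r h.hr i t
  Yf := fun u => x_self D (D.neg r) h.hnr u
  Ye := fun u => by
    have h1 := x_neg (F := F) D (D.neg r) r h.hnr h.hr h.hnn.symm h.hne.symm u
    rw [h1]
    have e1 : ∀ i : Fin D.rank, (((D.coroot.getD (D.neg r) #[]).getD i.val 0 : ℤ) : F) =
        - (((D.coroot.getD r #[]).getD i.val 0 : ℤ) : F) := by
      intro i
      rw [h.hcor i i.2]
      push_cast
      rfl
    simp only [e1, neg_smul, Finset.sum_neg_distrib, smul_neg]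
    module
  Yh := fun u i => by
    rw [x_cartan D (D.neg r) h.hnr i u, h.hcar i i.2]
    push_cast
    module
  two := by
    have h2 := h.hPr
    unfold pairing' at h2
    rw [list_range_sum_eq] at h2
    have h3 := congrArg (fun z : ℤ => (z : F)) h2
    push_cast at h3
    exact h3

theorem hMat_mulVec_eq_hAct (D : ChevalleyDatum) (r : ℕ) (t : F) (v : D.Idx → F) :
    (D.hMat F r t).mulVec v = hAct (fun t => D.x F r t) (fun u => D.x F (D.neg r) u) t v := by
  simp [ChevalleyDatum.hMat, ChevalleyDatum.hWord, ChevalleyDatum.nWord, ChevalleyDatum.wordMat, hAct, nAct,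
    Matrix.mulVec_mulVec]

theorem nMat_mulVec_eq_nAct (D : ChevalleyDatum) (r : ℕ) (t : F) (v : D.Idx → F) :
    (D.nMat F r t).mulVec v = nAct (fun t => D.x F r t) (fun u => D.x F (D.neg r) u) t v := by
  simp [ChevalleyDatum.nMat, ChevalleyDatum.nWord, ChevalleyDatum.wordMat, nAct,
    Matrix.mulVec_mulVec]

theorem hMat_eq_diagonal_of_fastData (D : ChevalleyDatum) (r : ℕ) (hd : FastData D r) (t : F) (ht : t ≠ 0) :
    D.hMat F r t = Matrix.diagonal fun j => t ^ wt D r (code D j) := by
  have hS := specialBlock_of_fast (F := F) D r hd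
  apply matrix_ext_mulVec
  intro j
  rw [hMat_mulVec_eq_hAct]
  have hdiag : ∀ (j : D.Idx) (c : F), (Matrix.diagonal fun j => t ^ wt D r (code D j)).mulVec (Pi.single j c)
      = (t ^ wt D r (code D j) * c) • Pi.single j (1 : F) := by
    intro j c
    funext i
    simp only [Matrix.mulVec_single, Pi.smul_apply, Matrix.col_apply, Matrix.diagonal_apply, MulOpposite.smul_eq_mul_unop,
      MulOpposite.unop_op, Pi.single_apply, smul_eq_mul]
    by_cases hij : i = j
    · subst hij; simp
    · have : ¬ j = i := fun e => hij e.symm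
      simp [hij, this]
  rw [hdiag, mul_one]
  rcases j with i | s
  · -- h_i
    have hw : wt D r (code D (Sum.inl i)) = 0 := by
      have : code D (Sum.inl i) = i.val := rfl
      rw [this, wt, if_pos i.2]
    rw [hw, zpow_zero, one_smul]
    exact hS.h_h t ht i
  · have hw : wt D r (code D (Sum.inr s)) = pairing' D r s.val := by
      have : code D (Sum.inr s) = D.rank + s.val := rfl
      rw [this, wt, if_neg (by omega)]
      congr 1
      omega
    rw [hw]
    by_cases hsr : s.val = r
    · have hs : s = ⟨r, hd.hr⟩ := Fin.ext hsr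
      subst hs
      rw [hd.hPr]
      have := hS.h_e t ht
      simpa [bR] using this
    · by_cases hsn : s.val = D.neg r
      · have hs : s = ⟨D.neg r, hd.hnr⟩ := Fin.ext hsn
        subst hs
        rw [hd.hPnr]
        have := hS.h_f t ht
        simp only [bR] at this
        rw [this]
        congr 1
        rw [zpow_neg, ← inv_zpow]
        norm_cast
      · rcases hd.cls s.val s.2 hsr hsn with ⟨s', M, M', h2⟩ | ⟨s0, M, M', h2⟩ | ⟨c1, c2, p0⟩
        · -- bottom
          rw [h2.p1]
          have hM : ((M : ℤ) : F) * ((M' : ℤ) : F) = 1 := by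
            have := congrArg (fun z : ℤ => (z : F)) h2.mm
            push_cast at this
            exact this
          have := hAct_bottom (fun t => D.x F r t) (fun u => D.x F (D.neg r) u) (bR D s.val s.2) (bR D s' h2.lt')
            (M : F) (M' : F)
            (fun t => x_step D r s.val s' M hd.hr s.2 h2.lt' h2.ne1 h2.ne2 h2.c1 t)
            (fun t => x_isolated D r s' hd.hr h2.lt' h2.ne3 h2.ne4 h2.c3 t)
            (fun u => x_step D (D.neg r) s' s.val M' hd.hnr h2.lt' s.2 h2.ne4 (by rw [hd.hnn]; exact h2.ne3) h2.c4 u)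
            (fun u => x_isolated D (D.neg r) s.val hd.hnr s.2 h2.ne2 (by rw [hd.hnn]; exact h2.ne1) h2.c2 u)
            hM t ht
          simp only [bR] at this
          rw [this]
          simp
        · -- top
          rw [h2.p2]
          have hM : ((M : ℤ) : F) * ((M' : ℤ) : F) = 1 := by
            have := congrArg (fun z : ℤ => (z : F)) h2.mm
            push_cast at this
            exact this
          have := hAct_top (fun t => D.x F r t) (fun u => D.x F (D.neg r) u) (bR D s0 h2.lt) (bR D s.val s.2)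
            (M : F) (M' : F)
            (fun t => x_step D r s0 s.val M hd.hr h2.lt s.2 h2.ne1 h2.ne2 h2.c1 t)
            (fun t => x_isolated D r s.val hd.hr s.2 h2.ne3 h2.ne4 h2.c3 t)
            (fun u => x_step D (D.neg r) s.val s0 M' hd.hnr s.2 h2.lt h2.ne4 (by rw [hd.hnn]; exact h2.ne3) h2.c4 u)
            (fun u => x_isolated D (D.neg r) s0 hd.hnr h2.lt h2.ne2 (by rw [hd.hnn]; exact h2.ne1) h2.c2 u)
            hM t ht
          simp only [bR] at this
          rw [this]
          simp
        · -- isolated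
          rw [p0, zpow_zero, one_smul]
          have := hAct_isolated (fun t => D.x F r t) (fun u => D.x F (D.neg r) u) (bR D s.val s.2)
            (fun t => x_isolated D r s.val hd.hr s.2 hsr hsn c1 t)
            (fun u => x_isolated D (D.neg r) s.val hd.hnr s.2 hsn (by rw [hd.hnn]; exact hsr) c2 u) t
          simpa [bR] using this

theorem hMat_eq_diagonal_of_fast (D : ChevalleyDatum) (r : ℕ) (h : checkFast D r = true) (t : F) (ht : t ≠ 0) :
    D.hMat F r t = Matrix.diagonal fun j => t ^ wt D r (code D j) :=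
  hMat_eq_diagonal_of_fastData D r (fastData_of_check D r h) t ht

theorem hMat_eq_diagonal_of_fast_neg (D : ChevalleyDatum) (r : ℕ) (h : checkFast D r = true) (t : F) (ht : t ≠ 0) :
    D.hMat F (D.neg r) t = Matrix.diagonal fun j => t ^ wt D (D.neg r) (code D j) :=
  hMat_eq_diagonal_of_fastData D (D.neg r) (fastData_of_check D r h).neg t ht

end Mat
end Cfsg.Agent.Helper18
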