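import Cfsg.Agent.Helper18.CommTerms
import Cfsg.Agent.Helper18.Borel
import Cfsg.Agent.Helper18.ParabolicAll
import Cfsg.Agent.S1023

/-!
# The subgroup `U_p` (`p` fundamental)

From the statement of S1025 (hypothesis `CommHyp`): `X_p` and `X_{-p}` normalise the subgroup `U_p` generated by the
`X_s`, `s` positive, `s ≠ p`; and `U = U_p X_p`.
-/

set_option autoImplicit false

namespace Cfsg.Agent.Helper18

open Cfsg Cfsg.Lie Matrix

/-- the statement of S1025 for the datum `D` over `F` -/
def CommHyp (D : ChevalleyDatum) (F : Type*) [Field F] : Prop :=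
  ∀ r s : ℕ, r < D.nroots → s < D.nroots → s ≠ r → s ≠ D.neg r → ∀ t u : F,
    D.x F s u * D.x F r t = D.x F r t * D.x F s u * D.wordMat F (D.commWord F r s t u)

/-- the subgroup `U_p` generated by the `X_s`, `s` positive and `s ≠ p_i` -/
def Up (D : ChevalleyDatum) (F : Type*) [Field F] (i : ℕ) : Subgroup (GL D.Idx F) :=
  Subgroup.closure {g : GL D.Idx F | ∃ (s : ℕ) (t : F), D.IsPosRoot s ∧ s ≠ D.simple i ∧
    (g : Matrix D.Idx D.Idx F) = D.x F s t}

section
variable {F : Type*} [Field F]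
variable (D : ChevalleyDatum) (hD : D ∈ [chevG2, chevB2, chevD4, chevF4, chevE6, chevE7, chevE8])
include hD

theorem simple_pos (j : ℕ) (hj : j < D.rank) : hlfOf D ≤ D.simple j := by
  have h : simplePosOK D (hlfOf D) = true := by
    simp only [List.mem_cons, List.not_mem_nil, or_false] at hD
    rcases hD with rfl | rfl | rfl | rfl | rfl | rfl | rfl
    exacts [simplePosOK_G2, simplePosOK_B2, simplePosOK_D4, simplePosOK_F4, simplePosOK_E6, simplePosOK_E7,
      simplePosOK_E8]
  unfold simplePosOK at h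
  rw [List.all_eq_true] at h
  have := h j (List.mem_range.mpr hj)
  simp only [Bool.and_eq_true, decide_eq_true_eq] at this
  exact this.1.1

theorem xGL_mul_neg (r : ℕ) (t : F) : xGL D F r t * xGL D F r (-t) = 1 := by
  have htri := triOK_of_mem D hD
  apply Units.ext
  rw [Units.val_mul, xGL_val D _ htri, xGL_val D _ htri, Units.val_one]
  by_cases hr : r < D.nroots
  · rw [Cfsg.Agent.S1023.result D hD r hr, add_neg_cancel, x_zero]
  · unfold ChevalleyDatum.x
    rw [dif_neg hr, dif_neg hr, mul_one]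

theorem xGL_inv' (r : ℕ) (t : F) : (xGL D F r t)⁻¹ = xGL D F r (-t) :=
  inv_eq_of_mul_eq_one_right (xGL_mul_neg D hD r t)

theorem xGL_mem_Up (i s : ℕ) (hs : hlfOf D ≤ s ∧ s < D.nroots) (hsp : s ≠ D.simple i) (t : F) :
    xGL D F s t ∈ Up D F i := by
  apply Subgroup.subset_closure
  exact ⟨s, t, (isPosRoot_iff D _ (posOK_of_mem D hD) s).mpr hs, hsp, xGL_val D _ (triOK_of_mem D hD) s t⟩

/-- the commutator formula in the general linear group -/
theorem comm_xGL (h25 : CommHyp D F) (r s : ℕ) (hr : r < D.nroots) (hs : s < D.nroots) (h1 : s ≠ r)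
    (h2 : s ≠ D.neg r) (t u : F) :
    (xGL D F r t)⁻¹ * xGL D F s u * xGL D F r t = xGL D F s u * wordGL D F (D.commWord F r s t u) := by
  have htri := triOK_of_mem D hD
  rw [mul_assoc, inv_mul_eq_iff_eq_mul, ← mul_assoc (xGL D F r t)]
  apply Units.ext
  simp only [Units.val_mul, xGL_val D _ htri, wordGL_val D _ htri]
  exact h25 r s hr hs h1 h2 t u

/-- `x_r(t)⁻¹ x_s(u) x_r(t) ∈ U_p` for `r = ± p` and `s` positive, `s ≠ p` -/
theorem conj_mem_Up (h25 : CommHyp D F) (i : ℕ) (hi : i < D.rank) (r : ℕ)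
    (hr : r = D.simple i ∨ r = D.neg (D.simple i)) (s : ℕ) (hs : hlfOf D ≤ s ∧ s < D.nroots)
    (hsp : s ≠ D.simple i) (t u : F) :
    (xGL D F r t)⁻¹ * xGL D F s u * xGL D F r t ∈ Up D F i := by
  have htri := triOK_of_mem D hD
  have hpi := simple_lt D (simpleOK_of_mem D hD) i hi
  obtain ⟨hnpi, hnn, h3, h4⟩ := triOK_spec D _ htri _ hpi
  have hrlt : r < D.nroots := by rcases hr with rfl | rfl <;> assumption
  have hpos : hlfOf D ≤ D.simple i := simple_pos D hD i hi
  have h1 : s ≠ r := by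
    rcases hr with rfl | rfl
    · exact hsp
    · intro e
      have := h4 hpos
      omega
  have h2 : s ≠ D.neg r := by
    rcases hr with rfl | rfl
    · intro e
      have := h4 hpos
      omega
    · rw [hnn]; exact hsp
  rw [comm_xGL D hD h25 r s hrlt hs.2 h1 h2 t u]
  apply mul_mem (xGL_mem_Up D hD i s hs hsp u)
  unfold wordGL ChevalleyDatum.commWord
  apply Subgroup.list_prod_mem
  intro g hg
  simp only [List.map_map, List.mem_map, Function.comp_apply] at hg
  obtain ⟨c, hc, rfl⟩ := hg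
  obtain ⟨c1, c2, c3⟩ := commTerms_pos D hD i hi r s hr hs hsp c hc
  exact xGL_mem_Up D hD i c.1 ⟨c1, c2⟩ c3 _

/-- `X_p` and `X_{-p}` normalise `U_p` -/
theorem rootSubgroup_le_normalizer_Up (h25 : CommHyp D F) (i : ℕ) (hi : i < D.rank) :
    D.rootSubgroup F (D.simple i) ⊔ D.rootSubgroup F (D.neg (D.simple i)) ≤
      Subgroup.normalizer (Up D F i : Set (GL D.Idx F)) := by
  have htri := triOK_of_mem D hD
  have hposOK := posOK_of_mem D hD
  have key : ∀ r, (r = D.simple i ∨ r = D.neg (D.simple i)) →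
      D.rootSubgroup F r ≤ Subgroup.normalizer (Up D F i : Set (GL D.Idx F)) := by
    intro r hr
    unfold ChevalleyDatum.rootSubgroup
    rw [Subgroup.closure_le]
    rintro g ⟨t, hg⟩
    have hgx : g = xGL D F r t := Units.ext (by rw [hg, xGL_val D _ htri])
    rw [hgx, SetLike.mem_coe]
    unfold Up
    apply mem_normalizer_closure_of'
    · rintro x ⟨s, u, hs, hsp, hx⟩
      have hxx : x = xGL D F s u := Units.ext (by rw [hx, xGL_val D _ htri])
      have := conj_mem_Up D hD h25 i hi r hr s ((isPosRoot_iff D _ hposOK s).mp hs) hsp (-t) u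
      rw [xGL_inv' D hD r (-t), neg_neg, ← xGL_inv' D hD r t] at this
      rw [hxx]
      exact this
    · rintro x ⟨s, u, hs, hsp, hx⟩
      have hxx : x = xGL D F s u := Units.ext (by rw [hx, xGL_val D _ htri])
      rw [hxx]
      exact conj_mem_Up D hD h25 i hi r hr s ((isPosRoot_iff D _ hposOK s).mp hs) hsp t u
  exact sup_le (key _ (Or.inl rfl)) (key _ (Or.inr rfl))

/-- `U = U_p ⊔ X_p` -/
theorem Up_sup_rootSubgroup (i : ℕ) (hi : i < D.rank) :
    Up D F i ⊔ D.rootSubgroup F (D.simple i) = D.posUnipotent F := by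
  have hposOK := posOK_of_mem D hD
  have hpi := simple_lt D (simpleOK_of_mem D hD) i hi
  have hP : D.IsPosRoot (D.simple i) := (isPosRoot_iff D _ hposOK _).mpr ⟨simple_pos D hD i hi, hpi⟩
  apply le_antisymm
  · apply sup_le
    · unfold Up ChevalleyDatum.posUnipotent
      apply Subgroup.closure_mono
      rintro g ⟨s, t, hs, -, hg⟩
      exact ⟨s, t, hs, hg⟩
    · unfold ChevalleyDatum.rootSubgroup ChevalleyDatum.posUnipotent
      apply Subgroup.closure_mono
      rintro g ⟨t, hg⟩
      exact ⟨_, t, hP, hg⟩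
  · conv_lhs => unfold ChevalleyDatum.posUnipotent
    rw [Subgroup.closure_le]
    rintro g ⟨s, t, hs, hg⟩
    by_cases hsp : s = D.simple i
    · apply Subgroup.mem_sup_right
      apply Subgroup.subset_closure
      exact ⟨t, by rw [hg, hsp]⟩
    · apply Subgroup.mem_sup_left
      apply Subgroup.subset_closure
      exact ⟨s, t, hs, hsp, hg⟩

end

end Cfsg.Agent.Helper18
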