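import Cfsg.Agent.Helper19.Cox.Action

/-!
# Faithfulness of a permutation action of a Coxeter group from a base and transversals

Given the table action `phi` of helper19 and, for a list of base points, words whose images are
pairwise distinct modulo the stabiliser chain, the image of `phi` has at least as many elements as
the product of the transversal sizes; if this is the order of the group, `phi` is injective.
-/

set_option autoImplicit false

namespace Cfsg.Agent.Helper18

open Cfsg.Agent.Helper19.Cox

/-- a level: base point and words (representatives of the cosets of the next stabiliser) -/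
abbrev GLevel := ℕ × List (List ℕ)

/-- every word of a level fixes the previous base points and the words of a level move the base point of the
level to distinct points -/
def checkG (T : List ℕ) (n d : ℕ) : List ℕ → List GLevel → Bool
  | _, [] => true
  | prev, lv :: rest =>
    (lv.2.all fun r => prev.all fun y => actW T n d r y == y) &&
    nodupB (lv.2.map fun r => actW T n d r lv.1) && checkG T n d (lv.1 :: prev) rest

/-- the words `r₁ ++ r₂ ++ ⋯`, one representative from each level -/
def eltsW : List GLevel → List (List ℕ)
  | [] => [[]]
  | lv :: rest => lv.2.flatMap fun r => (eltsW rest).map (r ++ ·)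

theorem eltsW_length (levels : List GLevel) :
    (eltsW levels).length = (levels.map fun lv => lv.2.length).prod := by
  induction levels with
  | nil => simp [eltsW]
  | cons lv rest ih =>
    simp only [eltsW, List.length_flatMap, List.length_map, ih, List.map_cons, List.prod_cons]
    rw [List.map_const', List.sum_replicate, smul_eq_mul]

theorem actW_append (T : List ℕ) (n d : ℕ) (r u : List ℕ) (x : ℕ) :
    actW T n d (r ++ u) x = actW T n d r (actW T n d u x) := by
  unfold actW
  rw [List.foldr_append]

theorem eltsW_fix (T : List ℕ) (n d : ℕ) : ∀ (levels : List GLevel) (prev : List ℕ),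
    checkG T n d prev levels = true → ∀ w ∈ eltsW levels, ∀ y ∈ prev, actW T n d w y = y := by
  intro levels
  induction levels with
  | nil =>
    intro prev _ w hw y _
    simp only [eltsW, List.mem_singleton] at hw
    subst hw
    rfl
  | cons lv rest ih =>
    intro prev h w hw y hy
    simp only [checkG, Bool.and_eq_true] at h
    obtain ⟨⟨h1, -⟩, h3⟩ := h
    simp only [eltsW, List.mem_flatMap, List.mem_map] at hw
    obtain ⟨r, hr, u, hu, rfl⟩ := hw
    rw [actW_append, ih (lv.1 :: prev) h3 u hu y (List.mem_cons_of_mem _ hy)]
    rw [List.all_eq_true] at h1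
    have h2 := h1 r hr
    rw [List.all_eq_true] at h2
    simpa using h2 y hy

section Hom

variable {n : ℕ} (M : CoxeterMatrix (Fin n)) {T : List ℕ} {d : ℕ} (Mx : ℕ → ℕ → ℕ)
  (hI : checkInvol T n d = true) (hB : checkBraid Mx T n d = true)
  (hMx : ∀ a b (ha : a < n) (hb : b < n), M ⟨a, ha⟩ ⟨b, hb⟩ = Mx a b)

theorem eltsW_nodup : ∀ (levels : List GLevel) (prev : List ℕ), checkG T n d prev levels = true →
    ((eltsW levels).map fun w => phi M Mx hI hB hMx (gp M w)).Nodup := by
  intro levels
  induction levels with
  | nil =>
    intro prev _
    simp [eltsW]
  | cons lv rest ih =>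
    intro prev h
    have hfix := eltsW_fix T n d rest (lv.1 :: prev) (by
      simp only [checkG, Bool.and_eq_true] at h; exact h.2)
    simp only [checkG, Bool.and_eq_true] at h
    obtain ⟨⟨-, h2⟩, h3⟩ := h
    have ih' := ih (lv.1 :: prev) h3
    have hnd := nodupB_sound _ h2
    simp only [eltsW, List.map_flatMap, List.map_map]
    have hfun : ∀ r : List ℕ, ((fun w => phi M Mx hI hB hMx (gp M w)) ∘ fun x => r ++ x) =
        (fun g => phi M Mx hI hB hMx (gp M r) * g) ∘ (fun w => phi M Mx hI hB hMx (gp M w)) := by
      intro r
      funext u
      simp only [Function.comp_apply, gp_append, map_mul]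
    simp only [hfun]
    rw [List.nodup_flatMap]
    refine ⟨fun r _ => ?_, ?_⟩
    · rw [← List.map_map]
      exact ih'.map (mul_right_injective _)
    · have hp := List.pairwise_map.mp hnd
      refine hp.imp ?_
      intro r r' hne
      simp only [Function.onFun]
      rw [List.disjoint_left]
      intro g hg hg'
      simp only [List.mem_map, Function.comp_apply] at hg hg'
      obtain ⟨u, hu, rfl⟩ := hg
      obtain ⟨u', hu', he⟩ := hg'
      apply hne
      have e := congrArg (fun p : Equiv.Perm ℕ => p lv.1) he
      simp only [Equiv.Perm.mul_apply, phi_gp] at e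
      rw [hfix u hu lv.1 (List.mem_cons_self ..), hfix u' hu' lv.1 (List.mem_cons_self ..)] at e
      exact e.symm

/-- if the transversal sizes multiply to the group order, the action is faithful -/
theorem faithful_of_checkG (levels : List GLevel) (h : checkG T n d [] levels = true)
    (hcard : Nat.card M.Group = (levels.map fun lv => lv.2.length).prod) (hne : Nat.card M.Group ≠ 0) :
    Function.Injective (phi M Mx hI hB hMx) := by
  haveI : Finite M.Group := Nat.finite_of_card_ne_zero hne
  set φ := phi M Mx hI hB hMx with hφ
  set L := (eltsW levels).map fun w => φ (gp M w) with hL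
  have hnd : L.Nodup := eltsW_nodup M Mx hI hB hMx levels [] h
  have hlen : L.length = Nat.card M.Group := by
    rw [hL, List.length_map, eltsW_length, hcard]
  have hmemL : ∀ g ∈ L, g ∈ φ.range := by
    intro g hg
    rw [hL, List.mem_map] at hg
    obtain ⟨w, -, hw⟩ := hg
    exact ⟨gp M w, hw⟩
  have hmem : ∀ i : Fin L.length, L[i.1] ∈ φ.range := fun i => hmemL _ (List.getElem_mem _)
  haveI : Finite φ.range := Set.finite_range φ
  let f : Fin L.length → φ.range := fun i => ⟨L[i.1], hmem i⟩
  have hf : Function.Injective f := by
    intro i j hij
    have : L[i.1] = L[j.1] := congrArg Subtype.val hij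
    exact Fin.ext ((List.Nodup.getElem_inj_iff hnd).mp this)
  have hle : Nat.card M.Group ≤ Nat.card φ.range := by
    have := Nat.card_le_card_of_injective f hf
    rwa [Nat.card_fin, hlen] at this
  have hbij := Function.Surjective.bijective_of_nat_card_le (f := φ.rangeRestrict)
    φ.rangeRestrict_surjective hle
  intro a b hab
  apply hbij.1
  exact Subtype.ext hab

end Hom

end Cfsg.Agent.Helper18
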