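import Cfsg.Agent.Helper18.NuRel
import Cfsg.Agent.Helper18.CoxFaithful

/-!
# `N / H ≅ W`

From the statement of S1031 (hypothesis `NConjHyp`), table checks on the action of the simple reflections on the
roots, and the faithfulness of the action of the Coxeter group on the roots.
-/

set_option autoImplicit false

namespace Cfsg.Agent.Helper18

open Cfsg Cfsg.Lie Matrix Cfsg.Agent.Helper19.Cox

section GroupLemmas
variable {G : Type*} [Group G] (a b : G)

theorem pow_two_of_conj (ha : a * a = 1) (hb : b * b = 1) (h : a * b * a⁻¹ = b) : (a * b) ^ 2 = 1 := by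
  have ha' : a⁻¹ = a := inv_eq_of_mul_eq_one_right ha
  rw [ha'] at h
  calc (a * b) ^ 2 = (a * b * a) * b := by rw [pow_two]; simp only [mul_assoc]
    _ = 1 := by rw [h, hb]

theorem pow_three_of_conj (ha : a * a = 1) (hb : b * b = 1) (h : a * b * a⁻¹ = b * a * b⁻¹) : (a * b) ^ 3 = 1 := by
  have ha' : a⁻¹ = a := inv_eq_of_mul_eq_one_right ha
  have hb' : b⁻¹ = b := inv_eq_of_mul_eq_one_right hb
  rw [ha', hb'] at h
  calc (a * b) ^ 3 = (a * b * a) * (b * a * b) := by rw [pow_succ, pow_two]; simp only [mul_assoc]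
    _ = (b * a * b) * (b * a * b) := by rw [h]
    _ = b * a * (b * b) * a * b := by simp only [mul_assoc]
    _ = b * (a * a) * b := by rw [hb, mul_one]; simp only [mul_assoc]
    _ = 1 := by rw [ha, mul_one, hb]

theorem conj_sq (ha : a * a = 1) (hb : b * b = 1) : (a * b * a⁻¹) * (a * b * a⁻¹) = 1 := by
  calc (a * b * a⁻¹) * (a * b * a⁻¹) = a * (b * b) * a⁻¹ := by group
    _ = 1 := by rw [hb, mul_one, mul_inv_cancel]

theorem sq_eq_conj_mul (ha : a * a = 1) : (a * b) ^ 2 = (a * b * a⁻¹) * b := by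
  have ha' : a⁻¹ = a := inv_eq_of_mul_eq_one_right ha
  rw [ha', pow_two]; simp only [mul_assoc]

theorem pow_four_of_conj (ha : a * a = 1) (hb : b * b = 1)
    (h : (a * b * a⁻¹) * b * (a * b * a⁻¹)⁻¹ = b) : (a * b) ^ 4 = 1 := by
  have : (a * b) ^ 4 = ((a * b) ^ 2) ^ 2 := by rw [← pow_mul]
  rw [this, sq_eq_conj_mul a b ha]
  exact pow_two_of_conj _ _ (conj_sq a b ha hb) hb h

theorem pow_six_of_conj (ha : a * a = 1) (hb : b * b = 1)
    (h : (a * b * a⁻¹) * b * (a * b * a⁻¹)⁻¹ = b * (a * b * a⁻¹) * b⁻¹) : (a * b) ^ 6 = 1 := by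
  have : (a * b) ^ 6 = ((a * b) ^ 2) ^ 3 := by rw [← pow_mul]
  rw [this, sq_eq_conj_mul a b ha]
  exact pow_three_of_conj _ _ (conj_sq a b ha hb) hb h

end GroupLemmas

/-- the rank two relations among the roots needed for the Coxeter relations modulo `H` -/
def braidRootsOK (D : ChevalleyDatum) (tabs : List ℕ) (Mx : ℕ → ℕ → ℕ) : Bool :=
  (List.range D.rank).all fun i => (List.range D.rank).all fun j => (i == j) ||
    ((Mx i j == 2 && getB 256 (tabs.getD i 0) (D.simple j) == D.simple j) ||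
     (Mx i j == 3 && getB 256 (tabs.getD i 0) (D.simple j) == getB 256 (tabs.getD j 0) (D.simple i)) ||
     (Mx i j == 4 && getB 256 (tabs.getD i 0) (getB 256 (tabs.getD j 0) (getB 256 (tabs.getD i 0) (D.simple j)))
        == D.simple j) ||
     (Mx i j == 6 && getB 256 (tabs.getD i 0) (getB 256 (tabs.getD j 0) (getB 256 (tabs.getD i 0) (D.simple j)))
        == getB 256 (tabs.getD j 0) (getB 256 (tabs.getD i 0) (D.simple j))))

/-- every root is the image of a fundamental root under a word in the simple reflections -/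
def reachOK (D : ChevalleyDatum) (tabs : List ℕ) (words : List (List ℕ × ℕ)) : Bool :=
  (List.range D.nroots).all fun r =>
    let p := words.getD r ([], 0)
    p.1.all (fun i => decide (i < D.rank)) && decide (p.2 < D.rank) && (rhoFast tabs p.1 (D.simple p.2) == r)

theorem braidRootsOK_spec (D : ChevalleyDatum) (hD : D ∈ [chevG2, chevB2, chevD4, chevF4, chevE6, chevE7, chevE8])
    (tabs : List ℕ) (Mx : ℕ → ℕ → ℕ) (ht : tabsOK D tabs = true)
    (h : braidRootsOK D tabs Mx = true) (i j : ℕ) (hi : i < D.rank) (hj : j < D.rank) (hij : i ≠ j) :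
    (Mx i j = 2 ∧ D.reflectRoot i (D.simple j) = D.simple j) ∨
    (Mx i j = 3 ∧ D.reflectRoot i (D.simple j) = D.reflectRoot j (D.simple i)) ∨
    (Mx i j = 4 ∧ D.reflectRoot i (D.reflectRoot j (D.reflectRoot i (D.simple j))) = D.simple j) ∨
    (Mx i j = 6 ∧ D.reflectRoot i (D.reflectRoot j (D.reflectRoot i (D.simple j))) =
      D.reflectRoot j (D.reflectRoot i (D.simple j))) := by
  have hs := simpleOK_of_mem D hD
  have hpj := simple_lt D hs j hj
  have hpi := simple_lt D hs i hi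
  obtain ⟨e1, l1⟩ := tabsOK_spec D tabs ht i _ hi hpj
  obtain ⟨e2, l2⟩ := tabsOK_spec D tabs ht j _ hj l1
  obtain ⟨e3, -⟩ := tabsOK_spec D tabs ht i _ hi l2
  obtain ⟨e4, -⟩ := tabsOK_spec D tabs ht j _ hj hpi
  unfold braidRootsOK at h
  rw [List.all_eq_true] at h
  have h1 := h i (List.mem_range.mpr hi)
  rw [List.all_eq_true] at h1
  have h2 := h1 j (List.mem_range.mpr hj)
  simp only [Bool.or_eq_true, Bool.and_eq_true, beq_iff_eq] at h2
  rw [e1, e2, e3, e4] at h2
  rcases h2 with h2 | h2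
  · exact absurd h2 hij
  · tauto

theorem reachOK_spec (D : ChevalleyDatum) (tabs : List ℕ) (words : List (List ℕ × ℕ)) (ht : tabsOK D tabs = true)
    (hsl : ∀ j < D.rank, D.simple j < D.nroots)
    (h : reachOK D tabs words = true) (r : ℕ) (hr : r < D.nroots) :
    ∃ (w : List ℕ) (j : ℕ), (∀ i ∈ w, i < D.rank) ∧ j < D.rank ∧ rho D w (D.simple j) = r := by
  unfold reachOK at h
  rw [List.all_eq_true] at h
  have h1 := h r (List.mem_range.mpr hr)
  simp only [Bool.and_eq_true, List.all_eq_true, decide_eq_true_eq, beq_iff_eq] at h1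
  obtain ⟨⟨hw, hj⟩, he⟩ := h1
  refine ⟨_, _, hw, hj, ?_⟩
  rw [← (rhoFast_eq D tabs ht _ hw _ (hsl _ hj)).1]
  exact he

theorem conj_conj {G : Type*} [Group G] (a b : G) (ha : a * a = 1) :
    (a * b * a⁻¹) * b * (a * b * a⁻¹)⁻¹ = a * (b * (a * b * a⁻¹) * b⁻¹) * a⁻¹ := by
  have ha' : a⁻¹ = a := inv_eq_of_mul_eq_one_right ha
  simp only [_root_.mul_inv_rev, inv_inv, ha', mul_assoc]

section Quot
variable {F : Type*} [Field F]

/-- `n_r` as an element of `N` -/
noncomputable def nN (D : ChevalleyDatum) (F : Type*) [Field F] (r : ℕ) : ↥(D.monomialSubgroup F) := by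
  classical
  exact if h : wordGL D F (D.nWord r (1 : F)) ∈ D.monomialSubgroup F then ⟨_, h⟩ else 1

/-- `H` as a subgroup of `N` -/
abbrev HN (D : ChevalleyDatum) (F : Type*) [Field F] : Subgroup ↥(D.monomialSubgroup F) :=
  (D.diagonalSubgroup F).subgroupOf (D.monomialSubgroup F)

theorem diagonalSubgroup_le_monomialSubgroup (D : ChevalleyDatum) :
    D.diagonalSubgroup F ≤ D.monomialSubgroup F := by
  unfold ChevalleyDatum.monomialSubgroup
  exact le_sup_left

variable (D : ChevalleyDatum) (hD : D ∈ [chevG2, chevB2, chevD4, chevF4, chevE6, chevE7, chevE8])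

include hD in
theorem nN_val (r : ℕ) (hr : r < D.nroots) :
    ((nN D F r : ↥(D.monomialSubgroup F)) : GL D.Idx F) = wordGL D F (D.nWord r (1 : F)) := by
  unfold nN
  rw [dif_pos (nGL_mem_monomialSubgroup D hD r hr)]

variable [hn : (HN D F).Normal]

/-- the image of `n_r` in `N / H` -/
noncomputable def nu (F : Type*) [Field F] [(HN D F).Normal] (r : ℕ) : ↥(D.monomialSubgroup F) ⧸ HN D F :=
  QuotientGroup.mk (nN D F r)

include hD in
theorem nu_mul_self (r : ℕ) (hr : r < D.nroots) : nu D F r * nu D F r = 1 := by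
  unfold nu
  rw [← QuotientGroup.mk_mul, QuotientGroup.eq_one_iff, Subgroup.mem_subgroupOf, Subgroup.coe_mul,
    nN_val D hD r hr]
  exact nGL_sq_mem D hD r hr

include hD in
theorem nu_conj (h31 : NConjHyp D F) (i s : ℕ) (hi : i < D.rank) (hs : s < D.nroots) :
    nu D F (D.simple i) * nu D F s * (nu D F (D.simple i))⁻¹ = nu D F (D.reflectRoot i s) := by
  obtain ⟨h, hh, e⟩ := nGL_conj_nGL D hD h31 i s hi hs
  have hpi := simple_lt D (simpleOK_of_mem D hD) i hi
  have ha := reflectRoot_lt D hD i s hi hs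
  have e' : nN D F (D.simple i) * nN D F s * (nN D F (D.simple i))⁻¹ =
      ⟨h, diagonalSubgroup_le_monomialSubgroup D hh⟩ * nN D F (D.reflectRoot i s) := by
    apply Subtype.ext
    simp only [Subgroup.coe_mul, Subgroup.coe_inv, nN_val D hD _ hpi, nN_val D hD _ hs, nN_val D hD _ ha]
    exact e
  unfold nu
  rw [← QuotientGroup.mk_inv, ← QuotientGroup.mk_mul, ← QuotientGroup.mk_mul, e', QuotientGroup.mk_mul]
  have : (QuotientGroup.mk (⟨h, diagonalSubgroup_le_monomialSubgroup D hh⟩ : ↥(D.monomialSubgroup F)) :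
      ↥(D.monomialSubgroup F) ⧸ HN D F) = 1 :=
    (QuotientGroup.eq_one_iff _).mpr (Subgroup.mem_subgroupOf.mpr hh)
  rw [this, one_mul]

variable (M : CoxeterMatrix (Fin D.rank)) (Mx : ℕ → ℕ → ℕ)
  (hMx : ∀ a b (ha : a < D.rank) (hb : b < D.rank), M ⟨a, ha⟩ ⟨b, hb⟩ = Mx a b)
  (tabs : List ℕ) (ht : tabsOK D tabs = true) (hbr : braidRootsOK D tabs Mx = true) (h31 : NConjHyp D F)

include hD hMx ht hbr h31 in
theorem nu_liftable : M.IsLiftable (fun i : Fin D.rank => nu D F (D.simple i.val)) := by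
  have hs := simpleOK_of_mem D hD
  intro i j
  have hpi := simple_lt D hs i.1 i.2
  have hpj := simple_lt D hs j.1 j.2
  have Fi := nu_mul_self (F := F) D hD _ hpi
  have Fj := nu_mul_self (F := F) D hD _ hpj
  by_cases hij : i = j
  · subst hij
    rw [M.diagonal, pow_one]
    exact Fi
  · have hne : i.val ≠ j.val := fun e => hij (Fin.ext e)
    rw [hMx i.1 j.1 i.2 j.2]
    have hβ := reflectRoot_lt D hD i.1 _ i.2 hpj
    have hγ := reflectRoot_lt D hD j.1 _ j.2 hβ
    have c1 := nu_conj D hD h31 i.1 _ i.2 hpj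
    have c2 := nu_conj D hD h31 j.1 _ j.2 hβ
    have c3 := nu_conj D hD h31 i.1 _ i.2 hγ
    rcases braidRootsOK_spec D hD tabs Mx ht hbr i.1 j.1 i.2 j.2 hne with ⟨hm, e⟩ | ⟨hm, e⟩ | ⟨hm, e⟩ | ⟨hm, e⟩
    · rw [hm]
      apply pow_two_of_conj _ _ Fi Fj
      rw [c1, e]
    · rw [hm]
      apply pow_three_of_conj _ _ Fi Fj
      rw [c1, nu_conj D hD h31 j.1 _ j.2 hpi, e]
    · rw [hm]
      apply pow_four_of_conj _ _ Fi Fj
      rw [conj_conj _ _ Fi, c1, c2, c3, e]
    · rw [hm]
      apply pow_six_of_conj _ _ Fi Fj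
      rw [conj_conj _ _ Fi, c1, c2, c3, e]

/-- the homomorphism `W → N / H` -/
noncomputable def psi : M.Group →* ↥(D.monomialSubgroup F) ⧸ HN D F :=
  M.toCoxeterSystem.lift ⟨_, nu_liftable D hD M Mx hMx tabs ht hbr h31⟩

theorem psi_sg (i : ℕ) (hi : i < D.rank) :
    psi D hD M Mx hMx tabs ht hbr h31 (sg M i) = nu D F (D.simple i) := by
  rw [sg_of_lt M hi, psi, CoxeterSystem.lift_apply_simple]

theorem psi_gp (w : List ℕ) (hw : ∀ i ∈ w, i < D.rank) :
    psi D hD M Mx hMx tabs ht hbr h31 (gp M w) =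
      QuotientGroup.mk (⟨nWordsGL D F w, nWordsGL_mem D hD w hw⟩ : ↥(D.monomialSubgroup F)) := by
  induction w with
  | nil =>
    rw [gp_nil, map_one]
    symm
    rw [QuotientGroup.eq_one_iff]
    have : (⟨nWordsGL D F [], nWordsGL_mem D hD [] hw⟩ : ↥(D.monomialSubgroup F)) = 1 := by
      apply Subtype.ext
      simp [nWordsGL]
    rw [this]
    exact one_mem _
  | cons i w ih =>
    have hw' : ∀ j ∈ w, j < D.rank := fun j hj => hw j (List.mem_cons_of_mem _ hj)
    have hi := hw i List.mem_cons_self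
    rw [gp_cons, map_mul, ih hw', psi_sg D hD M Mx hMx tabs ht hbr h31 i hi]
    unfold nu
    rw [← QuotientGroup.mk_mul]
    congr 1
    apply Subtype.ext
    rw [Subgroup.coe_mul, nN_val D hD _ (simple_lt D (simpleOK_of_mem D hD) i hi)]
    simp [nWordsGL]

theorem psi_conj (w : List ℕ) (hw : ∀ i ∈ w, i < D.rank) (s : ℕ) (hs : s < D.nroots) :
    rho D w s < D.nroots ∧
      psi D hD M Mx hMx tabs ht hbr h31 (gp M w) * nu D F s * (psi D hD M Mx hMx tabs ht hbr h31 (gp M w))⁻¹ =
        nu D F (rho D w s) := by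
  induction w with
  | nil =>
    refine ⟨hs, ?_⟩
    rw [gp_nil, map_one, one_mul, inv_one, mul_one]
    rfl
  | cons i w ih =>
    have hw' : ∀ j ∈ w, j < D.rank := fun j hj => hw j (List.mem_cons_of_mem _ hj)
    have hi := hw i List.mem_cons_self
    obtain ⟨hlt, e⟩ := ih hw'
    have e2 : rho D (i :: w) s = D.reflectRoot i (rho D w s) := rfl
    refine ⟨by rw [e2]; exact reflectRoot_lt D hD i _ hi hlt, ?_⟩
    rw [gp_cons, map_mul, psi_sg D hD M Mx hMx tabs ht hbr h31 i hi, e2, ← nu_conj D hD h31 i _ hi hlt, ← e]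
    group


theorem psi_surjective (words : List (List ℕ × ℕ)) (hreach : reachOK D tabs words = true) :
    Function.Surjective (psi D hD M Mx hMx tabs ht hbr h31) := by
  have hs := simpleOK_of_mem D hD
  set ψ := psi D hD M Mx hMx tabs ht hbr h31 with hψ
  have hnu : ∀ r < D.nroots, nu D F r ∈ ψ.range := by
    intro r hr
    obtain ⟨w, j, hw, hj, e⟩ := reachOK_spec D tabs words ht (fun j hj => simple_lt D hs j hj) hreach r hr
    obtain ⟨-, e2⟩ := psi_conj D hD M Mx hMx tabs ht hbr h31 w hw _ (simple_lt D hs j hj)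
    rw [e, ← psi_sg D hD M Mx hMx tabs ht hbr h31 j hj, ← map_inv, ← map_mul, ← map_mul] at e2
    exact ⟨_, e2⟩
  have key : D.monomialSubgroup F ≤
      ((ψ.range).comap (QuotientGroup.mk' (HN D F))).map (D.monomialSubgroup F).subtype := by
    conv_lhs => unfold ChevalleyDatum.monomialSubgroup
    apply sup_le
    · intro g hg
      refine ⟨⟨g, diagonalSubgroup_le_monomialSubgroup D hg⟩, ?_, rfl⟩
      rw [SetLike.mem_coe, Subgroup.mem_comap]
      have : QuotientGroup.mk' (HN D F) ⟨g, diagonalSubgroup_le_monomialSubgroup D hg⟩ = 1 :=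
        (QuotientGroup.eq_one_iff _).mpr (Subgroup.mem_subgroupOf.mpr hg)
      rw [this]
      exact one_mem _
    · rw [Subgroup.closure_le]
      rintro g ⟨r, hr, hg⟩
      refine ⟨nN D F r, ?_, ?_⟩
      · rw [SetLike.mem_coe, Subgroup.mem_comap]
        exact hnu r hr
      · apply Units.ext
        rw [Subgroup.subtype_apply, nN_val D hD r hr, nWordGL_val D hD, hg]
  intro q
  obtain ⟨⟨g, hg⟩, rfl⟩ := QuotientGroup.mk_surjective q
  obtain ⟨x, hx, hxg⟩ := key hg
  have : x = ⟨g, hg⟩ := Subtype.ext hxg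
  rw [this, SetLike.mem_coe, Subgroup.mem_comap] at hx
  exact hx

include ht in
omit hn in
theorem actW_eq_rho (w : List ℕ) (hw : ∀ i ∈ w, i < D.rank) (x : ℕ) (hx : x < D.nroots) :
    actW tabs D.rank D.nroots w x = rho D w x ∧ rho D w x < D.nroots := by
  induction w with
  | nil => exact ⟨rfl, hx⟩
  | cons i w ih =>
    have hw' : ∀ j ∈ w, j < D.rank := fun j hj => hw j (List.mem_cons_of_mem _ hj)
    have hi := hw i List.mem_cons_self
    obtain ⟨e, hlt⟩ := ih hw'
    obtain ⟨e1, l1⟩ := tabsOK_spec D tabs ht i _ hi hlt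
    have e2 : rho D (i :: w) x = D.reflectRoot i (rho D w x) := rfl
    refine ⟨?_, by rw [e2]; exact l1⟩
    have e3 : actW tabs D.rank D.nroots (i :: w) x = tact tabs D.rank D.nroots i (actW tabs D.rank D.nroots w x) := rfl
    rw [e3, e, e2, ← e1]
    unfold tact
    rw [if_pos ⟨hi, hlt⟩, byteAt_eq]
    rfl

omit hn in
theorem actW_of_not_lt (T : List ℕ) (n d : ℕ) (w : List ℕ) (x : ℕ) (hx : ¬ x < d) : actW T n d w x = x := by
  induction w with
  | nil => rfl
  | cons i w ih =>
    have e3 : actW T n d (i :: w) x = tact T n d i (actW T n d w x) := rfl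
    rw [e3, ih, tact_of_not_lt hx]

theorem psi_injective (hI : checkInvol tabs D.rank D.nroots = true) (hB : checkBraid Mx tabs D.rank D.nroots = true)
    (hinj : Function.Injective (phi M Mx hI hB hMx)) :
    Function.Injective (psi D hD M Mx hMx tabs ht hbr h31) := by
  rw [injective_iff_map_eq_one]
  intro g hg
  have e' : ∀ ω : List (Fin D.rank), M.toCoxeterSystem.wordProd ω = gp M (ω.map Fin.val) := by
    intro ω
    induction ω with
    | nil => simp
    | cons i ω ih =>
      rw [CoxeterSystem.wordProd_cons, ih, List.map_cons, gp_cons, sg_of_lt M i.2]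
  obtain ⟨ω, rfl⟩ := M.toCoxeterSystem.wordProd_surjective g
  have e := e' ω
  have hw : ∀ i ∈ ω.map Fin.val, i < D.rank := by
    intro i hi
    obtain ⟨j, -, rfl⟩ := List.mem_map.mp hi
    exact j.2
  rw [e] at hg ⊢
  rw [psi_gp D hD M Mx hMx tabs ht hbr h31 _ hw, QuotientGroup.eq_one_iff, Subgroup.mem_subgroupOf] at hg
  have hrho := rho_eq_of_mem_diagonalSubgroup D hD _ hw hg
  apply hinj
  rw [map_one]
  apply Equiv.ext
  intro x
  rw [phi_gp, Equiv.Perm.one_apply]
  by_cases hx : x < D.nroots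
  · rw [(actW_eq_rho D tabs ht _ hw x hx).1]
    exact hrho x hx
  · exact actW_of_not_lt _ _ _ _ _ hx

include hD ht hbr h31 in
/-- `N / H ≅ W` -/
theorem weyl_iso (hI : checkInvol tabs D.rank D.nroots = true) (hB : checkBraid Mx tabs D.rank D.nroots = true)
    (hinj : Function.Injective (phi M Mx hI hB hMx))
    (words : List (List ℕ × ℕ)) (hreach : reachOK D tabs words = true) :
    ∃ φ : ↥(D.monomialSubgroup F) →* M.Group, Function.Surjective φ ∧
      φ.ker = (D.diagonalSubgroup F).subgroupOf (D.monomialSubgroup F) ∧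
      ∀ (i : Fin D.rank) (g : ↥(D.monomialSubgroup F)),
        ((g : GL D.Idx F) : Matrix D.Idx D.Idx F) = D.nMat F (D.simple i) 1 → φ g = M.simple i := by
  have hs := simpleOK_of_mem D hD
  set ψ := psi D hD M Mx hMx tabs ht hbr h31 with hψ
  have hbij : Function.Bijective ψ :=
    ⟨psi_injective D hD M Mx hMx tabs ht hbr h31 hI hB hinj, psi_surjective D hD M Mx hMx tabs ht hbr h31 words hreach⟩
  let e : M.Group ≃* (↥(D.monomialSubgroup F) ⧸ HN D F) := MulEquiv.ofBijective ψ hbij
  refine ⟨e.symm.toMonoidHom.comp (QuotientGroup.mk' (HN D F)), ?_, ?_, ?_⟩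
  · exact e.symm.surjective.comp (QuotientGroup.mk'_surjective _)
  · ext g
    rw [MonoidHom.mem_ker, MonoidHom.comp_apply]
    change e.symm (QuotientGroup.mk' (HN D F) g) = 1 ↔ _
    rw [MulEquiv.map_eq_one_iff, QuotientGroup.mk'_apply, QuotientGroup.eq_one_iff]
  · intro i g hg
    have hpi := simple_lt D hs i.1 i.2
    have hgn : g = nN D F (D.simple i.1) := by
      apply Subtype.ext
      apply Units.ext
      rw [nN_val D hD _ hpi, nWordGL_val D hD, hg]
    rw [MonoidHom.comp_apply]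
    change e.symm (QuotientGroup.mk' (HN D F) g) = _
    rw [MulEquiv.symm_apply_eq]
    change _ = ψ (M.simple i)
    rw [hgn, hψ, psi, ← CoxeterMatrix.toCoxeterSystem_simple, CoxeterSystem.lift_apply_simple]
    rfl

end Quot

end Cfsg.Agent.Helper18
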