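import Cfsg.Agent.Helper18.Tri
import Cfsg.Prelude.Def_ChevG2
import Cfsg.Prelude.Def_ChevB2
import Cfsg.Prelude.Def_ChevD4
import Cfsg.Prelude.Def_ChevF4
import Cfsg.Prelude.Def_ChevE6
import Cfsg.Prelude.Def_ChevE7
import Cfsg.Prelude.Def_ChevE8

/-!
Helper18: the triangularity checks for the seven tabulated types; the general linear lifts of root elements.
-/

set_option autoImplicit false

namespace Cfsg.Agent.Helper18

open Cfsg Cfsg.Lie

/-- the number of positive roots -/
def hlfOf (D : ChevalleyDatum) : ℕ := D.nroots / 2

set_option maxRecDepth 100000 in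
theorem triOK_G2 : triOK chevG2 (hlfOf chevG2) = true := by decide +kernel
set_option maxRecDepth 100000 in
theorem triOK_B2 : triOK chevB2 (hlfOf chevB2) = true := by decide +kernel
set_option maxRecDepth 100000 in
theorem triOK_D4 : triOK chevD4 (hlfOf chevD4) = true := by decide +kernel
set_option maxRecDepth 100000 in
theorem triOK_F4 : triOK chevF4 (hlfOf chevF4) = true := by decide +kernel
set_option maxRecDepth 100000 in
theorem triOK_E6 : triOK chevE6 (hlfOf chevE6) = true := by decide +kernel
set_option maxRecDepth 100000 in
theorem triOK_E7 : triOK chevE7 (hlfOf chevE7) = true := by decide +kernel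
set_option maxRecDepth 100000 in
theorem triOK_E8 : triOK chevE8 (hlfOf chevE8) = true := by decide +kernel

set_option maxRecDepth 100000 in
theorem posOK_G2 : posOK chevG2 (hlfOf chevG2) = true := by decide +kernel
set_option maxRecDepth 100000 in
theorem posOK_B2 : posOK chevB2 (hlfOf chevB2) = true := by decide +kernel
set_option maxRecDepth 100000 in
theorem posOK_D4 : posOK chevD4 (hlfOf chevD4) = true := by decide +kernel
set_option maxRecDepth 100000 in
theorem posOK_F4 : posOK chevF4 (hlfOf chevF4) = true := by decide +kernel
set_option maxRecDepth 100000 in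
theorem posOK_E6 : posOK chevE6 (hlfOf chevE6) = true := by decide +kernel
set_option maxRecDepth 100000 in
theorem posOK_E7 : posOK chevE7 (hlfOf chevE7) = true := by decide +kernel
set_option maxRecDepth 100000 in
theorem posOK_E8 : posOK chevE8 (hlfOf chevE8) = true := by decide +kernel

theorem triOK_of_mem (D : ChevalleyDatum) (hD : D ∈ [chevG2, chevB2, chevD4, chevF4, chevE6, chevE7, chevE8]) :
    triOK D (hlfOf D) = true := by
  simp only [List.mem_cons, List.not_mem_nil, or_false] at hD
  rcases hD with rfl | rfl | rfl | rfl | rfl | rfl | rfl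
  · exact triOK_G2
  · exact triOK_B2
  · exact triOK_D4
  · exact triOK_F4
  · exact triOK_E6
  · exact triOK_E7
  · exact triOK_E8

theorem posOK_of_mem (D : ChevalleyDatum) (hD : D ∈ [chevG2, chevB2, chevD4, chevF4, chevE6, chevE7, chevE8]) :
    posOK D (hlfOf D) = true := by
  simp only [List.mem_cons, List.not_mem_nil, or_false] at hD
  rcases hD with rfl | rfl | rfl | rfl | rfl | rfl | rfl
  · exact posOK_G2
  · exact posOK_B2
  · exact posOK_D4
  · exact posOK_F4
  · exact posOK_E6
  · exact posOK_E7
  · exact posOK_E8

end Cfsg.Agent.Helper18
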