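import Cfsg.Agent.Helper18.Borel

/-!
Helper18: the elements `n_r(u)` normalize the diagonal subgroup `H`.

For `g` with matrix `h_s(t)` and `χ = t ^ <r, s^∨>`: `g n_r(u) = n_r(χ u) g` and `n_r(χ u) = h_r(χ u) h_r(u)⁻¹ n_r(u)`.
-/

set_option autoImplicit false

namespace Cfsg.Agent.Helper18

open Cfsg Cfsg.Lie

theorem mem_normalizer_closure_of' {G : Type*} [Group G] (S : Set G) (g : G)
    (h1 : ∀ x ∈ S, g * x * g⁻¹ ∈ Subgroup.closure S)
    (h2 : ∀ x ∈ S, g⁻¹ * x * g ∈ Subgroup.closure S) :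
    g ∈ Subgroup.normalizer (Subgroup.closure S : Set G) := by
  have key : ∀ a : G, (∀ x ∈ S, a * x * a⁻¹ ∈ Subgroup.closure S) →
      ∀ h ∈ Subgroup.closure S, a * h * a⁻¹ ∈ Subgroup.closure S := by
    intro a ha h hh
    induction hh using Subgroup.closure_induction with
    | mem x hx => exact ha x hx
    | one => simp
    | mul x y _ _ hx hy =>
      have : a * (x * y) * a⁻¹ = (a * x * a⁻¹) * (a * y * a⁻¹) := by group
      rw [this]; exact mul_mem hx hy
    | inv x _ hx =>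
      have : a * x⁻¹ * a⁻¹ = (a * x * a⁻¹)⁻¹ := by group
      rw [this]; exact inv_mem hx
  rw [Subgroup.mem_normalizer_iff]
  intro h
  constructor
  · exact key g h1 h
  · intro hh
    have := key g⁻¹ (by simpa using h2) _ hh
    simpa [mul_assoc] using this

section
variable {F : Type*} [Field F]

theorem wordGL_append' (D : ChevalleyDatum) (w₁ w₂ : List (ℕ × F)) :
    wordGL D F (w₁ ++ w₂) = wordGL D F w₁ * wordGL D F w₂ := by
  simp [wordGL, List.map_append, List.prod_append]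

theorem wordGL_nWord' (D : ChevalleyDatum) (r : ℕ) (t : F) :
    wordGL D F (D.nWord r t) = xGL D F r t * xGL D F (D.neg r) (-t⁻¹) * xGL D F r t := by
  simp [wordGL, ChevalleyDatum.nWord, mul_assoc]

theorem wordGL_hWord (D : ChevalleyDatum) (r : ℕ) (t : F) :
    wordGL D F (D.hWord r t) = wordGL D F (D.nWord r t) * wordGL D F (D.nWord r (-1)) := by
  rw [ChevalleyDatum.hWord, wordGL_append']

variable (D : ChevalleyDatum) (hD : D ∈ [chevG2, chevB2, chevD4, chevF4, chevE6, chevE7, chevE8])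
include hD

theorem hWordGL_val (r : ℕ) (t : F) :
    ((wordGL D F (D.hWord r t) : GL D.Idx F) : Matrix D.Idx D.Idx F) = D.hMat F r t := by
  rw [wordGL_val D _ (triOK_of_mem D hD)]; rfl

theorem nWordGL_val (r : ℕ) (t : F) :
    ((wordGL D F (D.nWord r t) : GL D.Idx F) : Matrix D.Idx D.Idx F) = D.nMat F r t := by
  rw [wordGL_val D _ (triOK_of_mem D hD)]; rfl

theorem hWordGL_mem_diagonalSubgroup (r : ℕ) (hr : r < D.nroots) (t : F) (ht : t ≠ 0) :
    wordGL D F (D.hWord r t) ∈ D.diagonalSubgroup F :=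
  Subgroup.subset_closure ⟨r, t, hr, ht, hWordGL_val D hD r t⟩

theorem hWordGL_one (r : ℕ) (hr : r < D.nroots) : wordGL D F (D.hWord r (1 : F)) = 1 := by
  apply Units.ext
  rw [hWordGL_val D hD, hMat_eq_wDiag D hD r hr 1 one_ne_zero, wDiag, Units.val_one, ← Matrix.diagonal_one]
  congr 1
  funext j
  rcases j with a | s <;> simp

/-- `n_r(1)⁻¹ = n_r(-1)` -/
theorem nWordGL_one_inv (r : ℕ) (hr : r < D.nroots) :
    (wordGL D F (D.nWord r (1 : F)))⁻¹ = wordGL D F (D.nWord r (-1 : F)) := by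
  rw [inv_eq_iff_mul_eq_one, ← wordGL_hWord, hWordGL_one D hD r hr]

theorem pairing'_neg_right (s r : ℕ) (hr : r < D.nroots) : pairing' D s (D.neg r) = - pairing' D s r :=
  (isAdditiveAt_of_addAllOK D (addAllOK_of_mem D hD) s r hr).1

/-- `h_s(t) x_r(a) = x_r(χ a) h_s(t)` in the general linear group -/
theorem hMat_comm_xGL (g : GL D.Idx F) (s : ℕ) (hs : s < D.nroots) (t : F) (ht : t ≠ 0)
    (hg : (g : Matrix D.Idx D.Idx F) = D.hMat F s t) (r : ℕ) (hr : r < D.nroots) (a : F) :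
    g * xGL D F r a = xGL D F r (t ^ pairing' D s r * a) * g := by
  have htri := triOK_of_mem D hD
  apply Units.ext
  rw [Units.val_mul, Units.val_mul, xGL_val D _ htri, xGL_val D _ htri, hg]
  exact hMat_mul_x D hD s r hs hr t a ht

/-- `h_s(t) n_r(u) = n_r(χ u) h_s(t)` -/
theorem hMat_comm_nGL (g : GL D.Idx F) (s : ℕ) (hs : s < D.nroots) (t : F) (ht : t ≠ 0)
    (hg : (g : Matrix D.Idx D.Idx F) = D.hMat F s t) (r : ℕ) (hr : r < D.nroots) (u : F) :
    g * wordGL D F (D.nWord r u) = wordGL D F (D.nWord r (t ^ pairing' D s r * u)) * g := by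
  have htri := triOK_of_mem D hD
  obtain ⟨hn1, -, -, -⟩ := triOK_spec D _ htri r hr
  have hχ : t ^ pairing' D s r ≠ 0 := zpow_ne_zero _ ht
  rw [wordGL_nWord', wordGL_nWord']
  have e1 := hMat_comm_xGL D hD g s hs t ht hg r hr u
  have e2 := hMat_comm_xGL D hD g s hs t ht hg (D.neg r) hn1 (-u⁻¹)
  rw [pairing'_neg_right D hD s r hr, zpow_neg] at e2
  have e3 : (t ^ pairing' D s r)⁻¹ * -u⁻¹ = -(t ^ pairing' D s r * u)⁻¹ := by
    rw [mul_inv, mul_neg]
  rw [e3] at e2
  calc g * (xGL D F r u * xGL D F (D.neg r) (-u⁻¹) * xGL D F r u)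
      = (g * xGL D F r u) * xGL D F (D.neg r) (-u⁻¹) * xGL D F r u := by group
    _ = xGL D F r (t ^ pairing' D s r * u) * (g * xGL D F (D.neg r) (-u⁻¹)) * xGL D F r u := by
        rw [e1]; group
    _ = xGL D F r (t ^ pairing' D s r * u) * xGL D F (D.neg r) (-(t ^ pairing' D s r * u)⁻¹) *
          (g * xGL D F r u) := by rw [e2]; group
    _ = _ := by rw [e1]; group

/-- conjugating a generator of `H` by `n_r(u)` -/
theorem nGL_conj_hMat (g : GL D.Idx F) (s : ℕ) (hs : s < D.nroots) (t : F) (ht : t ≠ 0)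
    (hg : (g : Matrix D.Idx D.Idx F) = D.hMat F s t) (r : ℕ) (hr : r < D.nroots) (u : F) (hu : u ≠ 0) :
    wordGL D F (D.nWord r u) * g * (wordGL D F (D.nWord r u))⁻¹ ∈ D.diagonalSubgroup F := by
  have hχ : t ^ pairing' D s r ≠ 0 := zpow_ne_zero _ ht
  have e := hMat_comm_nGL D hD g s hs t ht hg r hr u
  have e1 : wordGL D F (D.nWord r (t ^ pairing' D s r * u)) =
      wordGL D F (D.hWord r (t ^ pairing' D s r * u)) * (wordGL D F (D.hWord r u))⁻¹ * wordGL D F (D.nWord r u) := by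
    rw [wordGL_hWord, wordGL_hWord]; group
  rw [e1] at e
  have e2 : wordGL D F (D.nWord r u) * g * (wordGL D F (D.nWord r u))⁻¹ =
      (wordGL D F (D.hWord r (t ^ pairing' D s r * u)) * (wordGL D F (D.hWord r u))⁻¹)⁻¹ * g := by
    rw [eq_inv_mul_iff_mul_eq, ← mul_assoc, ← mul_assoc, ← e]
    group
  rw [e2]
  have hgH : g ∈ D.diagonalSubgroup F := Subgroup.subset_closure ⟨s, t, hs, ht, hg⟩
  exact mul_mem (inv_mem (mul_mem (hWordGL_mem_diagonalSubgroup D hD r hr _ (mul_ne_zero hχ hu))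
    (inv_mem (hWordGL_mem_diagonalSubgroup D hD r hr u hu)))) hgH

/-- `n_r(1)` normalizes `H` -/
theorem nGL_mem_normalizer (r : ℕ) (hr : r < D.nroots) :
    wordGL D F (D.nWord r (1 : F)) ∈ Subgroup.normalizer (D.diagonalSubgroup F : Set (GL D.Idx F)) := by
  unfold ChevalleyDatum.diagonalSubgroup
  apply mem_normalizer_closure_of'
  · rintro x ⟨s, t, hs, ht, hx⟩
    exact nGL_conj_hMat D hD x s hs t ht hx r hr 1 one_ne_zero
  · rintro x ⟨s, t, hs, ht, hx⟩
    rw [nWordGL_one_inv D hD r hr]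
    have := nGL_conj_hMat D hD x s hs t ht hx r hr (-1) (neg_ne_zero.mpr one_ne_zero)
    rw [← nWordGL_one_inv D hD r hr, inv_inv] at this
    rw [← nWordGL_one_inv D hD r hr]
    exact this

theorem monomialSubgroup_le_normalizer :
    D.monomialSubgroup F ≤ Subgroup.normalizer (D.diagonalSubgroup F : Set (GL D.Idx F)) := by
  conv_lhs => unfold ChevalleyDatum.monomialSubgroup
  apply sup_le Subgroup.le_normalizer
  rw [Subgroup.closure_le]
  rintro g ⟨r, hr, hg⟩
  have : g = wordGL D F (D.nWord r (1 : F)) := Units.ext (by rw [hg, nWordGL_val D hD])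
  rw [this]
  exact nGL_mem_normalizer D hD r hr

end

end Cfsg.Agent.Helper18
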