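import Cfsg.Agent.Helper18.NShape
import Cfsg.Agent.Helper18.Monomial

/-!
# `U ∩ N = 1` and `B ∩ N = H`
-/

set_option autoImplicit false

namespace Cfsg.Agent.Helper18

open Cfsg Cfsg.Lie Matrix

section
variable {F : Type*} [Field F]
variable (D : ChevalleyDatum) (hD : D ∈ [chevG2, chevB2, chevD4, chevF4, chevE6, chevE7, chevE8])
include hD

theorem wtI_simple_inr (k : ℕ) (hk : k < D.rank) (v : Fin D.nroots) :
    wtI D (D.simple k) (Sum.inr v) = D.cartan k v.val := by
  simp only [wtI, Sum.elim_inr]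
  exact pairing'_simple D (simpleOK_of_mem D hD) k hk v.val

theorem NL_nMat (r : ℕ) (hr : r < D.nroots) (u : F) (hu : u ≠ 0) : NL D (D.nMat F r u) := by
  have hc := colsOK_of_mem D hD
  have hs := simpleOK_of_mem D hD
  have hrr := pairing'_self D hc r hr
  refine ⟨fun a w => ?_, fun v b => ?_, fun w v v' h1 h2 => ?_⟩
  · by_contra hne
    obtain ⟨k, hk, hk0⟩ := col_ne_zero D hc w.val w.2
    have := nMat_weight_rel D hD r hr u hu _ _ hne (D.simple k) (simple_lt D hs k hk)
    rw [wtI_simple_inr D hD k hk] at this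
    simp only [wtI, Sum.elim_inl, mul_zero, zero_add] at this
    exact hk0 this.symm
  · by_contra hne
    have e1 := nMat_weight_rel D hD r hr u hu _ _ hne r hr
    rw [hrr] at e1
    simp only [wtI, Sum.elim_inl, Sum.elim_inr, add_zero] at e1
    have e0 : pairing' D r v.val = 0 := by linarith
    obtain ⟨k, hk, hk0⟩ := col_ne_zero D hc v.val v.2
    have := nMat_weight_rel D hD r hr u hu _ _ hne (D.simple k) (simple_lt D hs k hk)
    rw [wtI_simple_inr D hD k hk] at this
    simp only [wtI, Sum.elim_inl, Sum.elim_inr, add_zero, e0, mul_zero] at this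
    exact hk0 this
  · apply Fin.ext
    apply cols_inj D hc v.val v'.val v.2 v'.2
    intro k hk
    have a1 := nMat_weight_rel D hD r hr u hu _ _ h1 r hr
    have a2 := nMat_weight_rel D hD r hr u hu _ _ h2 r hr
    rw [hrr] at a1 a2
    have b1 := nMat_weight_rel D hD r hr u hu _ _ h1 (D.simple k) (simple_lt D hs k hk)
    have b2 := nMat_weight_rel D hD r hr u hu _ _ h2 (D.simple k) (simple_lt D hs k hk)
    rw [wtI_simple_inr D hD k hk] at b1 b2
    have e : wtI D r (Sum.inr v) = wtI D r (Sum.inr v') := by linarith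
    rw [b1, b2, e]


omit hD in
/-- the elements of `GL` of block-monomial shape whose inverse also has block-monomial shape -/
def nlGL (F : Type*) [Field F] : Subgroup (GL D.Idx F) where
  carrier := {g | NL D (g : Matrix D.Idx D.Idx F) ∧ NL D ((g⁻¹ : GL D.Idx F) : Matrix D.Idx D.Idx F)}
  one_mem' := by
    have h1 : NL D (1 : Matrix D.Idx D.Idx F) := NL_of_offdiag D _ (fun i j hij => Matrix.one_apply_ne hij)
    refine ⟨by simpa using h1, by simpa using h1⟩
  mul_mem' := by
    rintro g h ⟨hg, hg'⟩ ⟨hh, hh'⟩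
    refine ⟨?_, ?_⟩
    · rw [Units.val_mul]; exact NL_mul D _ _ hg hh
    · rw [_root_.mul_inv_rev, Units.val_mul]; exact NL_mul D _ _ hh' hg'
  inv_mem' := by
    rintro g ⟨hg, hg'⟩
    exact ⟨hg', by rwa [inv_inv]⟩

omit hD in
theorem mem_nlGL (g : GL D.Idx F) :
    g ∈ nlGL D F ↔ NL D (g : Matrix D.Idx D.Idx F) ∧ NL D ((g⁻¹ : GL D.Idx F) : Matrix D.Idx D.Idx F) := Iff.rfl

theorem offdiag_of_mem_diagonalSubgroup (g : GL D.Idx F) (hg : g ∈ D.diagonalSubgroup F) (i j : D.Idx)
    (hij : i ≠ j) : (g : Matrix D.Idx D.Idx F) i j = 0 := by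
  have h := diagonalSubgroup_le D hD hg
  rw [Subgroup.mem_inf, mem_lowerGL_zero, mem_lowerGL_zero, supp_lvl_iff, supp_lvlR_iff] at h
  rcases lt_or_gt_of_ne (fun e => hij (lvl_injective D (hlfOf D) e)) with h1 | h1
  · exact h.1 i j h1
  · exact h.2 i j h1

theorem diagonalSubgroup_le_nlGL : D.diagonalSubgroup F ≤ nlGL D F := by
  intro g hg
  rw [mem_nlGL]
  exact ⟨NL_of_offdiag D _ (offdiag_of_mem_diagonalSubgroup D hD g hg),
    NL_of_offdiag D _ (offdiag_of_mem_diagonalSubgroup D hD g⁻¹ (inv_mem hg))⟩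

theorem monomialSubgroup_le_nlGL : D.monomialSubgroup F ≤ nlGL D F := by
  conv_lhs => unfold ChevalleyDatum.monomialSubgroup
  apply sup_le (diagonalSubgroup_le_nlGL D hD)
  rw [Subgroup.closure_le]
  rintro g ⟨r, hr, hg⟩
  have e : g = wordGL D F (D.nWord r (1 : F)) := by
    apply Units.ext
    rw [hg, nWordGL_val D hD]
  rw [SetLike.mem_coe, mem_nlGL, e, nWordGL_one_inv D hD r hr, nWordGL_val D hD, nWordGL_val D hD]
  exact ⟨NL_nMat D hD r hr 1 one_ne_zero, NL_nMat D hD r hr (-1) (neg_ne_zero.mpr one_ne_zero)⟩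

omit hD in
/-- the Cartan block is the identity -/
def HB (M : Matrix D.Idx D.Idx F) : Prop := ∀ a b, M (Sum.inl a) (Sum.inl b) = if a = b then 1 else 0

omit hD in
theorem hblock_mul (hlf : ℕ) (M M' : Matrix D.Idx D.Idx F) (h : IsLower D hlf M) (h' : IsLower D hlf M')
    (a b : Fin D.rank) :
    (M * M') (Sum.inl a) (Sum.inl b) = ∑ c, M (Sum.inl a) (Sum.inl c) * M' (Sum.inl c) (Sum.inl b) := by
  rw [Matrix.mul_apply, Fintype.sum_sum_type]
  have : ∑ k : Fin D.nroots, M (Sum.inl a) (Sum.inr k) * M' (Sum.inr k) (Sum.inl b) = 0 := by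
    apply Finset.sum_eq_zero
    intro k _
    by_cases hk : k.val < hlf
    · rw [h' (Sum.inr k) (Sum.inl b) (by simp only [lvl, Sum.elim_inl, Sum.elim_inr, if_pos hk]; omega), mul_zero]
    · rw [h (Sum.inl a) (Sum.inr k) (by
        have := a.2
        simp only [lvl, Sum.elim_inl, Sum.elim_inr, if_neg hk]; omega), zero_mul]
  rw [this, add_zero]

omit hD in
theorem HB_mul (hlf : ℕ) (M M' : Matrix D.Idx D.Idx F) (h : IsLower D hlf M) (h' : IsLower D hlf M')
    (hM : HB D M) (a b : Fin D.rank) : (M * M') (Sum.inl a) (Sum.inl b) = M' (Sum.inl a) (Sum.inl b) := by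
  rw [hblock_mul D hlf M M' h h']
  simp only [hM a, ite_mul, one_mul, zero_mul, Finset.sum_ite_eq, Finset.mem_univ, if_true]

omit hD in
/-- lower triangular matrices whose Cartan block is the identity -/
def hbGL (hlf : ℕ) (F : Type*) [Field F] : Subgroup (GL D.Idx F) where
  carrier := {g | g ∈ lowerGL (lvl D hlf) F 0 ∧ HB D (g : Matrix D.Idx D.Idx F)}
  one_mem' := ⟨one_mem _, fun a b => by simp [Matrix.one_apply]⟩
  mul_mem' := by
    rintro g h ⟨hg, hg'⟩ ⟨hh, hh'⟩
    refine ⟨mul_mem hg hh, fun a b => ?_⟩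
    rw [mem_lowerGL_zero, supp_lvl_iff] at hg hh
    rw [Units.val_mul, HB_mul D hlf _ _ hg hh hg' a b]
    exact hh' a b
  inv_mem' := by
    rintro g ⟨hg, hg'⟩
    refine ⟨inv_mem hg, fun a b => ?_⟩
    have hi := inv_mem hg
    rw [mem_lowerGL_zero, supp_lvl_iff] at hg hi
    rw [← HB_mul D hlf _ _ hg hi hg' a b, ← Units.val_mul, mul_inv_cancel, Units.val_one]
    simp [Matrix.one_apply]

omit hD in
theorem x_HB (r : ℕ) (t : F) : HB D (D.x F r t) := by
  intro a b
  unfold ChevalleyDatum.x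
  split_ifs with h1 h2 h2
  · simp [ChevalleyDatum.xMat, Matrix.of_apply, h2]
  · simp only [ChevalleyDatum.xMat, Matrix.of_apply]
    rw [if_neg h2]
  · rw [h2, Matrix.one_apply_eq]
  · rw [Matrix.one_apply_ne (by simpa using h2)]

theorem posUnipotent_le_hbGL : D.posUnipotent F ≤ hbGL D (hlfOf D) F := by
  have hle := posUnipotent_le (F := F) D hD
  conv_lhs => unfold ChevalleyDatum.posUnipotent
  rw [Subgroup.closure_le]
  rintro g ⟨r, t, hr, hg⟩
  refine ⟨lowerGL_one_le_zero _ (hle (Subgroup.subset_closure ⟨r, t, hr, hg⟩)), ?_⟩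
  rw [hg]
  exact x_HB D r t

/-- `U ∩ N = 1` -/
theorem posUnipotent_inf_monomialSubgroup : D.posUnipotent F ⊓ D.monomialSubgroup F = ⊥ := by
  rw [eq_bot_iff]
  intro g hg
  rw [Subgroup.mem_inf] at hg
  obtain ⟨hU, hN⟩ := hg
  have h1 := posUnipotent_le D hD hU
  rw [mem_lowerGL_one_iff _ (lvl_injective D _)] at h1
  obtain ⟨-, hdiag⟩ := h1
  obtain ⟨-, hHB⟩ := posUnipotent_le_hbGL D hD hU
  obtain ⟨⟨n1, n2, n3⟩, -⟩ := monomialSubgroup_le_nlGL D hD hN
  rw [Subgroup.mem_bot]
  apply Units.ext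
  rw [Units.val_one]
  ext i j
  rcases i with a | v <;> rcases j with b | w
  · rw [hHB a b, Matrix.one_apply]
    simp
  · rw [n1 a w, Matrix.one_apply_ne (by simp)]
  · rw [n2 v b, Matrix.one_apply_ne (by simp)]
  · by_cases hvw : v = w
    · subst hvw
      rw [hdiag, Matrix.one_apply_eq]
    · rw [Matrix.one_apply_ne (by simpa using hvw)]
      by_contra hne
      exact hvw (n3 w v w hne (by rw [hdiag]; exact one_ne_zero))

/-- `B ∩ N = H` -/
theorem borelSubgroup_inf_monomialSubgroup :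
    D.borelSubgroup F ⊓ D.monomialSubgroup F = D.diagonalSubgroup F := by
  apply le_antisymm
  · intro g hg
    rw [Subgroup.mem_inf] at hg
    obtain ⟨hB, hN⟩ := hg
    unfold ChevalleyDatum.borelSubgroup at hB
    rw [← SetLike.mem_coe, Subgroup.coe_mul_of_right_le_normalizer_left _ _
      (diagonalSubgroup_le_normalizer_posUnipotent D hD)] at hB
    obtain ⟨u, hu, h, hh, rfl⟩ := hB
    simp only [SetLike.mem_coe] at hu hh hN ⊢
    have hHN : D.diagonalSubgroup F ≤ D.monomialSubgroup F := by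
      unfold ChevalleyDatum.monomialSubgroup
      exact le_sup_left
    have huN : u ∈ D.monomialSubgroup F := by
      have := mul_mem hN (inv_mem (hHN hh))
      rwa [mul_inv_cancel_right] at this
    have hu1 : u ∈ D.posUnipotent F ⊓ D.monomialSubgroup F := Subgroup.mem_inf.mpr ⟨hu, huN⟩
    rw [posUnipotent_inf_monomialSubgroup D hD, Subgroup.mem_bot] at hu1
    rw [hu1, one_mul]
    exact hh
  · apply le_inf
    · unfold ChevalleyDatum.borelSubgroup
      exact le_sup_right
    · unfold ChevalleyDatum.monomialSubgroup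
      exact le_sup_left

end

end Cfsg.Agent.Helper18
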