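import Cfsg.Agent.Helper18.ChevCalc

/-!
Helper18: triangularity of the root elements of a `ChevalleyDatum`.

With respect to the level function `lvl` (negative roots, then the `h_i`, then the positive roots) the root elements
of positive roots are lower unitriangular and those of negative roots are upper unitriangular. Hence every
`x_r(t)` has determinant `1`, and lifts to the general linear group (`xGL`).
-/

set_option autoImplicit false

namespace Cfsg.Agent.Helper18

open Cfsg Cfsg.Lie

/-- a level function on the coordinates: negative roots, then the `h_i`, then positive roots -/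
def lvl (D : ChevalleyDatum) (hlf : ℕ) : D.Idx → ℕ :=
  Sum.elim (fun i => hlf + i.val) (fun s => if s.val < hlf then s.val else D.rank + s.val)

theorem lvl_injective (D : ChevalleyDatum) (hlf : ℕ) : Function.Injective (lvl D hlf) := by
  rintro (a | s) (b | u) h <;> simp only [lvl, Sum.elim_inl, Sum.elim_inr] at h
  · exact congrArg _ (Fin.ext (by omega))
  · have := a.2; split_ifs at h <;> omega
  · have := b.2; split_ifs at h <;> omega
  · refine congrArg _ (Fin.ext ?_)
    split_ifs at h <;> omega

theorem lvl_lt_of_lt (D : ChevalleyDatum) (hlf : ℕ) (s u : Fin D.nroots) (h : s.val < u.val) :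
    lvl D hlf (Sum.inr s) < lvl D hlf (Sum.inr u) := by
  simp only [lvl, Sum.elim_inr]
  split_ifs <;> omega

/-- the table check: positive roots (index at least `hlf`) raise the index, negative roots lower it; the negative of
a negative root is positive and conversely; `neg` is an involution -/
def triOK (D : ChevalleyDatum) (hlf : ℕ) : Bool :=
  (List.range D.nroots).all fun r =>
    decide (D.neg r < D.nroots) && decide (D.neg (D.neg r) = r) &&
    if r < hlf then decide (hlf ≤ D.neg r) &&
      (D.chain.getD r #[]).toList.all fun e => e.2.toList.all fun q => decide (q.1 < e.1)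
    else decide (D.neg r < hlf) &&
      (D.chain.getD r #[]).toList.all fun e => e.2.toList.all fun q => decide (e.1 < q.1)

/-- the positive roots are those of index at least `hlf` -/
def posOK (D : ChevalleyDatum) (hlf : ℕ) : Bool :=
  (List.range D.nroots).all fun r =>
    (decide (D.IsPosRoot r) == decide (hlf ≤ r)) && (decide (D.IsNegRoot r) == decide (r < hlf))

theorem isPosRoot_iff (D : ChevalleyDatum) (hlf : ℕ) (h : posOK D hlf = true) (r : ℕ) :
    D.IsPosRoot r ↔ hlf ≤ r ∧ r < D.nroots := by
  constructor
  · intro hr
    have hr' := hr.1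
    unfold posOK at h
    rw [List.all_eq_true] at h
    have := h r (List.mem_range.mpr hr')
    simp only [Bool.and_eq_true, beq_iff_eq, decide_eq_decide] at this
    exact ⟨this.1.mp hr, hr'⟩
  · rintro ⟨h1, h2⟩
    unfold posOK at h
    rw [List.all_eq_true] at h
    have := h r (List.mem_range.mpr h2)
    simp only [Bool.and_eq_true, beq_iff_eq, decide_eq_decide] at this
    exact this.1.mpr h1

theorem isNegRoot_iff (D : ChevalleyDatum) (hlf : ℕ) (h : posOK D hlf = true) (r : ℕ) :
    D.IsNegRoot r ↔ r < hlf ∧ r < D.nroots := by
  constructor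
  · intro hr
    have hr' := hr.1
    unfold posOK at h
    rw [List.all_eq_true] at h
    have := h r (List.mem_range.mpr hr')
    simp only [Bool.and_eq_true, beq_iff_eq, decide_eq_decide] at this
    exact ⟨this.2.mp hr, hr'⟩
  · rintro ⟨h1, h2⟩
    unfold posOK at h
    rw [List.all_eq_true] at h
    have := h r (List.mem_range.mpr h2)
    simp only [Bool.and_eq_true, beq_iff_eq, decide_eq_decide] at this
    exact this.2.mpr h1

theorem triOK_spec (D : ChevalleyDatum) (hlf : ℕ) (h : triOK D hlf = true) (r : ℕ) (hr : r < D.nroots) :
    D.neg r < D.nroots ∧ D.neg (D.neg r) = r ∧ (r < hlf → hlf ≤ D.neg r) ∧ (hlf ≤ r → D.neg r < hlf) := by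
  unfold triOK at h
  rw [List.all_eq_true] at h
  have h1 := h r (List.mem_range.mpr hr)
  simp only [Bool.and_eq_true, decide_eq_true_eq] at h1
  refine ⟨h1.1.1, h1.1.2, ?_, ?_⟩
  · intro hlt
    have h2 := h1.2
    rw [if_pos hlt] at h2
    simp only [Bool.and_eq_true, decide_eq_true_eq] at h2
    exact h2.1
  · intro hle
    have h2 := h1.2
    rw [if_neg (by omega)] at h2
    simp only [Bool.and_eq_true, decide_eq_true_eq] at h2
    exact h2.1

theorem mem_chainCoeff (D : ChevalleyDatum) (r s u : ℕ) (km : ℕ × ℤ) (h : km ∈ D.chainCoeff r s u) :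
    ∃ e ∈ (D.chain.getD r #[]).toList, e.1 = s ∧ ∃ q ∈ e.2.toList, q.1 = u := by
  unfold ChevalleyDatum.chainCoeff at h
  simp only [List.mem_flatMap, List.mem_filter, List.mem_map, decide_eq_true_eq] at h
  obtain ⟨e, ⟨he, hes⟩, q, ⟨hq, hqu⟩, _⟩ := h
  exact ⟨e, he, hes, q.1, List.fst_mem_of_mem_zipIdx hq, hqu⟩

section
variable {F : Type*} [Field F]

theorem xMat_sum_eq_zero (D : ChevalleyDatum) (r s u : ℕ) (t : F) (h : D.chainCoeff r s u = []) :
    ((D.chainCoeff r s u).map fun km => ((km.2 : ℤ) : F) * t ^ km.1).sum = 0 := by
  rw [h]; rfl

/-- positive root elements are lower triangular -/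
theorem xMat_lower (D : ChevalleyDatum) (hlf : ℕ) (h : triOK D hlf = true) (r : Fin D.nroots) (hr : hlf ≤ r.val)
    (t : F) (i j : D.Idx) (hij : lvl D hlf i < lvl D hlf j) : D.xMat F r t i j = 0 := by
  unfold triOK at h
  rw [List.all_eq_true] at h
  have h1 := h r.val (List.mem_range.mpr r.2)
  rw [if_neg (by omega)] at h1
  simp only [Bool.and_eq_true, decide_eq_true_eq, List.all_eq_true] at h1
  obtain ⟨-, hneg, hch⟩ := h1
  simp only [ChevalleyDatum.xMat, Matrix.of_apply]
  rcases j with a | s
  · rcases i with a' | u
    · simp only [lvl, Sum.elim_inl] at hij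
      have : a' ≠ a := by intro e; rw [e] at hij; omega
      simp [this]
    · simp only [lvl, Sum.elim_inl, Sum.elim_inr] at hij
      have : u ≠ r := by
        intro e; rw [e] at hij
        have := a.2
        split_ifs at hij <;> omega
      simp [this]
  · simp only
    split_ifs with h1 h2
    · rcases i with a' | u
      · rfl
      · have : u ≠ r := by intro e; rw [e, h1] at hij; omega
        simp [this]
    · rcases i with a' | u
      · exfalso
        simp only [lvl, Sum.elim_inl, Sum.elim_inr] at hij
        have : s.val < hlf := by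
          have : s.val = D.neg r.val := h2
          omega
        rw [if_pos this] at hij
        omega
      · have hs : s.val < hlf := by
          have : s.val = D.neg r.val := h2
          omega
        have h3 : u ≠ s := by intro e; rw [e] at hij; omega
        have h4 : u ≠ r := by
          intro e; rw [e] at hij
          simp only [lvl, Sum.elim_inr] at hij
          rw [if_neg (by omega), if_pos hs] at hij
          omega
        simp [h3, h4]
    · rcases i with a' | u
      · rfl
      · have h3 : u ≠ s := by intro e; rw [e] at hij; omega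
        simp only
        rw [if_neg h3, zero_add]
        apply xMat_sum_eq_zero
        by_contra hne
        obtain ⟨km, hkm⟩ := List.exists_mem_of_ne_nil _ hne
        obtain ⟨e, he, hes, q, hq, hqu⟩ := mem_chainCoeff D r.val s.val u.val km hkm
        have := hch e he q hq
        rw [hes, hqu] at this
        have := lvl_lt_of_lt D hlf s u this
        omega

/-- negative root elements are upper triangular -/
theorem xMat_upper (D : ChevalleyDatum) (hlf : ℕ) (h : triOK D hlf = true) (r : Fin D.nroots) (hr : r.val < hlf)
    (t : F) (i j : D.Idx) (hij : lvl D hlf j < lvl D hlf i) : D.xMat F r t i j = 0 := by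
  unfold triOK at h
  rw [List.all_eq_true] at h
  have h1 := h r.val (List.mem_range.mpr r.2)
  rw [if_pos hr] at h1
  simp only [Bool.and_eq_true, decide_eq_true_eq, List.all_eq_true] at h1
  obtain ⟨-, hneg, hch⟩ := h1
  simp only [ChevalleyDatum.xMat, Matrix.of_apply]
  rcases j with a | s
  · rcases i with a' | u
    · simp only [lvl, Sum.elim_inl] at hij
      have : a' ≠ a := by intro e; rw [e] at hij; omega
      simp [this]
    · simp only [lvl, Sum.elim_inl, Sum.elim_inr] at hij
      have : u ≠ r := by
        intro e; rw [e] at hij
        have := a.2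
        rw [if_pos hr] at hij
        omega
      simp [this]
  · simp only
    split_ifs with h1 h2
    · rcases i with a' | u
      · rfl
      · have : u ≠ r := by intro e; rw [e, h1] at hij; omega
        simp [this]
    · have hs : hlf ≤ s.val := by
        have : s.val = D.neg r.val := h2
        omega
      rcases i with a' | u
      · exfalso
        simp only [lvl, Sum.elim_inl, Sum.elim_inr] at hij
        rw [if_neg (by omega)] at hij
        have := a'.2
        omega
      · have h3 : u ≠ s := by intro e; rw [e] at hij; omega
        have h4 : u ≠ r := by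
          intro e; rw [e] at hij
          simp only [lvl, Sum.elim_inr] at hij
          rw [if_pos hr, if_neg (by omega)] at hij
          omega
        simp [h3, h4]
    · rcases i with a' | u
      · rfl
      · have h3 : u ≠ s := by intro e; rw [e] at hij; omega
        simp only
        rw [if_neg h3, zero_add]
        apply xMat_sum_eq_zero
        by_contra hne
        obtain ⟨km, hkm⟩ := List.exists_mem_of_ne_nil _ hne
        obtain ⟨e, he, hes, q, hq, hqu⟩ := mem_chainCoeff D r.val s.val u.val km hkm
        have := hch e he q hq
        rw [hes, hqu] at this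
        have := lvl_lt_of_lt D hlf u s this
        omega

/-- the diagonal entries of a root element are `1` -/
theorem xMat_diag (D : ChevalleyDatum) (hlf : ℕ) (h : triOK D hlf = true) (r : Fin D.nroots)
    (t : F) (j : D.Idx) : D.xMat F r t j j = 1 := by
  unfold triOK at h
  rw [List.all_eq_true] at h
  have h1 := h r.val (List.mem_range.mpr r.2)
  simp only [ChevalleyDatum.xMat, Matrix.of_apply]
  rcases j with a | s
  · simp
  · simp only
    split_ifs with h2 h3
    · simp [h2]
    · simp
    · simp only [if_true, add_eq_left]
      apply xMat_sum_eq_zero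
      by_contra hne
      obtain ⟨km, hkm⟩ := List.exists_mem_of_ne_nil _ hne
      obtain ⟨e, he, hes, q, hq, hqu⟩ := mem_chainCoeff D r.val s.val s.val km hkm
      split_ifs at h1 with hr
      · simp only [Bool.and_eq_true, decide_eq_true_eq, List.all_eq_true] at h1
        have := h1.2.2 e he q hq
        omega
      · simp only [Bool.and_eq_true, decide_eq_true_eq, List.all_eq_true] at h1
        have := h1.2.2 e he q hq
        omega

end

theorem det_eq_one_of_blockTriangular {m α R : Type*} [Fintype m] [DecidableEq m] [LinearOrder α] [CommRing R]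
    (M : Matrix m m R) (b : m → α) (hb : Function.Injective b) (hM : M.BlockTriangular b)
    (hd : ∀ i, M i i = 1) : M.det = 1 := by
  classical
  rw [hM.det]
  apply Finset.prod_eq_one
  intro a ha
  obtain ⟨i₀, _, rfl⟩ := Finset.mem_image.mp ha
  haveI : Subsingleton { i // b i = b i₀ } := ⟨fun x y => Subtype.ext (hb (x.2.trans y.2.symm))⟩
  rw [Matrix.det_eq_elem_of_subsingleton _ (⟨i₀, rfl⟩ : { i // b i = b i₀ })]
  simp [Matrix.toSquareBlock, Matrix.toSquareBlockProp, hd]

section
variable {F : Type*} [Field F]

/-- lower triangular with respect to `lvl` -/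
def IsLower (D : ChevalleyDatum) (hlf : ℕ) (M : Matrix D.Idx D.Idx F) : Prop :=
  ∀ i j, lvl D hlf i < lvl D hlf j → M i j = 0

/-- upper triangular with respect to `lvl` -/
def IsUpper (D : ChevalleyDatum) (hlf : ℕ) (M : Matrix D.Idx D.Idx F) : Prop :=
  ∀ i j, lvl D hlf j < lvl D hlf i → M i j = 0

theorem isLower_iff (D : ChevalleyDatum) (hlf : ℕ) (M : Matrix D.Idx D.Idx F) :
    IsLower D hlf M ↔ M.BlockTriangular (OrderDual.toDual ∘ lvl D hlf) := by
  constructor
  · intro h i j hij
    exact h i j (by simpa using hij)
  · intro h i j hij
    exact h (by simpa using hij)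

theorem isUpper_iff (D : ChevalleyDatum) (hlf : ℕ) (M : Matrix D.Idx D.Idx F) :
    IsUpper D hlf M ↔ M.BlockTriangular (lvl D hlf) := by
  constructor
  · intro h i j hij
    exact h i j hij
  · intro h i j hij
    exact h hij

theorem x_isLower (D : ChevalleyDatum) (hlf : ℕ) (h : triOK D hlf = true) (r : ℕ) (hr : hlf ≤ r) (t : F) :
    IsLower D hlf (D.x F r t) := by
  intro i j hij
  unfold ChevalleyDatum.x
  split_ifs with h1
  · exact xMat_lower D hlf h ⟨r, h1⟩ hr t i j hij
  · have : i ≠ j := by intro e; rw [e] at hij; omega
    simp [this]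

theorem x_isUpper (D : ChevalleyDatum) (hlf : ℕ) (h : triOK D hlf = true) (r : ℕ) (hr : r < hlf) (t : F) :
    IsUpper D hlf (D.x F r t) := by
  intro i j hij
  unfold ChevalleyDatum.x
  split_ifs with h1
  · exact xMat_upper D hlf h ⟨r, h1⟩ hr t i j hij
  · have : i ≠ j := by intro e; rw [e] at hij; omega
    simp [this]

theorem x_diag (D : ChevalleyDatum) (hlf : ℕ) (h : triOK D hlf = true) (r : ℕ) (t : F) (j : D.Idx) :
    D.x F r t j j = 1 := by
  unfold ChevalleyDatum.x
  split_ifs with h1
  · exact xMat_diag D hlf h ⟨r, h1⟩ t j
  · simp

theorem x_det (D : ChevalleyDatum) (hlf : ℕ) (h : triOK D hlf = true) (r : ℕ) (t : F) :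
    (D.x F r t).det = 1 := by
  by_cases hr : hlf ≤ r
  · exact det_eq_one_of_blockTriangular _ (OrderDual.toDual ∘ lvl D hlf)
      (OrderDual.toDual.injective.comp (lvl_injective D hlf))
      ((isLower_iff D hlf _).mp (x_isLower D hlf h r hr t)) (x_diag D hlf h r t)
  · exact det_eq_one_of_blockTriangular _ (lvl D hlf) (lvl_injective D hlf)
      ((isUpper_iff D hlf _).mp (x_isUpper D hlf h r (by omega) t)) (x_diag D hlf h r t)

/-- the element of the general linear group with a given matrix (`1` if the matrix is singular) -/
noncomputable def toGL {n : Type*} [Fintype n] [DecidableEq n] (M : Matrix n n F) : GL n F := by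
  classical
  exact if h : M.det ≠ 0 then Matrix.GeneralLinearGroup.mkOfDetNeZero M h else 1

theorem toGL_val {n : Type*} [Fintype n] [DecidableEq n] (M : Matrix n n F) (h : M.det ≠ 0) :
    ((toGL M : GL n F) : Matrix n n F) = M := by
  unfold toGL
  rw [dif_pos h]
  rfl

/-- the root element `x_r(t)` in the general linear group -/
noncomputable def xGL (D : ChevalleyDatum) (F : Type*) [Field F] (r : ℕ) (t : F) : GL D.Idx F := toGL (D.x F r t)

theorem xGL_val (D : ChevalleyDatum) (hlf : ℕ) (h : triOK D hlf = true) (r : ℕ) (t : F) :
    ((xGL D F r t : GL D.Idx F) : Matrix D.Idx D.Idx F) = D.x F r t :=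
  toGL_val _ (by rw [x_det D hlf h r t]; exact one_ne_zero)

/-- the product of a word of root elements in the general linear group -/
noncomputable def wordGL (D : ChevalleyDatum) (F : Type*) [Field F] (w : List (ℕ × F)) : GL D.Idx F :=
  (w.map fun p => xGL D F p.1 p.2).prod

theorem wordGL_val (D : ChevalleyDatum) (hlf : ℕ) (h : triOK D hlf = true) (w : List (ℕ × F)) :
    ((wordGL D F w : GL D.Idx F) : Matrix D.Idx D.Idx F) = D.wordMat F w := by
  induction w with
  | nil => simp [wordGL, ChevalleyDatum.wordMat]
  | cons p w ih =>
    simp only [wordGL, ChevalleyDatum.wordMat, List.map_cons, List.prod_cons, Units.val_mul] at ih ⊢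
    rw [ih, xGL_val D hlf h]

theorem x_zero (D : ChevalleyDatum) (r : ℕ) : D.x F r 0 = 1 := by
  unfold ChevalleyDatum.x
  split_ifs with h1
  · ext i j
    simp only [ChevalleyDatum.xMat, Matrix.of_apply]
    rcases j with a | s
    · rcases i with a' | u
      · simp [Matrix.one_apply]
      · simp [Matrix.one_apply]
    · simp only
      split_ifs with h2 h3
      · rcases i with a' | u
        · simp [Matrix.one_apply]
        · subst h2
          simp [Matrix.one_apply]
      · rcases i with a' | u
        · simp [Matrix.one_apply]
        · by_cases hus : u = s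
          · simp [Matrix.one_apply, hus]
          · have : u ≠ ⟨r, h1⟩ ∨ True := Or.inr trivial
            simp [Matrix.one_apply, hus]
      · rcases i with a' | u
        · simp [Matrix.one_apply]
        · have hz : ((D.chainCoeff r s.val u.val).map fun km => ((km.2 : ℤ) : F) * (0:F) ^ km.1).sum = 0 := by
            apply List.sum_eq_zero
            intro x hx
            obtain ⟨km, hkm, rfl⟩ := List.mem_map.mp hx
            have : km.1 ≠ 0 := by
              unfold ChevalleyDatum.chainCoeff at hkm
              simp only [List.mem_flatMap, List.mem_filter, List.mem_map] at hkm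
              obtain ⟨e, _, q, _, rfl⟩ := hkm
              simp
            simp [this]
          simp only [hz, add_zero, Matrix.one_apply, Sum.inr.injEq]
  · rfl

end

end Cfsg.Agent.Helper18
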