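import Mathlib
set_option autoImplicit false
namespace Cfsg.Agent.Helper18

section
variable {G : Type*} [CommGroup G] {l : ℕ}

/-- the action of an integer matrix on tuples of elements of a commutative group -/
def zact (M : Matrix (Fin l) (Fin l) ℤ) : (Fin l → G) →* (Fin l → G) where
  toFun c := fun j => ∏ i, c i ^ M i j
  map_one' := by ext j; simp
  map_mul' := by intro c c'; ext j; simp [mul_zpow, Finset.prod_mul_distrib]

theorem zact_apply (M : Matrix (Fin l) (Fin l) ℤ) (c : Fin l → G) (j : Fin l) :
    zact M c j = ∏ i, c i ^ M i j := rfl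

theorem zpow_finset_sum {ι : Type*} (g : G) (s : Finset ι) (f : ι → ℤ) :
    g ^ ∑ i ∈ s, f i = ∏ i ∈ s, g ^ f i := by
  classical
  induction s using Finset.induction_on with
  | empty => simp
  | insert a s ha ih => rw [Finset.sum_insert ha, Finset.prod_insert ha, zpow_add, ih]

theorem zact_mul (M N : Matrix (Fin l) (Fin l) ℤ) (c : Fin l → G) : zact (M * N) c = zact N (zact M c) := by
  ext k
  simp only [zact_apply, Matrix.mul_apply]
  calc ∏ i, c i ^ ∑ j, M i j * N j k = ∏ i, ∏ j, (c i ^ M i j) ^ N j k := by
        apply Finset.prod_congr rfl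
        intro i _
        rw [zpow_finset_sum]
        apply Finset.prod_congr rfl
        intro j _
        rw [zpow_mul]
    _ = ∏ j, ∏ i, (c i ^ M i j) ^ N j k := Finset.prod_comm
    _ = ∏ j, (∏ i, c i ^ M i j) ^ N j k := by
        apply Finset.prod_congr rfl
        intro j _
        rw [Finset.prod_zpow]

theorem zact_one (c : Fin l → G) : zact (1 : Matrix (Fin l) (Fin l) ℤ) c = c := by
  ext j
  rw [zact_apply, Finset.prod_eq_single j]
  · simp
  · intro i _ hij
    simp [Matrix.one_apply_ne hij]
  · intro h; exact absurd (Finset.mem_univ _) h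

theorem zact_diagonal (d : Fin l → ℤ) (c : Fin l → G) (j : Fin l) :
    zact (Matrix.diagonal d) c j = c j ^ d j := by
  rw [zact_apply, Finset.prod_eq_single j]
  · simp
  · intro i _ hij
    simp [Matrix.diagonal_apply_ne _ hij]
  · intro h; exact absurd (Finset.mem_univ _) h

/-- the kernel of `zact A` is counted through a Smith normal form of `A` -/
theorem card_ker_zact [Finite G] (A P P' Q Q' : Matrix (Fin l) (Fin l) ℤ) (d : Fin l → ℕ)
    (hP : P * P' = 1) (hQ : Q * Q' = 1) (h : P * A * Q = Matrix.diagonal (fun k => (d k : ℤ))) :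
    Nat.card (zact A : (Fin l → G) →* (Fin l → G)).ker =
      ∏ k, Nat.card (powMonoidHom (d k) : G →* G).ker := by
  have hP' : P' * P = 1 := mul_eq_one_comm.mp hP
  have hQ' : Q' * Q = 1 := mul_eq_one_comm.mp hQ
  set Dg : Matrix (Fin l) (Fin l) ℤ := Matrix.diagonal (fun k => (d k : ℤ)) with hDg
  have e1 : P' * Dg = A * Q := by
    rw [← h, ← mul_assoc, ← mul_assoc, hP', one_mul]
  have e2 : P * A = Dg * Q' := by
    rw [← h, mul_assoc, hQ, mul_one]
  let e : (zact A : (Fin l → G) →* (Fin l → G)).ker ≃ (zact Dg : (Fin l → G) →* (Fin l → G)).ker :=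
    { toFun := fun c => ⟨zact P' c.1, by
        rw [MonoidHom.mem_ker, ← zact_mul, e1, zact_mul, MonoidHom.mem_ker.mp c.2, map_one]⟩
      invFun := fun b => ⟨zact P b.1, by
        rw [MonoidHom.mem_ker, ← zact_mul, e2, zact_mul, MonoidHom.mem_ker.mp b.2, map_one]⟩
      left_inv := fun c => by
        apply Subtype.ext
        simp only
        rw [← zact_mul, hP', zact_one]
      right_inv := fun b => by
        apply Subtype.ext
        simp only
        rw [← zact_mul, hP, zact_one] }
  rw [Nat.card_congr e]
  have hmem : ∀ b : Fin l → G, b ∈ (zact Dg : (Fin l → G) →* (Fin l → G)).ker ↔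
      ∀ k, b k ∈ (powMonoidHom (d k) : G →* G).ker := by
    intro b
    rw [MonoidHom.mem_ker]
    constructor
    · intro hb k
      have := congrFun hb k
      rw [zact_diagonal, zpow_natCast] at this
      rw [MonoidHom.mem_ker, powMonoidHom_apply]
      exact this
    · intro hb
      ext k
      rw [zact_diagonal, zpow_natCast]
      have := hb k
      rw [MonoidHom.mem_ker, powMonoidHom_apply] at this
      exact this
  let e' : (zact Dg : (Fin l → G) →* (Fin l → G)).ker ≃ (∀ k, (powMonoidHom (d k) : G →* G).ker) :=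
    { toFun := fun b k => ⟨b.1 k, (hmem b.1).mp b.2 k⟩
      invFun := fun f => ⟨fun k => (f k).1, (hmem _).mpr fun k => (f k).2⟩
      left_inv := fun b => rfl
      right_inv := fun f => rfl }
  rw [Nat.card_congr e', Nat.card_pi]

end

end Cfsg.Agent.Helper18
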