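import Cfsg.Agent.Helper18.HProd
import Cfsg.Agent.Helper18.TriAll
import Cfsg.Agent.Helper18.TorusCard

/-!
Helper18: the diagonal subgroup `H` as the image of the torus `(Fˣ)^l`, and its order.
-/

set_option autoImplicit false

namespace Cfsg.Agent.Helper18

open Cfsg Cfsg.Lie

section
variable {F : Type*} [Field F]

/-- the values of the roots on `∏ h_{p_i}(c_i)` -/
def torusChar (D : ChevalleyDatum) (F : Type*) [Field F] : (Fin D.rank → Fˣ) →* (D.Idx → Fˣ) where
  toFun c := Sum.elim (fun _ => 1) (fun s : Fin D.nroots => ∏ i : Fin D.rank, c i ^ D.cartan i.val s.val)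
  map_one' := by funext j; rcases j with a | s <;> simp
  map_mul' := by intro c c'; funext j; rcases j with a | s <;> simp [mul_zpow, Finset.prod_mul_distrib]

/-- the homomorphism `(Fˣ)^l → GL`, `c ↦ ∏ h_{p_i}(c_i)` -/
def torusHom (D : ChevalleyDatum) (F : Type*) [Field F] : (Fin D.rank → Fˣ) →* GL D.Idx F :=
  (Units.map (Matrix.diagonalRingHom D.Idx F).toMonoidHom).comp
    ((MulEquiv.piUnits (ι := D.Idx) (M := fun _ => F)).symm.toMonoidHom.comp (torusChar D F))

theorem torusHom_val (D : ChevalleyDatum) (c : Fin D.rank → Fˣ) :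
    ((torusHom D F c : GL D.Idx F) : Matrix D.Idx D.Idx F) =
      Matrix.diagonal (fun j => ((torusChar D F c j : Fˣ) : F)) := rfl

theorem list_range_prod_eq {M : Type*} [CommMonoid M] (n : ℕ) (f : ℕ → M) :
    ((List.range n).map f).prod = ∏ i : Fin n, f i.val := by
  induction n with
  | zero => simp
  | succ n ih =>
    rw [List.range_succ, List.map_append, List.prod_append, ih, Fin.prod_univ_castSucc]
    simp

/-- extend a tuple of units to a function on `ℕ` -/
def extendUnits (l : ℕ) (c : Fin l → Fˣ) : ℕ → F := fun i => if h : i < l then ((c ⟨i, h⟩ : Fˣ) : F) else 1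

theorem extendUnits_ne_zero (l : ℕ) (c : Fin l → Fˣ) (i : ℕ) : extendUnits l c i ≠ 0 := by
  unfold extendUnits
  split_ifs
  · exact Units.ne_zero _
  · exact one_ne_zero

theorem torusHom_val_eq_hProd (D : ChevalleyDatum) (c : Fin D.rank → Fˣ) :
    ((torusHom D F c : GL D.Idx F) : Matrix D.Idx D.Idx F) = hProd D F (extendUnits D.rank c) := by
  rw [torusHom_val]
  unfold hProd
  congr 1
  funext j
  rcases j with a | s
  · simp [torusChar]
  · simp only [torusChar, MonoidHom.coe_mk, OneHom.coe_mk, Sum.elim_inr]
    rw [list_range_prod_eq, Units.coe_prod]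
    apply Finset.prod_congr rfl
    intro i _
    rw [Units.val_zpow_eq_zpow_val]
    simp [extendUnits, i.2]

theorem torusHom_ker (D : ChevalleyDatum) : (torusHom D F).ker = (torusChar D F).ker := by
  ext c
  rw [MonoidHom.mem_ker, MonoidHom.mem_ker]
  constructor
  · intro h
    funext j
    have h1 := congrArg (fun g : GL D.Idx F => (g : Matrix D.Idx D.Idx F) j j) h
    simp only [torusHom_val, Matrix.diagonal_apply_eq, Units.val_one, Matrix.one_apply_eq] at h1
    exact Units.ext h1
  · intro h
    apply Units.ext
    rw [torusHom_val, h, Units.val_one, ← Matrix.diagonal_one]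
    rfl

variable (D : ChevalleyDatum) (hD : D ∈ [chevG2, chevB2, chevD4, chevF4, chevE6, chevE7, chevE8])
include hD

theorem torusHom_mem (c : Fin D.rank → Fˣ) : torusHom D F c ∈ D.diagonalSubgroup F := by
  have htri := triOK_of_mem D hD
  have hc : ∀ i < D.rank, extendUnits D.rank c i ≠ 0 := fun i _ => extendUnits_ne_zero _ c i
  have e : torusHom D F c =
      wordGL D F ((List.range D.rank).flatMap fun i => D.hWord (D.simple i) (extendUnits D.rank c i)) := by
    apply Units.ext
    rw [torusHom_val_eq_hProd, wordGL_val D _ htri, hProd_of_words D hD _ hc]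
  rw [e]
  have hs := simpleOK_of_mem D hD
  have : ∀ (l : List ℕ), (∀ i ∈ l, i < D.rank) →
      wordGL D F (l.flatMap fun i => D.hWord (D.simple i) (extendUnits D.rank c i)) ∈ D.diagonalSubgroup F := by
    intro l
    induction l with
    | nil => intro _; simp [wordGL]
    | cons a l ih =>
      intro hl
      rw [List.flatMap_cons]
      have : wordGL D F (D.hWord (D.simple a) (extendUnits D.rank c a) ++
          l.flatMap fun i => D.hWord (D.simple i) (extendUnits D.rank c i)) =
          wordGL D F (D.hWord (D.simple a) (extendUnits D.rank c a)) *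
          wordGL D F (l.flatMap fun i => D.hWord (D.simple i) (extendUnits D.rank c i)) := by
        simp [wordGL, List.map_append, List.prod_append]
      rw [this]
      refine mul_mem ?_ (ih fun i hi => hl i (List.mem_cons_of_mem _ hi))
      apply Subgroup.subset_closure
      refine ⟨D.simple a, extendUnits D.rank c a, simple_lt D hs a (hl a List.mem_cons_self),
        extendUnits_ne_zero _ c a, ?_⟩
      rw [wordGL_val D _ htri]; rfl
  exact this _ fun i hi => List.mem_range.mp hi

theorem torusHom_range : (torusHom D F).range = D.diagonalSubgroup F := by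
  apply le_antisymm
  · rintro g ⟨c, rfl⟩
    exact torusHom_mem D hD c
  · intro g hg
    obtain ⟨c, hc, hgc⟩ := diagonalSubgroup_le_hProdSubgroup D hD hg
    refine ⟨fun i => Units.mk0 (c i.val) (hc i.val), ?_⟩
    apply Units.ext
    rw [torusHom_val_eq_hProd, hgc]
    unfold hProd
    congr 1
    funext j
    rcases j with a | s
    · rfl
    · simp only [Sum.elim_inr]
      congr 1
      apply List.map_congr_left
      intro i hi
      rw [List.mem_range] at hi
      simp [extendUnits, hi]

/-- `|ker| · |H| = (q - 1)^l` -/
theorem card_ker_mul_card_diagonalSubgroup [Fintype F] :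
    Nat.card (torusChar D F).ker * Nat.card (D.diagonalSubgroup F) = (Fintype.card F - 1) ^ D.rank := by
  rw [← torusHom_ker, ← torusHom_range D hD, ← Subgroup.index_ker, Subgroup.card_mul_index]
  rw [Nat.card_fun, Nat.card_units, Nat.card_eq_fintype_card, Nat.card_eq_fintype_card, Fintype.card_fin]

end

end Cfsg.Agent.Helper18
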