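import Cfsg.Agent.Helper18.Monomial

/-!
Helper18: words in the elements `n_p` (`p` fundamental), their action on root elements (from the statement of S1031,
taken as a hypothesis `NConjHyp`), packed tables of the simple reflections and the longest element.
-/

set_option autoImplicit false

namespace Cfsg.Agent.Helper18

open Cfsg Cfsg.Lie

/-- the statement of S1031 for the datum `D` over `F` -/
def NConjHyp (D : ChevalleyDatum) (F : Type*) [Field F] : Prop :=
  ∀ i s : ℕ, i < D.rank → s < D.nroots → ∃ η : ℤ, (η = 1 ∨ η = -1) ∧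
    ∀ t : F, D.nMat F (D.simple i) 1 * D.x F s t =
      D.x F (D.reflectRoot i s) ((η : F) * t) * D.nMat F (D.simple i) 1

/-- the action of a word in the simple reflections on a root -/
def rho (D : ChevalleyDatum) (w : List ℕ) (s : ℕ) : ℕ := w.foldr (fun i acc => D.reflectRoot i acc) s

/-- the same from packed tables -/
def rhoFast (tabs : List ℕ) (w : List ℕ) (s : ℕ) : ℕ := w.foldr (fun i acc => getB 256 (tabs.getD i 0) acc) s

/-- the packed tables are the tables of the simple reflections, and the roots are closed under them -/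
def tabsOK (D : ChevalleyDatum) (tabs : List ℕ) : Bool :=
  (List.range D.rank).all fun i => (List.range D.nroots).all fun s =>
    (getB 256 (tabs.getD i 0) s == D.reflectRoot i s) && decide (getB 256 (tabs.getD i 0) s < D.nroots)

theorem tabsOK_spec (D : ChevalleyDatum) (tabs : List ℕ) (h : tabsOK D tabs = true) (i s : ℕ) (hi : i < D.rank)
    (hs : s < D.nroots) : getB 256 (tabs.getD i 0) s = D.reflectRoot i s ∧ D.reflectRoot i s < D.nroots := by
  unfold tabsOK at h
  rw [List.all_eq_true] at h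
  have h1 := h i (List.mem_range.mpr hi)
  rw [List.all_eq_true] at h1
  have h2 := h1 s (List.mem_range.mpr hs)
  rw [Bool.and_eq_true, beq_iff_eq, decide_eq_true_eq] at h2
  exact ⟨h2.1, h2.1 ▸ h2.2⟩

theorem rhoFast_eq (D : ChevalleyDatum) (tabs : List ℕ) (h : tabsOK D tabs = true) (w : List ℕ)
    (hw : ∀ i ∈ w, i < D.rank) (s : ℕ) (hs : s < D.nroots) :
    rhoFast tabs w s = rho D w s ∧ rho D w s < D.nroots := by
  induction w with
  | nil => exact ⟨rfl, hs⟩
  | cons i w ih =>
    have ih' := ih (fun j hj => hw j (List.mem_cons_of_mem _ hj))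
    have hi := hw i List.mem_cons_self
    simp only [rhoFast, rho, List.foldr_cons] at ih' ⊢
    rw [ih'.1]
    exact tabsOK_spec D tabs h i _ hi ih'.2

section
variable {F : Type*} [Field F]

/-- the product of the `n_p` along a word -/
noncomputable def nWordsGL (D : ChevalleyDatum) (F : Type*) [Field F] (w : List ℕ) : GL D.Idx F :=
  (w.map fun i => wordGL D F (D.nWord (D.simple i) (1 : F))).prod

variable (D : ChevalleyDatum) (hD : D ∈ [chevG2, chevB2, chevD4, chevF4, chevE6, chevE7, chevE8])
include hD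

theorem nWordsGL_mem (w : List ℕ) (hw : ∀ i ∈ w, i < D.rank) : nWordsGL D F w ∈ D.monomialSubgroup F := by
  have hs := simpleOK_of_mem D hD
  apply Subgroup.list_prod_mem
  intro g hg
  obtain ⟨i, hi, rfl⟩ := List.mem_map.mp hg
  unfold ChevalleyDatum.monomialSubgroup
  apply Subgroup.mem_sup_right
  apply Subgroup.subset_closure
  exact ⟨D.simple i, simple_lt D hs i (hw i hi), nWordGL_val D hD _ _⟩

theorem nGL_conj_xGL (h31 : NConjHyp D F) (i s : ℕ) (hi : i < D.rank) (hs : s < D.nroots) :
    ∃ η : ℤ, (η = 1 ∨ η = -1) ∧ ∀ t : F,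
      wordGL D F (D.nWord (D.simple i) (1 : F)) * xGL D F s t =
        xGL D F (D.reflectRoot i s) ((η : F) * t) * wordGL D F (D.nWord (D.simple i) (1 : F)) := by
  have htri := triOK_of_mem D hD
  obtain ⟨η, hη, h⟩ := h31 i s hi hs
  refine ⟨η, hη, fun t => ?_⟩
  apply Units.ext
  rw [Units.val_mul, Units.val_mul, xGL_val D _ htri, xGL_val D _ htri, nWordGL_val D hD]
  exact h t

theorem nWordsGL_conj_xGL (h31 : NConjHyp D F) (hrefl : ∀ i s, i < D.rank → s < D.nroots → D.reflectRoot i s < D.nroots)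
    (w : List ℕ) (hw : ∀ i ∈ w, i < D.rank) (s : ℕ) (hs : s < D.nroots) :
    rho D w s < D.nroots ∧ ∃ η : ℤ, (η = 1 ∨ η = -1) ∧ ∀ t : F,
      nWordsGL D F w * xGL D F s t = xGL D F (rho D w s) ((η : F) * t) * nWordsGL D F w := by
  induction w with
  | nil =>
    refine ⟨hs, 1, Or.inl rfl, fun t => ?_⟩
    simp [nWordsGL, rho]
  | cons i w ih =>
    obtain ⟨hlt, η', hη', h'⟩ := ih (fun j hj => hw j (List.mem_cons_of_mem _ hj))
    have hi := hw i List.mem_cons_self
    obtain ⟨η, hη, h⟩ := nGL_conj_xGL D hD h31 i (rho D w s) hi hlt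
    refine ⟨hrefl i _ hi hlt, η * η', ?_, fun t => ?_⟩
    · rcases hη with rfl | rfl <;> rcases hη' with rfl | rfl <;> simp
    · have e : nWordsGL D F (i :: w) = wordGL D F (D.nWord (D.simple i) (1 : F)) * nWordsGL D F w := by
        simp [nWordsGL]
      have e2 : rho D (i :: w) s = D.reflectRoot i (rho D w s) := rfl
      rw [e, e2, mul_assoc, h' t, ← mul_assoc, h ((η' : F) * t), mul_assoc]
      congr 2
      push_cast
      ring_nf

end

/-- the check for the longest element: it maps the positive roots onto the negative roots -/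
def w0OK (D : ChevalleyDatum) (tabs : List ℕ) (w : List ℕ) (hlf : ℕ) : Bool :=
  w.all (fun i => decide (i < D.rank)) &&
  (List.range' hlf hlf).all (fun s => decide (rhoFast tabs w s < hlf)) &&
  (List.range hlf).all (fun s' => decide (hlf ≤ rhoFast tabs w.reverse s') &&
    decide (rhoFast tabs w.reverse s' < D.nroots) && (rhoFast tabs w (rhoFast tabs w.reverse s') == s'))

section
variable {F : Type*} [Field F]

/-- `n₀ U n₀⁻¹ = V` from the checks and the statement of S1031 -/
theorem exists_longest (D : ChevalleyDatum) (hD : D ∈ [chevG2, chevB2, chevD4, chevF4, chevE6, chevE7, chevE8])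
    (h31 : NConjHyp D F) (tabs : List ℕ) (w : List ℕ) (ht : tabsOK D tabs = true)
    (hw0 : w0OK D tabs w (hlfOf D) = true) (hn : D.nroots = hlfOf D + hlfOf D) :
    ∃ n ∈ D.monomialSubgroup F, (D.posUnipotent F).map (MulAut.conj n).toMonoidHom = D.negUnipotent F := by
  have htri := triOK_of_mem D hD
  have hpos := posOK_of_mem D hD
  unfold w0OK at hw0
  simp only [Bool.and_eq_true, List.all_eq_true, decide_eq_true_eq, beq_iff_eq] at hw0
  obtain ⟨⟨hw, hfwd⟩, hbwd⟩ := hw0
  have hrefl : ∀ i s, i < D.rank → s < D.nroots → D.reflectRoot i s < D.nroots :=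
    fun i s hi hs => (tabsOK_spec D tabs ht i s hi hs).2
  refine ⟨nWordsGL D F w, nWordsGL_mem D hD w hw, ?_⟩
  have hconj : ∀ g : GL D.Idx F, (MulAut.conj (nWordsGL D F w)).toMonoidHom g =
      nWordsGL D F w * g * (nWordsGL D F w)⁻¹ := fun g => rfl
  apply le_antisymm
  · rw [Subgroup.map_le_iff_le_comap]
    conv_lhs => unfold ChevalleyDatum.posUnipotent
    rw [Subgroup.closure_le]
    rintro g ⟨s, t, hs, hg⟩
    have hs' := (isPosRoot_iff D _ hpos s).mp hs
    have hgx : g = xGL D F s t := Units.ext (by rw [hg, xGL_val D _ htri])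
    obtain ⟨hlt, η, hη, h⟩ := nWordsGL_conj_xGL D hD h31 hrefl w hw s hs'.2
    rw [SetLike.mem_coe, Subgroup.mem_comap, hconj, hgx, h t, mul_inv_cancel_right]
    apply Subgroup.subset_closure
    refine ⟨rho D w s, (η : F) * t, ?_, xGL_val D _ htri _ _⟩
    rw [isNegRoot_iff D _ hpos]
    have h1 := hfwd s (List.mem_range'_1.mpr ⟨hs'.1, by omega⟩)
    rw [(rhoFast_eq D tabs ht w hw s hs'.2).1] at h1
    exact ⟨h1, hlt⟩
  · conv_lhs => unfold ChevalleyDatum.negUnipotent
    rw [Subgroup.closure_le]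
    rintro g ⟨s', t, hs', hg⟩
    have hs'' := (isNegRoot_iff D _ hpos s').mp hs'
    have hgx : g = xGL D F s' t := Units.ext (by rw [hg, xGL_val D _ htri])
    obtain ⟨⟨h1, h2⟩, h3⟩ := hbwd s' (List.mem_range.mpr hs''.1)
    set s := rhoFast tabs w.reverse s' with hs_def
    have h4 : rho D w s = s' := by rw [← (rhoFast_eq D tabs ht w hw s h2).1]; exact h3
    obtain ⟨hlt, η, hη, h⟩ := nWordsGL_conj_xGL D hD h31 hrefl w hw s h2
    rw [SetLike.mem_coe, Subgroup.mem_map]
    refine ⟨xGL D F s ((η : F) * t), ?_, ?_⟩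
    · apply Subgroup.subset_closure
      exact ⟨s, _, (isPosRoot_iff D _ hpos s).mpr ⟨h1, h2⟩, xGL_val D _ htri _ _⟩
    · rw [hconj, h, mul_inv_cancel_right, h4, hgx, ← mul_assoc]
      congr 1
      rcases hη with rfl | rfl <;> simp

end

end Cfsg.Agent.Helper18
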