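import Cfsg.Agent.Helper18.CoxFaithful
import Cfsg.Agent.Helper18.LongWord
import Cfsg.Agent.Helper19.Cox.DataG2
import Cfsg.Agent.Helper19.Cox.DataB2
import Cfsg.Agent.Helper19.Cox.DataD4
import Cfsg.Agent.Helper19.Cox.DataF4
import Cfsg.Agent.Helper19.Cox.DataE6
import Cfsg.Agent.Helper19.Cox.DataE7
import Cfsg.Agent.Helper19.Cox.DataE8

/-!
Helper18: the action of the Coxeter groups of the seven types on the roots (tables `reflTabsX`) is faithful.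
Generated data: a base of roots and transversals of the stabiliser chain.
-/

set_option autoImplicit false
set_option maxRecDepth 100000

namespace Cfsg.Agent.Helper18

open Cfsg Cfsg.Lie Cfsg.Agent.Helper19.Cox


/-- base and transversals for the action on the roots, type G2 -/
def faithLevelsG2 : List GLevel := [
  (4, [[],
    [1],
    [0],
    [0, 1],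
    [1, 0],
    [0, 1, 0]]),
  (0, [[],
    [1, 0, 1, 0, 1]])]

theorem rootI_G2 : checkInvol reflTabsG2 2 12 = true := by decide +kernel

theorem rootB_G2 : checkBraid G2.Mx reflTabsG2 2 12 = true := by decide +kernel

theorem rootG_G2 : checkG reflTabsG2 2 12 [] faithLevelsG2 = true := by decide +kernel

theorem faithProd_G2 : (faithLevelsG2.map fun lv => lv.2.length).prod = 12 := by decide +kernel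

/-- the action of the Coxeter group of type G2 on the roots -/
noncomputable def rootPhiG2 : (CoxeterMatrix.G₂).Group →* Equiv.Perm ℕ :=
  phi (CoxeterMatrix.G₂) G2.Mx rootI_G2 rootB_G2 G2.hMx

theorem rootPhiG2_injective : Function.Injective rootPhiG2 :=
  faithful_of_checkG (CoxeterMatrix.G₂) G2.Mx rootI_G2 rootB_G2 G2.hMx faithLevelsG2 rootG_G2
    (by rw [G2.card_eq, faithProd_G2]) (by rw [G2.card_eq]; decide)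

theorem rootPhiG2_gp (w : List ℕ) (x : ℕ) :
    rootPhiG2 (gp (CoxeterMatrix.G₂) w) x = actW reflTabsG2 2 12 w x :=
  phi_gp (CoxeterMatrix.G₂) G2.Mx rootI_G2 rootB_G2 G2.hMx w x

/-- base and transversals for the action on the roots, type B2 -/
def faithLevelsB2 : List GLevel := [
  (2, [[],
    [1],
    [0],
    [1, 0]]),
  (0, [[],
    [1, 0, 1]])]

theorem rootI_B2 : checkInvol reflTabsB2 2 8 = true := by decide +kernel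

theorem rootB_B2 : checkBraid B2.Mx reflTabsB2 2 8 = true := by decide +kernel

theorem rootG_B2 : checkG reflTabsB2 2 8 [] faithLevelsB2 = true := by decide +kernel

theorem faithProd_B2 : (faithLevelsB2.map fun lv => lv.2.length).prod = 8 := by decide +kernel

/-- the action of the Coxeter group of type B2 on the roots -/
noncomputable def rootPhiB2 : ((CoxeterMatrix.B 2)).Group →* Equiv.Perm ℕ :=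
  phi ((CoxeterMatrix.B 2)) B2.Mx rootI_B2 rootB_B2 B2.hMx

theorem rootPhiB2_injective : Function.Injective rootPhiB2 :=
  faithful_of_checkG ((CoxeterMatrix.B 2)) B2.Mx rootI_B2 rootB_B2 B2.hMx faithLevelsB2 rootG_B2
    (by rw [B2.card_eq, faithProd_B2]) (by rw [B2.card_eq]; decide)

theorem rootPhiB2_gp (w : List ℕ) (x : ℕ) :
    rootPhiB2 (gp ((CoxeterMatrix.B 2)) w) x = actW reflTabsB2 2 8 w x :=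
  phi_gp ((CoxeterMatrix.B 2)) B2.Mx rootI_B2 rootB_B2 B2.hMx w x

/-- base and transversals for the action on the roots, type D4 -/
def faithLevelsD4 : List GLevel := [
  (9, [[],
    [0],
    [2],
    [3],
    [1],
    [2, 0],
    [3, 0],
    [1, 0],
    [3, 2],
    [1, 2],
    [1, 3],
    [3, 1],
    [2, 1],
    [0, 1],
    [3, 2, 0],
    [3, 1, 3],
    [2, 1, 2],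
    [2, 3, 1],
    [1, 0, 1],
    [0, 3, 1],
    [0, 2, 1],
    [1, 3, 2, 0],
    [0, 2, 3, 1],
    [1, 0, 2, 3, 1]]),
  (0, [[],
    [3, 2, 1, 2, 3],
    [3, 1, 0, 1, 3],
    [2, 1, 0, 1, 2],
    [3, 1, 0, 1, 3, 3, 2, 1, 2, 3],
    [2, 1, 0, 1, 2, 3, 2, 1, 2, 3],
    [2, 1, 0, 1, 2, 3, 1, 0, 1, 3],
    [2, 1, 0, 1, 2, 3, 1, 0, 1, 3, 3, 2, 1, 2, 3]])]

theorem rootI_D4 : checkInvol reflTabsD4 4 24 = true := by decide +kernel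

theorem rootB_D4 : checkBraid D4.Mx reflTabsD4 4 24 = true := by decide +kernel

theorem rootG_D4 : checkG reflTabsD4 4 24 [] faithLevelsD4 = true := by decide +kernel

theorem faithProd_D4 : (faithLevelsD4.map fun lv => lv.2.length).prod = 192 := by decide +kernel

/-- the action of the Coxeter group of type D4 on the roots -/
noncomputable def rootPhiD4 : (Cfsg.Lie.coxeterD4).Group →* Equiv.Perm ℕ :=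
  phi (Cfsg.Lie.coxeterD4) D4.Mx rootI_D4 rootB_D4 D4.hMx

theorem rootPhiD4_injective : Function.Injective rootPhiD4 :=
  faithful_of_checkG (Cfsg.Lie.coxeterD4) D4.Mx rootI_D4 rootB_D4 D4.hMx faithLevelsD4 rootG_D4
    (by rw [D4.card_eq, faithProd_D4]) (by rw [D4.card_eq]; decide)

theorem rootPhiD4_gp (w : List ℕ) (x : ℕ) :
    rootPhiD4 (gp (Cfsg.Lie.coxeterD4) w) x = actW reflTabsD4 4 24 w x :=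
  phi_gp (Cfsg.Lie.coxeterD4) D4.Mx rootI_D4 rootB_D4 D4.hMx w x

/-- base and transversals for the action on the roots, type F4 -/
def faithLevelsF4 : List GLevel := [
  (20, [[],
    [0],
    [2],
    [1],
    [2, 0],
    [1, 0],
    [3, 2],
    [2, 1],
    [0, 1],
    [1, 2, 0],
    [3, 2, 0],
    [3, 2, 1],
    [1, 0, 1],
    [0, 2, 1],
    [3, 1, 2, 0],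
    [0, 3, 2, 1],
    [1, 0, 2, 1],
    [2, 3, 1, 2, 0],
    [1, 0, 3, 2, 1],
    [1, 2, 1, 3, 2, 0],
    [2, 1, 0, 3, 2, 1],
    [0, 1, 2, 1, 0, 3, 2],
    [1, 2, 1, 0, 3, 2, 1],
    [0, 1, 2, 1, 0, 3, 2, 1]]),
  (23, [[],
    [3],
    [2, 1, 2],
    [2, 1, 2, 3],
    [0, 1, 2, 1, 0],
    [3, 0, 1, 2, 1, 0],
    [0, 1, 2, 1, 0, 3],
    [3, 0, 1, 2, 1, 0, 3],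
    [0, 1, 2, 1, 0, 2, 1, 2],
    [3, 0, 1, 2, 1, 0, 2, 1, 2],
    [0, 1, 2, 1, 0, 2, 1, 2, 3],
    [3, 0, 1, 2, 1, 0, 2, 1, 2, 3]]),
  (0, [[],
    [2, 3, 1, 2, 1, 3, 2],
    [0, 1, 2, 3, 1, 2, 1, 0, 1, 2, 1, 3, 2, 1, 0],
    [0, 1, 2, 3, 1, 2, 1, 0, 1, 2, 1, 3, 2, 1, 0, 2, 3, 1, 2, 1, 3, 2]])]

theorem rootI_F4 : checkInvol reflTabsF4 4 48 = true := by decide +kernel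

theorem rootB_F4 : checkBraid F4.Mx reflTabsF4 4 48 = true := by decide +kernel

theorem rootG_F4 : checkG reflTabsF4 4 48 [] faithLevelsF4 = true := by decide +kernel

theorem faithProd_F4 : (faithLevelsF4.map fun lv => lv.2.length).prod = 1152 := by decide +kernel

/-- the action of the Coxeter group of type F4 on the roots -/
noncomputable def rootPhiF4 : (CoxeterMatrix.F₄).Group →* Equiv.Perm ℕ :=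
  phi (CoxeterMatrix.F₄) F4.Mx rootI_F4 rootB_F4 F4.hMx

theorem rootPhiF4_injective : Function.Injective rootPhiF4 :=
  faithful_of_checkG (CoxeterMatrix.F₄) F4.Mx rootI_F4 rootB_F4 F4.hMx faithLevelsF4 rootG_F4
    (by rw [F4.card_eq, faithProd_F4]) (by rw [F4.card_eq]; decide)

theorem rootPhiF4_gp (w : List ℕ) (x : ℕ) :
    rootPhiF4 (gp (CoxeterMatrix.F₄) w) x = actW reflTabsF4 4 48 w x :=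
  phi_gp (CoxeterMatrix.F₄) F4.Mx rootI_F4 rootB_F4 F4.hMx w x

/-- base and transversals for the action on the roots, type E6 -/
def faithLevelsE6 : List GLevel := [
  (32, [[],
    [1],
    [2],
    [4],
    [3],
    [0, 2],
    [2, 1],
    [4, 1],
    [3, 1],
    [4, 2],
    [3, 2],
    [5, 4],
    [3, 4],
    [4, 3],
    [2, 3],
    [1, 3],
    [1, 0, 2],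
    [4, 0, 2],
    [3, 0, 2],
    [4, 2, 1],
    [5, 4, 1],
    [5, 4, 2],
    [3, 5, 4],
    [4, 3, 4],
    [5, 4, 3],
    [3, 2, 3],
    [2, 4, 3],
    [3, 1, 3],
    [1, 4, 3],
    [1, 2, 3],
    [0, 2, 3],
    [4, 1, 0, 2],
    [5, 4, 0, 2],
    [2, 3, 0, 2],
    [3, 4, 2, 1],
    [5, 4, 2, 1],
    [4, 3, 5, 4],
    [5, 4, 3, 4],
    [2, 5, 4, 3],
    [1, 5, 4, 3],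
    [1, 2, 4, 3],
    [0, 3, 2, 3],
    [0, 2, 4, 3],
    [0, 1, 2, 3],
    [3, 4, 1, 0, 2],
    [5, 4, 1, 0, 2],
    [5, 3, 4, 2, 1],
    [5, 4, 5, 3, 4],
    [1, 2, 5, 4, 3],
    [3, 1, 2, 4, 3],
    [2, 0, 2, 3, 2],
    [0, 2, 5, 4, 3],
    [0, 1, 2, 4, 3],
    [2, 3, 4, 1, 0, 2],
    [5, 3, 4, 1, 0, 2],
    [4, 5, 3, 4, 2, 1],
    [3, 1, 2, 5, 4, 3],
    [0, 1, 2, 5, 4, 3],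
    [0, 3, 1, 2, 4, 3],
    [5, 2, 3, 4, 1, 0, 2],
    [4, 5, 3, 4, 1, 0, 2],
    [4, 3, 1, 2, 5, 4, 3],
    [0, 3, 1, 2, 5, 4, 3],
    [2, 0, 3, 1, 2, 4, 3],
    [4, 5, 2, 3, 4, 1, 0, 2],
    [0, 4, 3, 1, 2, 5, 4, 3],
    [2, 0, 3, 1, 2, 5, 4, 3],
    [3, 4, 5, 2, 3, 4, 1, 0, 2],
    [2, 0, 4, 3, 1, 2, 5, 4, 3],
    [1, 3, 4, 5, 2, 3, 4, 1, 0, 2],
    [3, 2, 0, 4, 3, 1, 2, 5, 4, 3],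
    [1, 3, 2, 0, 4, 3, 1, 2, 5, 4, 3]]),
  (27, [[],
    [0],
    [5],
    [5, 0],
    [4, 3, 2, 3, 4],
    [2, 3, 1, 3, 2, 0],
    [4, 3, 2, 3, 4, 0],
    [4, 3, 1, 3, 4, 5],
    [4, 3, 2, 3, 4, 5],
    [5, 4, 3, 2, 3, 4],
    [0, 4, 3, 2, 3, 4],
    [2, 3, 1, 3, 2, 5, 0],
    [4, 3, 1, 3, 4, 5, 0],
    [5, 4, 3, 2, 3, 4, 5],
    [4, 3, 2, 0, 2, 3, 4],
    [0, 5, 4, 3, 2, 3, 4],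
    [4, 3, 2, 3, 4, 2, 3, 1, 3, 2, 0],
    [4, 3, 2, 3, 4, 4, 3, 1, 3, 4, 5],
    [4, 3, 1, 3, 4, 5, 4, 3, 2, 3, 4],
    [2, 3, 1, 3, 2, 0, 4, 3, 2, 3, 4],
    [4, 3, 1, 3, 4, 2, 3, 1, 3, 2, 5, 0],
    [0, 4, 3, 2, 3, 4, 2, 3, 1, 3, 2, 0],
    [5, 4, 3, 2, 3, 4, 4, 3, 1, 3, 4, 5],
    [4, 3, 1, 3, 4, 5, 4, 3, 2, 3, 4, 5],
    [2, 3, 1, 3, 2, 4, 3, 2, 0, 2, 3, 4],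
    [4, 3, 1, 3, 4, 0, 5, 4, 3, 2, 3, 4],
    [2, 3, 1, 3, 2, 0, 5, 4, 3, 2, 3, 4],
    [5, 4, 3, 1, 3, 4, 5, 4, 3, 2, 3, 4, 5],
    [1, 3, 2, 0, 2, 3, 1, 4, 3, 2, 3, 4, 0],
    [2, 3, 1, 3, 2, 4, 3, 1, 3, 4, 0, 5, 4, 3, 2, 3, 4]]),
  (11, [[],
    [2, 3, 1, 3, 2],
    [4, 3, 1, 3, 4],
    [5, 4, 3, 2, 0, 2, 3, 4, 5],
    [4, 3, 1, 3, 4, 2, 3, 1, 3, 2],
    [5, 4, 3, 2, 0, 2, 3, 4, 5, 2, 3, 1, 3, 2],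
    [5, 4, 3, 2, 0, 2, 3, 4, 5, 4, 3, 1, 3, 4],
    [4, 3, 1, 3, 4, 5, 4, 3, 2, 0, 2, 3, 4, 5],
    [2, 3, 1, 3, 2, 5, 4, 3, 2, 0, 2, 3, 4, 5],
    [4, 5, 3, 4, 1, 3, 2, 0, 2, 3, 1, 4, 3, 5, 4],
    [5, 2, 3, 4, 1, 3, 2, 0, 2, 3, 1, 4, 3, 2, 5],
    [2, 3, 1, 3, 2, 4, 3, 1, 3, 4, 5, 4, 3, 2, 0, 2, 3, 4, 5]]),
  (0, [[],
    [1, 3, 4, 5, 2, 3, 4, 1, 3, 2, 0, 2, 3, 1, 4, 3, 2, 5, 4, 3, 1]])]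

theorem rootI_E6 : checkInvol reflTabsE6 6 72 = true := by decide +kernel

theorem rootB_E6 : checkBraid E6.Mx reflTabsE6 6 72 = true := by decide +kernel

theorem rootG_E6 : checkG reflTabsE6 6 72 [] faithLevelsE6 = true := by decide +kernel

theorem faithProd_E6 : (faithLevelsE6.map fun lv => lv.2.length).prod = 51840 := by decide +kernel

/-- the action of the Coxeter group of type E6 on the roots -/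
noncomputable def rootPhiE6 : (CoxeterMatrix.E₆).Group →* Equiv.Perm ℕ :=
  phi (CoxeterMatrix.E₆) E6.Mx rootI_E6 rootB_E6 E6.hMx

theorem rootPhiE6_injective : Function.Injective rootPhiE6 :=
  faithful_of_checkG (CoxeterMatrix.E₆) E6.Mx rootI_E6 rootB_E6 E6.hMx faithLevelsE6 rootG_E6
    (by rw [E6.card_eq, faithProd_E6]) (by rw [E6.card_eq]; decide)

theorem rootPhiE6_gp (w : List ℕ) (x : ℕ) :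
    rootPhiE6 (gp (CoxeterMatrix.E₆) w) x = actW reflTabsE6 6 72 w x :=
  phi_gp (CoxeterMatrix.E₆) E6.Mx rootI_E6 rootB_E6 E6.hMx w x

/-- base and transversals for the action on the roots, type E7 -/
def faithLevelsE7 : List GLevel := [
  (56, [[],
    [1],
    [2],
    [4],
    [3],
    [0, 2],
    [2, 1],
    [4, 1],
    [3, 1],
    [4, 2],
    [3, 2],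
    [5, 4],
    [3, 4],
    [4, 3],
    [2, 3],
    [1, 3],
    [1, 0, 2],
    [4, 0, 2],
    [3, 0, 2],
    [4, 2, 1],
    [5, 4, 1],
    [5, 4, 2],
    [6, 5, 4],
    [3, 5, 4],
    [4, 3, 4],
    [5, 4, 3],
    [3, 2, 3],
    [2, 4, 3],
    [3, 1, 3],
    [1, 4, 3],
    [1, 2, 3],
    [0, 2, 3],
    [4, 1, 0, 2],
    [5, 4, 0, 2],
    [2, 3, 0, 2],
    [3, 4, 2, 1],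
    [5, 4, 2, 1],
    [6, 5, 4, 1],
    [6, 5, 4, 2],
    [3, 6, 5, 4],
    [4, 3, 5, 4],
    [5, 4, 3, 4],
    [6, 5, 4, 3],
    [2, 5, 4, 3],
    [1, 5, 4, 3],
    [1, 2, 4, 3],
    [0, 3, 2, 3],
    [0, 2, 4, 3],
    [0, 1, 2, 3],
    [3, 4, 1, 0, 2],
    [5, 4, 1, 0, 2],
    [6, 5, 4, 0, 2],
    [5, 3, 4, 2, 1],
    [6, 5, 4, 2, 1],
    [4, 3, 6, 5, 4],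
    [5, 4, 5, 3, 4],
    [6, 5, 4, 3, 4],
    [2, 6, 5, 4, 3],
    [1, 6, 5, 4, 3],
    [1, 2, 5, 4, 3],
    [3, 1, 2, 4, 3],
    [2, 0, 2, 3, 2],
    [0, 2, 5, 4, 3],
    [0, 1, 2, 4, 3],
    [2, 3, 4, 1, 0, 2],
    [5, 3, 4, 1, 0, 2],
    [6, 5, 4, 1, 0, 2],
    [4, 5, 3, 4, 2, 1],
    [6, 5, 3, 4, 2, 1],
    [5, 4, 3, 6, 5, 4],
    [6, 5, 4, 5, 3, 4],
    [1, 2, 6, 5, 4, 3],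
    [3, 1, 2, 5, 4, 3],
    [0, 2, 6, 5, 4, 3],
    [0, 1, 2, 5, 4, 3],
    [0, 3, 1, 2, 4, 3],
    [5, 2, 3, 4, 1, 0, 2],
    [4, 5, 3, 4, 1, 0, 2],
    [6, 5, 3, 4, 1, 0, 2],
    [6, 4, 5, 3, 4, 2, 1],
    [6, 5, 6, 4, 3, 5, 4],
    [3, 1, 2, 6, 5, 4, 3],
    [4, 3, 1, 2, 5, 4, 3],
    [0, 1, 2, 6, 5, 4, 3],
    [0, 3, 1, 2, 5, 4, 3],
    [2, 0, 3, 1, 2, 4, 3],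
    [4, 5, 2, 3, 4, 1, 0, 2],
    [6, 5, 2, 3, 4, 1, 0, 2],
    [6, 4, 5, 3, 4, 1, 0, 2],
    [5, 6, 4, 5, 3, 4, 2, 1],
    [4, 3, 1, 2, 6, 5, 4, 3],
    [0, 3, 1, 2, 6, 5, 4, 3],
    [0, 4, 3, 1, 2, 5, 4, 3],
    [2, 0, 3, 1, 2, 5, 4, 3],
    [3, 4, 5, 2, 3, 4, 1, 0, 2],
    [6, 4, 5, 2, 3, 4, 1, 0, 2],
    [5, 6, 4, 5, 3, 4, 1, 0, 2],
    [5, 4, 3, 1, 2, 6, 5, 4, 3],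
    [0, 4, 3, 1, 2, 6, 5, 4, 3],
    [2, 0, 3, 1, 2, 6, 5, 4, 3],
    [2, 0, 4, 3, 1, 2, 5, 4, 3],
    [1, 3, 4, 5, 2, 3, 4, 1, 0, 2],
    [6, 3, 4, 5, 2, 3, 4, 1, 0, 2],
    [5, 6, 4, 5, 2, 3, 4, 1, 0, 2],
    [0, 5, 4, 3, 1, 2, 6, 5, 4, 3],
    [2, 0, 4, 3, 1, 2, 6, 5, 4, 3],
    [3, 2, 0, 4, 3, 1, 2, 5, 4, 3],
    [6, 1, 3, 4, 5, 2, 3, 4, 1, 0, 2],
    [5, 6, 3, 4, 5, 2, 3, 4, 1, 0, 2],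
    [2, 0, 5, 4, 3, 1, 2, 6, 5, 4, 3],
    [3, 2, 0, 4, 3, 1, 2, 6, 5, 4, 3],
    [1, 3, 2, 0, 4, 3, 1, 2, 5, 4, 3],
    [5, 6, 1, 3, 4, 5, 2, 3, 4, 1, 0, 2],
    [4, 5, 6, 3, 4, 5, 2, 3, 4, 1, 0, 2],
    [3, 2, 0, 5, 4, 3, 1, 2, 6, 5, 4, 3],
    [1, 3, 2, 0, 4, 3, 1, 2, 6, 5, 4, 3],
    [4, 5, 6, 1, 3, 4, 5, 2, 3, 4, 1, 0, 2],
    [4, 3, 2, 0, 5, 4, 3, 1, 2, 6, 5, 4, 3],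
    [1, 3, 2, 0, 5, 4, 3, 1, 2, 6, 5, 4, 3],
    [3, 4, 5, 6, 1, 3, 4, 5, 2, 3, 4, 1, 0, 2],
    [1, 4, 3, 2, 0, 5, 4, 3, 1, 2, 6, 5, 4, 3],
    [2, 3, 4, 5, 6, 1, 3, 4, 5, 2, 3, 4, 1, 0, 2],
    [3, 1, 4, 3, 2, 0, 5, 4, 3, 1, 2, 6, 5, 4, 3],
    [0, 2, 3, 4, 5, 6, 1, 3, 4, 5, 2, 3, 4, 1, 0, 2],
    [2, 3, 1, 4, 3, 2, 0, 5, 4, 3, 1, 2, 6, 5, 4, 3],
    [0, 2, 3, 1, 4, 3, 2, 0, 5, 4, 3, 1, 2, 6, 5, 4, 3]]),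
  (49, [[],
    [0],
    [6],
    [5],
    [6, 0],
    [5, 0],
    [4, 3, 1, 3, 4],
    [4, 3, 2, 3, 4],
    [2, 3, 1, 3, 2, 0],
    [4, 3, 1, 3, 4, 0],
    [4, 3, 1, 3, 4, 6],
    [4, 3, 2, 3, 4, 6],
    [5, 4, 3, 2, 3, 4],
    [4, 3, 2, 3, 4, 5],
    [2, 3, 1, 3, 2, 6, 0],
    [2, 3, 1, 3, 2, 5, 0],
    [4, 3, 1, 3, 4, 6, 0],
    [4, 3, 2, 3, 4, 5, 0],
    [5, 4, 3, 1, 3, 4, 6],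
    [5, 4, 3, 2, 3, 4, 6],
    [6, 5, 4, 3, 2, 3, 4],
    [5, 4, 3, 2, 3, 4, 5],
    [0, 4, 3, 2, 3, 4, 5],
    [5, 4, 3, 1, 3, 4, 6, 0],
    [6, 5, 6, 4, 3, 2, 3, 4],
    [6, 5, 4, 3, 2, 3, 4, 5],
    [4, 3, 2, 0, 2, 3, 4, 5],
    [0, 5, 4, 3, 2, 3, 4, 5],
    [0, 6, 5, 4, 3, 2, 3, 4, 5],
    [4, 3, 2, 3, 4, 4, 3, 1, 3, 4],
    [4, 3, 1, 3, 4, 2, 3, 1, 3, 2, 0],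
    [4, 3, 2, 3, 4, 4, 3, 1, 3, 4, 6],
    [5, 4, 3, 2, 3, 4, 4, 3, 1, 3, 4],
    [4, 3, 1, 3, 4, 5, 4, 3, 2, 3, 4],
    [4, 3, 1, 3, 4, 2, 3, 1, 3, 2, 6, 0],
    [4, 3, 2, 3, 4, 2, 3, 1, 3, 2, 5, 0],
    [5, 4, 3, 1, 3, 4, 5, 4, 3, 2, 3, 4],
    [4, 3, 1, 3, 4, 6, 5, 4, 3, 2, 3, 4],
    [4, 3, 1, 3, 4, 5, 4, 3, 2, 3, 4, 5],
    [2, 3, 1, 3, 2, 0, 4, 3, 2, 3, 4, 5],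
    [2, 3, 1, 3, 2, 5, 4, 3, 1, 3, 4, 6, 0],
    [4, 3, 2, 3, 4, 5, 4, 3, 1, 3, 4, 6, 0],
    [0, 4, 3, 2, 3, 4, 2, 3, 1, 3, 2, 5, 0],
    [4, 3, 1, 3, 4, 6, 5, 4, 3, 2, 3, 4, 5],
    [2, 3, 1, 3, 2, 4, 3, 2, 0, 2, 3, 4, 5],
    [4, 3, 1, 3, 4, 0, 5, 4, 3, 2, 3, 4, 5],
    [2, 3, 1, 3, 2, 0, 5, 4, 3, 2, 3, 4, 5],
    [1, 3, 2, 0, 2, 3, 1, 4, 3, 2, 3, 4, 5, 0],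
    [5, 4, 3, 1, 3, 4, 6, 5, 4, 3, 2, 3, 4, 5],
    [4, 3, 1, 3, 4, 0, 6, 5, 4, 3, 2, 3, 4, 5],
    [2, 3, 1, 3, 2, 0, 6, 5, 4, 3, 2, 3, 4, 5],
    [0, 5, 4, 3, 1, 3, 4, 6, 5, 4, 3, 2, 3, 4, 5],
    [4, 3, 2, 3, 4, 2, 3, 1, 3, 2, 5, 4, 3, 1, 3, 4, 6, 0],
    [2, 3, 1, 3, 2, 4, 3, 1, 3, 4, 0, 5, 4, 3, 2, 3, 4, 5],
    [0, 4, 3, 2, 3, 4, 2, 3, 1, 3, 2, 5, 4, 3, 1, 3, 4, 6, 0],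
    [2, 3, 1, 3, 2, 4, 3, 1, 3, 4, 0, 6, 5, 4, 3, 2, 3, 4, 5],
    [4, 3, 2, 3, 4, 0, 5, 4, 3, 1, 3, 4, 6, 5, 4, 3, 2, 3, 4, 5],
    [2, 3, 1, 3, 2, 0, 5, 4, 3, 1, 3, 4, 6, 5, 4, 3, 2, 3, 4, 5],
    [2, 3, 1, 3, 2, 4, 3, 2, 3, 4, 0, 5, 4, 3, 1, 3, 4, 6, 5, 4, 3, 2, 3, 4, 5],
    [0, 2, 3, 1, 3, 2, 4, 3, 2, 3, 4, 0, 5, 4, 3, 1, 3, 4, 6, 5, 4, 3, 2, 3, 4, 5]]),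
  (29, [[],
    [6, 5, 6],
    [2, 3, 1, 3, 2],
    [5, 4, 3, 1, 3, 4, 5],
    [4, 3, 2, 0, 2, 3, 4],
    [2, 3, 1, 3, 2, 6, 5, 6],
    [5, 4, 3, 1, 3, 4, 5, 6, 5, 6],
    [4, 3, 2, 0, 2, 3, 4, 6, 5, 6],
    [6, 5, 6, 4, 3, 2, 0, 2, 3, 4],
    [6, 5, 4, 3, 2, 0, 2, 3, 4, 5, 6],
    [5, 4, 3, 1, 3, 4, 5, 2, 3, 1, 3, 2],
    [4, 3, 2, 0, 2, 3, 4, 2, 3, 1, 3, 2],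
    [2, 3, 1, 3, 2, 4, 3, 2, 0, 2, 3, 4],
    [2, 3, 4, 1, 3, 2, 0, 2, 3, 1, 4, 3, 2],
    [4, 3, 2, 0, 2, 3, 4, 5, 4, 3, 1, 3, 4, 5],
    [5, 4, 3, 1, 3, 4, 5, 4, 3, 2, 0, 2, 3, 4],
    [5, 4, 3, 1, 3, 4, 5, 2, 3, 1, 3, 2, 6, 5, 6],
    [4, 5, 3, 4, 1, 3, 2, 0, 2, 3, 1, 4, 3, 5, 4],
    [2, 3, 1, 3, 2, 6, 5, 6, 4, 3, 2, 0, 2, 3, 4],
    [5, 4, 3, 1, 3, 4, 5, 6, 5, 6, 4, 3, 2, 0, 2, 3, 4],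
    [5, 4, 3, 1, 3, 4, 5, 2, 3, 1, 3, 2, 4, 3, 2, 0, 2, 3, 4],
    [4, 3, 2, 0, 2, 3, 4, 5, 4, 3, 1, 3, 4, 5, 2, 3, 1, 3, 2, 6, 5, 6],
    [5, 4, 3, 1, 3, 4, 5, 2, 3, 1, 3, 2, 6, 5, 6, 4, 3, 2, 0, 2, 3, 4],
    [4, 3, 2, 0, 2, 3, 4, 5, 4, 3, 1, 3, 4, 5, 2, 3, 1, 3, 2, 6, 5, 6, 4, 3, 2, 0, 2, 3, 4]]),
  (1, [[],
    [6, 4, 5, 3, 4, 2, 3, 1, 3, 2, 4, 3, 5, 4, 6],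
    [6, 5, 2, 3, 4, 1, 3, 2, 0, 2, 3, 1, 4, 3, 2, 5, 6],
    [1, 3, 4, 5, 2, 3, 4, 1, 3, 2, 0, 2, 3, 1, 4, 3, 2, 5, 4, 3, 1],
    [6, 5, 2, 3, 4, 1, 3, 2, 0, 2, 3, 1, 4, 3, 2, 5, 6, 6, 4, 5, 3, 4, 2, 3, 1, 3, 2, 4, 3, 5, 4, 6],
    [1, 3, 4, 5, 2, 3, 4, 1, 3, 2, 0, 2, 3, 1, 4, 3, 2, 5, 4, 3, 1, 6, 4, 5, 3, 4, 2, 3, 1, 3, 2, 4, 3, 5, 4, 6],
    [1, 3, 4, 5, 2, 3, 4, 1, 3, 2, 0, 2, 3, 1, 4, 3, 2, 5, 4, 3, 1, 6, 5, 2, 3, 4, 1, 3, 2, 0, 2, 3, 1, 4, 3, 2, 5, 6],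
    [1, 3, 4, 5, 2, 3, 4, 1, 3, 2, 0, 2, 3, 1, 4, 3, 2, 5, 4, 3, 1, 6, 5, 2, 3, 4, 1, 3, 2, 0, 2, 3, 1, 4, 3, 2, 5, 6, 6, 4, 5, 3, 4, 2, 3, 1, 3, 2, 4, 3, 5, 4, 6]]),
  (0, [[],
    [5, 6, 4, 5, 3, 4, 1, 3, 2, 0, 2, 3, 1, 4, 3, 5, 4, 6, 5]])]

theorem rootI_E7 : checkInvol reflTabsE7 7 126 = true := by decide +kernel

theorem rootB_E7 : checkBraid E7.Mx reflTabsE7 7 126 = true := by decide +kernel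

theorem rootG_E7 : checkG reflTabsE7 7 126 [] faithLevelsE7 = true := by decide +kernel

theorem faithProd_E7 : (faithLevelsE7.map fun lv => lv.2.length).prod = 2903040 := by decide +kernel

/-- the action of the Coxeter group of type E7 on the roots -/
noncomputable def rootPhiE7 : (CoxeterMatrix.E₇).Group →* Equiv.Perm ℕ :=
  phi (CoxeterMatrix.E₇) E7.Mx rootI_E7 rootB_E7 E7.hMx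

theorem rootPhiE7_injective : Function.Injective rootPhiE7 :=
  faithful_of_checkG (CoxeterMatrix.E₇) E7.Mx rootI_E7 rootB_E7 E7.hMx faithLevelsE7 rootG_E7
    (by rw [E7.card_eq, faithProd_E7]) (by rw [E7.card_eq]; decide)

theorem rootPhiE7_gp (w : List ℕ) (x : ℕ) :
    rootPhiE7 (gp (CoxeterMatrix.E₇) w) x = actW reflTabsE7 7 126 w x :=
  phi_gp (CoxeterMatrix.E₇) E7.Mx rootI_E7 rootB_E7 E7.hMx w x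

/-- base and transversals for the action on the roots, type E8 -/
def faithLevelsE8 : List GLevel := [
  (108, [[],
    [1],
    [2],
    [5],
    [4],
    [3],
    [0, 2],
    [2, 1],
    [5, 1],
    [4, 1],
    [5, 2],
    [4, 2],
    [6, 5],
    [3, 5],
    [4, 3],
    [3, 4],
    [1, 0, 2],
    [5, 0, 2],
    [4, 0, 2],
    [3, 2, 1],
    [5, 2, 1],
    [4, 2, 1],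
    [6, 5, 1],
    [3, 4, 1],
    [6, 5, 2],
    [3, 4, 2],
    [7, 6, 5],
    [3, 6, 5],
    [4, 3, 5],
    [5, 4, 3],
    [4, 3, 4],
    [2, 3, 4],
    [1, 3, 4],
    [3, 1, 0, 2],
    [5, 1, 0, 2],
    [4, 1, 0, 2],
    [6, 5, 0, 2],
    [3, 4, 0, 2],
    [5, 3, 2, 1],
    [6, 5, 2, 1],
    [7, 6, 5, 1],
    [7, 6, 5, 2],
    [3, 7, 6, 5],
    [4, 3, 6, 5],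
    [5, 4, 5, 3],
    [6, 5, 4, 3],
    [3, 5, 4, 3],
    [3, 2, 3, 4],
    [2, 4, 3, 4],
    [3, 1, 3, 4],
    [1, 4, 3, 4],
    [1, 2, 3, 4],
    [0, 2, 3, 4],
    [2, 3, 1, 0, 2],
    [5, 3, 1, 0, 2],
    [6, 5, 1, 0, 2],
    [7, 6, 5, 0, 2],
    [2, 3, 4, 0, 2],
    [4, 5, 3, 2, 1],
    [6, 5, 3, 2, 1],
    [7, 6, 5, 2, 1],
    [4, 3, 7, 6, 5],
    [5, 4, 3, 6, 5],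
    [6, 5, 4, 5, 3],
    [7, 6, 5, 4, 3],
    [3, 6, 5, 4, 3],
    [2, 3, 5, 4, 3],
    [1, 3, 5, 4, 3],
    [1, 2, 4, 3, 4],
    [0, 3, 2, 3, 4],
    [0, 2, 4, 3, 4],
    [0, 1, 2, 3, 4],
    [5, 2, 3, 1, 0, 2],
    [4, 5, 3, 1, 0, 2],
    [6, 5, 3, 1, 0, 2],
    [7, 6, 5, 1, 0, 2],
    [6, 4, 5, 3, 2, 1],
    [7, 6, 5, 3, 2, 1],
    [5, 4, 3, 7, 6, 5],
    [6, 5, 6, 4, 3, 5],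
    [7, 6, 5, 4, 5, 3],
    [3, 7, 6, 5, 4, 3],
    [2, 3, 6, 5, 4, 3],
    [1, 3, 6, 5, 4, 3],
    [1, 2, 3, 5, 4, 3],
    [3, 1, 2, 4, 3, 4],
    [2, 0, 2, 3, 4, 2],
    [0, 2, 3, 5, 4, 3],
    [0, 1, 2, 4, 3, 4],
    [4, 5, 2, 3, 1, 0, 2],
    [6, 5, 2, 3, 1, 0, 2],
    [6, 4, 5, 3, 1, 0, 2],
    [7, 6, 5, 3, 1, 0, 2],
    [5, 6, 4, 5, 3, 2, 1],
    [7, 6, 4, 5, 3, 2, 1],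
    [6, 5, 4, 3, 7, 6, 5],
    [7, 6, 5, 6, 4, 3, 5],
    [2, 3, 7, 6, 5, 4, 3],
    [1, 3, 7, 6, 5, 4, 3],
    [1, 2, 3, 6, 5, 4, 3],
    [3, 1, 2, 3, 5, 4, 3],
    [0, 2, 3, 6, 5, 4, 3],
    [0, 1, 2, 3, 5, 4, 3],
    [0, 3, 1, 2, 4, 3, 4],
    [3, 4, 5, 2, 3, 1, 0, 2],
    [6, 4, 5, 2, 3, 1, 0, 2],
    [7, 6, 5, 2, 3, 1, 0, 2],
    [5, 6, 4, 5, 3, 1, 0, 2],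
    [7, 6, 4, 5, 3, 1, 0, 2],
    [7, 5, 6, 4, 5, 3, 2, 1],
    [7, 6, 7, 5, 4, 3, 6, 5],
    [1, 2, 3, 7, 6, 5, 4, 3],
    [3, 1, 2, 3, 6, 5, 4, 3],
    [4, 3, 1, 2, 3, 5, 4, 3],
    [0, 2, 3, 7, 6, 5, 4, 3],
    [0, 1, 2, 3, 6, 5, 4, 3],
    [0, 3, 1, 2, 3, 5, 4, 3],
    [2, 0, 3, 1, 2, 4, 3, 4],
    [1, 3, 4, 5, 2, 3, 1, 0, 2],
    [6, 3, 4, 5, 2, 3, 1, 0, 2],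
    [5, 6, 4, 5, 2, 3, 1, 0, 2],
    [7, 6, 4, 5, 2, 3, 1, 0, 2],
    [7, 5, 6, 4, 5, 3, 1, 0, 2],
    [6, 7, 5, 6, 4, 5, 3, 2, 1],
    [3, 1, 2, 3, 7, 6, 5, 4, 3],
    [4, 3, 1, 2, 3, 6, 5, 4, 3],
    [0, 1, 2, 3, 7, 6, 5, 4, 3],
    [0, 3, 1, 2, 3, 6, 5, 4, 3],
    [0, 4, 3, 1, 2, 3, 5, 4, 3],
    [2, 0, 3, 1, 2, 3, 5, 4, 3],
    [6, 1, 3, 4, 5, 2, 3, 1, 0, 2],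
    [5, 6, 3, 4, 5, 2, 3, 1, 0, 2],
    [7, 6, 3, 4, 5, 2, 3, 1, 0, 2],
    [7, 5, 6, 4, 5, 2, 3, 1, 0, 2],
    [6, 7, 5, 6, 4, 5, 3, 1, 0, 2],
    [4, 3, 1, 2, 3, 7, 6, 5, 4, 3],
    [5, 4, 3, 1, 2, 3, 6, 5, 4, 3],
    [0, 3, 1, 2, 3, 7, 6, 5, 4, 3],
    [0, 4, 3, 1, 2, 3, 6, 5, 4, 3],
    [2, 0, 3, 1, 2, 3, 6, 5, 4, 3],
    [2, 0, 4, 3, 1, 2, 3, 5, 4, 3],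
    [5, 6, 1, 3, 4, 5, 2, 3, 1, 0, 2],
    [7, 6, 1, 3, 4, 5, 2, 3, 1, 0, 2],
    [4, 5, 6, 3, 4, 5, 2, 3, 1, 0, 2],
    [7, 5, 6, 3, 4, 5, 2, 3, 1, 0, 2],
    [6, 7, 5, 6, 4, 5, 2, 3, 1, 0, 2],
    [5, 4, 3, 1, 2, 3, 7, 6, 5, 4, 3],
    [0, 4, 3, 1, 2, 3, 7, 6, 5, 4, 3],
    [0, 5, 4, 3, 1, 2, 3, 6, 5, 4, 3],
    [2, 0, 3, 1, 2, 3, 7, 6, 5, 4, 3],
    [2, 0, 4, 3, 1, 2, 3, 6, 5, 4, 3],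
    [3, 2, 0, 4, 3, 1, 2, 3, 5, 4, 3],
    [4, 5, 6, 1, 3, 4, 5, 2, 3, 1, 0, 2],
    [7, 5, 6, 1, 3, 4, 5, 2, 3, 1, 0, 2],
    [7, 4, 5, 6, 3, 4, 5, 2, 3, 1, 0, 2],
    [6, 7, 5, 6, 3, 4, 5, 2, 3, 1, 0, 2],
    [6, 5, 4, 3, 1, 2, 3, 7, 6, 5, 4, 3],
    [0, 5, 4, 3, 1, 2, 3, 7, 6, 5, 4, 3],
    [2, 0, 4, 3, 1, 2, 3, 7, 6, 5, 4, 3],
    [2, 0, 5, 4, 3, 1, 2, 3, 6, 5, 4, 3],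
    [3, 2, 0, 4, 3, 1, 2, 3, 6, 5, 4, 3],
    [1, 3, 2, 0, 4, 3, 1, 2, 3, 5, 4, 3],
    [3, 4, 5, 6, 1, 3, 4, 5, 2, 3, 1, 0, 2],
    [7, 4, 5, 6, 1, 3, 4, 5, 2, 3, 1, 0, 2],
    [6, 7, 5, 6, 1, 3, 4, 5, 2, 3, 1, 0, 2],
    [6, 7, 4, 5, 6, 3, 4, 5, 2, 3, 1, 0, 2],
    [0, 6, 5, 4, 3, 1, 2, 3, 7, 6, 5, 4, 3],
    [2, 0, 5, 4, 3, 1, 2, 3, 7, 6, 5, 4, 3],
    [3, 2, 0, 4, 3, 1, 2, 3, 7, 6, 5, 4, 3],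
    [3, 2, 0, 5, 4, 3, 1, 2, 3, 6, 5, 4, 3],
    [1, 3, 2, 0, 4, 3, 1, 2, 3, 6, 5, 4, 3],
    [2, 3, 4, 5, 6, 1, 3, 4, 5, 2, 3, 1, 0, 2],
    [7, 3, 4, 5, 6, 1, 3, 4, 5, 2, 3, 1, 0, 2],
    [6, 7, 4, 5, 6, 1, 3, 4, 5, 2, 3, 1, 0, 2],
    [5, 6, 7, 4, 5, 6, 3, 4, 5, 2, 3, 1, 0, 2],
    [2, 0, 6, 5, 4, 3, 1, 2, 3, 7, 6, 5, 4, 3],
    [3, 2, 0, 5, 4, 3, 1, 2, 3, 7, 6, 5, 4, 3],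
    [4, 3, 2, 0, 5, 4, 3, 1, 2, 3, 6, 5, 4, 3],
    [1, 3, 2, 0, 4, 3, 1, 2, 3, 7, 6, 5, 4, 3],
    [1, 3, 2, 0, 5, 4, 3, 1, 2, 3, 6, 5, 4, 3],
    [0, 2, 3, 4, 5, 6, 1, 3, 4, 5, 2, 3, 1, 0, 2],
    [7, 2, 3, 4, 5, 6, 1, 3, 4, 5, 2, 3, 1, 0, 2],
    [6, 7, 3, 4, 5, 6, 1, 3, 4, 5, 2, 3, 1, 0, 2],
    [5, 6, 7, 4, 5, 6, 1, 3, 4, 5, 2, 3, 1, 0, 2],
    [3, 2, 0, 6, 5, 4, 3, 1, 2, 3, 7, 6, 5, 4, 3],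
    [4, 3, 2, 0, 5, 4, 3, 1, 2, 3, 7, 6, 5, 4, 3],
    [1, 3, 2, 0, 5, 4, 3, 1, 2, 3, 7, 6, 5, 4, 3],
    [1, 4, 3, 2, 0, 5, 4, 3, 1, 2, 3, 6, 5, 4, 3],
    [7, 0, 2, 3, 4, 5, 6, 1, 3, 4, 5, 2, 3, 1, 0, 2],
    [6, 7, 2, 3, 4, 5, 6, 1, 3, 4, 5, 2, 3, 1, 0, 2],
    [5, 6, 7, 3, 4, 5, 6, 1, 3, 4, 5, 2, 3, 1, 0, 2],
    [4, 3, 2, 0, 6, 5, 4, 3, 1, 2, 3, 7, 6, 5, 4, 3],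
    [1, 3, 2, 0, 6, 5, 4, 3, 1, 2, 3, 7, 6, 5, 4, 3],
    [1, 4, 3, 2, 0, 5, 4, 3, 1, 2, 3, 7, 6, 5, 4, 3],
    [3, 1, 4, 3, 2, 0, 5, 4, 3, 1, 2, 3, 6, 5, 4, 3],
    [6, 7, 0, 2, 3, 4, 5, 6, 1, 3, 4, 5, 2, 3, 1, 0, 2],
    [5, 6, 7, 2, 3, 4, 5, 6, 1, 3, 4, 5, 2, 3, 1, 0, 2],
    [4, 5, 6, 7, 3, 4, 5, 6, 1, 3, 4, 5, 2, 3, 1, 0, 2],
    [5, 4, 3, 2, 0, 6, 5, 4, 3, 1, 2, 3, 7, 6, 5, 4, 3],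
    [1, 4, 3, 2, 0, 6, 5, 4, 3, 1, 2, 3, 7, 6, 5, 4, 3],
    [3, 1, 4, 3, 2, 0, 5, 4, 3, 1, 2, 3, 7, 6, 5, 4, 3],
    [2, 3, 1, 4, 3, 2, 0, 5, 4, 3, 1, 2, 3, 6, 5, 4, 3],
    [5, 6, 7, 0, 2, 3, 4, 5, 6, 1, 3, 4, 5, 2, 3, 1, 0, 2],
    [4, 5, 6, 7, 2, 3, 4, 5, 6, 1, 3, 4, 5, 2, 3, 1, 0, 2],
    [1, 5, 4, 3, 2, 0, 6, 5, 4, 3, 1, 2, 3, 7, 6, 5, 4, 3],
    [3, 1, 4, 3, 2, 0, 6, 5, 4, 3, 1, 2, 3, 7, 6, 5, 4, 3],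
    [2, 3, 1, 4, 3, 2, 0, 5, 4, 3, 1, 2, 3, 7, 6, 5, 4, 3],
    [0, 2, 3, 1, 4, 3, 2, 0, 5, 4, 3, 1, 2, 3, 6, 5, 4, 3],
    [4, 5, 6, 7, 0, 2, 3, 4, 5, 6, 1, 3, 4, 5, 2, 3, 1, 0, 2],
    [3, 4, 5, 6, 7, 2, 3, 4, 5, 6, 1, 3, 4, 5, 2, 3, 1, 0, 2],
    [3, 1, 5, 4, 3, 2, 0, 6, 5, 4, 3, 1, 2, 3, 7, 6, 5, 4, 3],
    [2, 3, 1, 4, 3, 2, 0, 6, 5, 4, 3, 1, 2, 3, 7, 6, 5, 4, 3],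
    [0, 2, 3, 1, 4, 3, 2, 0, 5, 4, 3, 1, 2, 3, 7, 6, 5, 4, 3],
    [3, 4, 5, 6, 7, 0, 2, 3, 4, 5, 6, 1, 3, 4, 5, 2, 3, 1, 0, 2],
    [1, 3, 4, 5, 6, 7, 2, 3, 4, 5, 6, 1, 3, 4, 5, 2, 3, 1, 0, 2],
    [4, 3, 1, 5, 4, 3, 2, 0, 6, 5, 4, 3, 1, 2, 3, 7, 6, 5, 4, 3],
    [2, 3, 1, 5, 4, 3, 2, 0, 6, 5, 4, 3, 1, 2, 3, 7, 6, 5, 4, 3],
    [0, 2, 3, 1, 4, 3, 2, 0, 6, 5, 4, 3, 1, 2, 3, 7, 6, 5, 4, 3],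
    [1, 3, 4, 5, 6, 7, 0, 2, 3, 4, 5, 6, 1, 3, 4, 5, 2, 3, 1, 0, 2],
    [2, 3, 4, 5, 6, 7, 0, 2, 3, 4, 5, 6, 1, 3, 4, 5, 2, 3, 1, 0, 2],
    [2, 4, 3, 1, 5, 4, 3, 2, 0, 6, 5, 4, 3, 1, 2, 3, 7, 6, 5, 4, 3],
    [0, 2, 3, 1, 5, 4, 3, 2, 0, 6, 5, 4, 3, 1, 2, 3, 7, 6, 5, 4, 3],
    [2, 1, 3, 4, 5, 6, 7, 0, 2, 3, 4, 5, 6, 1, 3, 4, 5, 2, 3, 1, 0, 2],
    [3, 2, 4, 3, 1, 5, 4, 3, 2, 0, 6, 5, 4, 3, 1, 2, 3, 7, 6, 5, 4, 3],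
    [0, 2, 4, 3, 1, 5, 4, 3, 2, 0, 6, 5, 4, 3, 1, 2, 3, 7, 6, 5, 4, 3],
    [3, 2, 1, 3, 4, 5, 6, 7, 0, 2, 3, 4, 5, 6, 1, 3, 4, 5, 2, 3, 1, 0, 2],
    [1, 3, 2, 4, 3, 1, 5, 4, 3, 2, 0, 6, 5, 4, 3, 1, 2, 3, 7, 6, 5, 4, 3],
    [0, 3, 2, 4, 3, 1, 5, 4, 3, 2, 0, 6, 5, 4, 3, 1, 2, 3, 7, 6, 5, 4, 3],
    [4, 3, 2, 1, 3, 4, 5, 6, 7, 0, 2, 3, 4, 5, 6, 1, 3, 4, 5, 2, 3, 1, 0, 2],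
    [2, 0, 3, 2, 4, 3, 1, 5, 4, 3, 2, 0, 6, 5, 4, 3, 1, 2, 3, 7, 6, 5, 4, 3],
    [0, 1, 3, 2, 4, 3, 1, 5, 4, 3, 2, 0, 6, 5, 4, 3, 1, 2, 3, 7, 6, 5, 4, 3],
    [5, 4, 3, 2, 1, 3, 4, 5, 6, 7, 0, 2, 3, 4, 5, 6, 1, 3, 4, 5, 2, 3, 1, 0, 2],
    [1, 2, 0, 3, 2, 4, 3, 1, 5, 4, 3, 2, 0, 6, 5, 4, 3, 1, 2, 3, 7, 6, 5, 4, 3],
    [6, 5, 4, 3, 2, 1, 3, 4, 5, 6, 7, 0, 2, 3, 4, 5, 6, 1, 3, 4, 5, 2, 3, 1, 0, 2],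
    [3, 1, 2, 0, 3, 2, 4, 3, 1, 5, 4, 3, 2, 0, 6, 5, 4, 3, 1, 2, 3, 7, 6, 5, 4, 3],
    [7, 6, 5, 4, 3, 2, 1, 3, 4, 5, 6, 7, 0, 2, 3, 4, 5, 6, 1, 3, 4, 5, 2, 3, 1, 0, 2],
    [4, 3, 1, 2, 0, 3, 2, 4, 3, 1, 5, 4, 3, 2, 0, 6, 5, 4, 3, 1, 2, 3, 7, 6, 5, 4, 3],
    [5, 4, 3, 1, 2, 0, 3, 2, 4, 3, 1, 5, 4, 3, 2, 0, 6, 5, 4, 3, 1, 2, 3, 7, 6, 5, 4, 3],
    [6, 5, 4, 3, 1, 2, 0, 3, 2, 4, 3, 1, 5, 4, 3, 2, 0, 6, 5, 4, 3, 1, 2, 3, 7, 6, 5, 4, 3],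
    [7, 6, 5, 4, 3, 1, 2, 0, 3, 2, 4, 3, 1, 5, 4, 3, 2, 0, 6, 5, 4, 3, 1, 2, 3, 7, 6, 5, 4, 3]]),
  (101, [[],
    [0],
    [6],
    [6, 0],
    [7, 6],
    [7, 6, 0],
    [3, 1, 3],
    [5, 4, 5],
    [3, 2, 3],
    [3, 1, 3, 0],
    [5, 4, 5, 0],
    [3, 1, 3, 6],
    [3, 2, 3, 6],
    [3, 1, 3, 6, 0],
    [3, 1, 3, 7, 6],
    [3, 2, 3, 7, 6],
    [3, 1, 3, 7, 6, 0],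
    [3, 2, 3, 3, 1, 3],
    [5, 4, 5, 3, 2, 3],
    [3, 2, 3, 5, 4, 5],
    [3, 2, 3, 5, 4, 5, 0],
    [5, 4, 5, 3, 1, 3, 6],
    [3, 2, 3, 3, 1, 3, 6],
    [5, 4, 5, 3, 2, 3, 6],
    [6, 5, 4, 5, 3, 2, 3],
    [5, 4, 3, 2, 3, 4, 5],
    [0, 3, 2, 3, 5, 4, 5],
    [4, 2, 3, 1, 3, 2, 4, 0],
    [5, 4, 5, 3, 1, 3, 6, 0],
    [5, 4, 5, 3, 1, 3, 7, 6],
    [3, 2, 3, 3, 1, 3, 7, 6],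
    [5, 4, 5, 3, 2, 3, 7, 6],
    [6, 5, 4, 5, 6, 3, 2, 3],
    [7, 6, 5, 4, 5, 3, 2, 3],
    [6, 5, 4, 3, 2, 3, 4, 5],
    [3, 2, 0, 2, 3, 5, 4, 5],
    [0, 5, 4, 3, 2, 3, 4, 5],
    [4, 2, 3, 1, 3, 2, 4, 6, 0],
    [5, 4, 5, 3, 1, 3, 7, 6, 0],
    [6, 5, 4, 5, 3, 1, 3, 7, 6],
    [5, 4, 5, 3, 2, 3, 3, 1, 3],
    [6, 5, 4, 5, 3, 2, 3, 7, 6],
    [7, 6, 5, 4, 5, 6, 3, 2, 3],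
    [7, 6, 5, 4, 3, 2, 3, 4, 5],
    [3, 1, 3, 5, 4, 5, 3, 2, 3],
    [0, 6, 5, 4, 3, 2, 3, 4, 5],
    [4, 2, 3, 1, 3, 2, 4, 7, 6, 0],
    [6, 5, 4, 5, 3, 1, 3, 7, 6, 0],
    [7, 6, 7, 5, 4, 5, 3, 2, 3, 6],
    [5, 4, 3, 1, 3, 4, 5, 3, 2, 3],
    [3, 1, 3, 6, 5, 4, 5, 3, 2, 3],
    [3, 1, 3, 5, 4, 3, 2, 3, 4, 5],
    [0, 7, 6, 5, 4, 3, 2, 3, 4, 5],
    [4, 2, 3, 1, 3, 2, 4, 3, 1, 3, 0],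
    [3, 2, 3, 5, 4, 5, 3, 1, 3, 6, 0],
    [4, 2, 3, 1, 3, 2, 4, 5, 4, 5, 0],
    [3, 1, 3, 7, 6, 5, 4, 5, 3, 2, 3],
    [3, 1, 3, 6, 5, 4, 3, 2, 3, 4, 5],
    [3, 1, 3, 0, 5, 4, 3, 2, 3, 4, 5],
    [4, 2, 3, 1, 3, 2, 4, 3, 1, 3, 6, 0],
    [3, 2, 3, 5, 4, 5, 3, 1, 3, 7, 6, 0],
    [3, 1, 3, 7, 6, 5, 4, 3, 2, 3, 4, 5],
    [3, 1, 3, 0, 6, 5, 4, 3, 2, 3, 4, 5],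
    [4, 2, 3, 1, 3, 2, 4, 3, 1, 3, 7, 6, 0],
    [3, 2, 3, 6, 5, 4, 5, 3, 1, 3, 7, 6, 0],
    [3, 1, 3, 0, 7, 6, 5, 4, 3, 2, 3, 4, 5],
    [4, 2, 3, 1, 3, 2, 4, 3, 2, 3, 5, 4, 5, 0],
    [5, 4, 5, 3, 1, 3, 6, 5, 4, 3, 2, 3, 4, 5],
    [4, 2, 3, 1, 3, 2, 4, 0, 3, 2, 3, 5, 4, 5],
    [4, 2, 3, 1, 3, 2, 4, 5, 4, 5, 3, 1, 3, 6, 0],
    [0, 4, 2, 3, 1, 3, 2, 4, 3, 2, 3, 5, 4, 5, 0],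
    [5, 4, 5, 3, 1, 3, 7, 6, 5, 4, 3, 2, 3, 4, 5],
    [4, 2, 3, 1, 3, 2, 4, 3, 2, 0, 2, 3, 5, 4, 5],
    [5, 4, 5, 3, 1, 3, 0, 6, 5, 4, 3, 2, 3, 4, 5],
    [4, 2, 3, 1, 3, 2, 4, 0, 5, 4, 3, 2, 3, 4, 5],
    [4, 2, 3, 1, 3, 2, 4, 5, 4, 5, 3, 1, 3, 7, 6, 0],
    [5, 4, 5, 3, 2, 3, 6, 5, 4, 5, 3, 1, 3, 7, 6, 0],
    [4, 1, 3, 2, 0, 2, 3, 1, 4, 3, 2, 3, 5, 4, 5, 0],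
    [6, 5, 4, 5, 3, 1, 3, 7, 6, 5, 4, 3, 2, 3, 4, 5],
    [5, 4, 5, 3, 1, 3, 0, 7, 6, 5, 4, 3, 2, 3, 4, 5],
    [4, 2, 3, 1, 3, 2, 4, 0, 6, 5, 4, 3, 2, 3, 4, 5],
    [4, 2, 3, 1, 3, 2, 4, 6, 5, 4, 5, 3, 1, 3, 7, 6, 0],
    [0, 6, 5, 4, 5, 3, 1, 3, 7, 6, 5, 4, 3, 2, 3, 4, 5],
    [4, 2, 3, 1, 3, 2, 4, 0, 7, 6, 5, 4, 3, 2, 3, 4, 5],
    [4, 2, 3, 1, 3, 2, 4, 3, 2, 3, 5, 4, 5, 3, 1, 3, 6, 0],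
    [3, 2, 3, 5, 4, 5, 3, 1, 3, 0, 6, 5, 4, 3, 2, 3, 4, 5],
    [4, 2, 3, 1, 3, 2, 4, 3, 1, 3, 0, 5, 4, 3, 2, 3, 4, 5],
    [0, 4, 2, 3, 1, 3, 2, 4, 3, 2, 3, 5, 4, 5, 3, 1, 3, 6, 0],
    [4, 2, 3, 1, 3, 2, 4, 3, 2, 3, 5, 4, 5, 3, 1, 3, 7, 6, 0],
    [3, 1, 3, 5, 4, 5, 3, 2, 3, 6, 5, 4, 5, 3, 1, 3, 7, 6, 0],
    [3, 2, 3, 5, 4, 5, 3, 1, 3, 0, 7, 6, 5, 4, 3, 2, 3, 4, 5],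
    [4, 2, 3, 1, 3, 2, 4, 3, 1, 3, 0, 6, 5, 4, 3, 2, 3, 4, 5],
    [7, 0, 4, 2, 3, 1, 3, 2, 4, 3, 2, 3, 5, 4, 5, 3, 1, 3, 6, 0],
    [4, 2, 3, 1, 3, 2, 4, 3, 2, 3, 6, 5, 4, 5, 3, 1, 3, 7, 6, 0],
    [3, 2, 3, 0, 6, 5, 4, 5, 3, 1, 3, 7, 6, 5, 4, 3, 2, 3, 4, 5],
    [4, 2, 3, 1, 3, 2, 4, 3, 1, 3, 0, 7, 6, 5, 4, 3, 2, 3, 4, 5],
    [6, 7, 0, 4, 2, 3, 1, 3, 2, 4, 3, 2, 3, 5, 4, 5, 3, 1, 3, 6, 0],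
    [4, 2, 3, 1, 3, 2, 4, 5, 4, 5, 3, 1, 3, 0, 6, 5, 4, 3, 2, 3, 4, 5],
    [4, 2, 3, 1, 3, 2, 4, 5, 4, 5, 3, 2, 3, 6, 5, 4, 5, 3, 1, 3, 7, 6, 0],
    [5, 4, 5, 3, 2, 3, 0, 6, 5, 4, 5, 3, 1, 3, 7, 6, 5, 4, 3, 2, 3, 4, 5],
    [4, 2, 3, 1, 3, 2, 4, 5, 4, 5, 3, 1, 3, 0, 7, 6, 5, 4, 3, 2, 3, 4, 5],
    [5, 4, 5, 6, 7, 0, 4, 2, 3, 1, 3, 2, 4, 3, 2, 3, 5, 4, 5, 3, 1, 3, 6, 0],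
    [4, 2, 3, 1, 3, 2, 4, 0, 6, 5, 4, 5, 3, 1, 3, 7, 6, 5, 4, 3, 2, 3, 4, 5],
    [4, 2, 3, 1, 3, 2, 4, 3, 2, 3, 5, 4, 5, 3, 1, 3, 0, 6, 5, 4, 3, 2, 3, 4, 5],
    [4, 2, 3, 1, 3, 2, 4, 3, 1, 3, 5, 4, 5, 3, 2, 3, 6, 5, 4, 5, 3, 1, 3, 7, 6, 0],
    [3, 1, 3, 5, 4, 5, 3, 2, 3, 0, 6, 5, 4, 5, 3, 1, 3, 7, 6, 5, 4, 3, 2, 3, 4, 5],
    [4, 2, 3, 1, 3, 2, 4, 3, 2, 3, 5, 4, 5, 3, 1, 3, 0, 7, 6, 5, 4, 3, 2, 3, 4, 5],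
    [0, 4, 2, 3, 1, 3, 2, 4, 3, 2, 3, 5, 4, 5, 3, 1, 3, 0, 6, 5, 4, 3, 2, 3, 4, 5],
    [3, 1, 3, 5, 4, 5, 6, 7, 0, 4, 2, 3, 1, 3, 2, 4, 3, 2, 3, 5, 4, 5, 3, 1, 3, 6, 0],
    [3, 2, 3, 5, 4, 5, 6, 7, 0, 4, 2, 3, 1, 3, 2, 4, 3, 2, 3, 5, 4, 5, 3, 1, 3, 6, 0],
    [4, 2, 3, 1, 3, 2, 4, 3, 2, 3, 0, 6, 5, 4, 5, 3, 1, 3, 7, 6, 5, 4, 3, 2, 3, 4, 5],
    [0, 4, 2, 3, 1, 3, 2, 4, 3, 2, 3, 5, 4, 5, 3, 1, 3, 0, 7, 6, 5, 4, 3, 2, 3, 4, 5],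
    [0, 4, 2, 3, 1, 3, 2, 4, 3, 2, 3, 0, 6, 5, 4, 5, 3, 1, 3, 7, 6, 5, 4, 3, 2, 3, 4, 5],
    [3, 2, 3, 3, 1, 3, 5, 4, 5, 6, 7, 0, 4, 2, 3, 1, 3, 2, 4, 3, 2, 3, 5, 4, 5, 3, 1, 3, 6, 0],
    [4, 2, 3, 1, 3, 2, 4, 5, 4, 5, 3, 2, 3, 0, 6, 5, 4, 5, 3, 1, 3, 7, 6, 5, 4, 3, 2, 3, 4, 5],
    [5, 4, 5, 0, 4, 2, 3, 1, 3, 2, 4, 3, 2, 3, 0, 6, 5, 4, 5, 3, 1, 3, 7, 6, 5, 4, 3, 2, 3, 4, 5],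
    [5, 4, 5, 3, 2, 3, 3, 1, 3, 5, 4, 5, 6, 7, 0, 4, 2, 3, 1, 3, 2, 4, 3, 2, 3, 5, 4, 5, 3, 1, 3, 6, 0],
    [4, 2, 3, 1, 3, 2, 4, 3, 1, 3, 5, 4, 5, 3, 2, 3, 0, 6, 5, 4, 5, 3, 1, 3, 7, 6, 5, 4, 3, 2, 3, 4, 5],
    [6, 5, 4, 5, 3, 2, 3, 3, 1, 3, 5, 4, 5, 6, 7, 0, 4, 2, 3, 1, 3, 2, 4, 3, 2, 3, 5, 4, 5, 3, 1, 3, 6, 0],
    [3, 2, 3, 5, 4, 5, 0, 4, 2, 3, 1, 3, 2, 4, 3, 2, 3, 0, 6, 5, 4, 5, 3, 1, 3, 7, 6, 5, 4, 3, 2, 3, 4, 5],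
    [3, 1, 3, 5, 4, 5, 0, 4, 2, 3, 1, 3, 2, 4, 3, 2, 3, 0, 6, 5, 4, 5, 3, 1, 3, 7, 6, 5, 4, 3, 2, 3, 4, 5],
    [7, 6, 5, 4, 5, 3, 2, 3, 3, 1, 3, 5, 4, 5, 6, 7, 0, 4, 2, 3, 1, 3, 2, 4, 3, 2, 3, 5, 4, 5, 3, 1, 3, 6, 0],
    [3, 1, 3, 3, 2, 3, 5, 4, 5, 0, 4, 2, 3, 1, 3, 2, 4, 3, 2, 3, 0, 6, 5, 4, 5, 3, 1, 3, 7, 6, 5, 4, 3, 2, 3, 4, 5],
    [5, 4, 5, 3, 1, 3, 3, 2, 3, 5, 4, 5, 0, 4, 2, 3, 1, 3, 2, 4, 3, 2, 3, 0, 6, 5, 4, 5, 3, 1, 3, 7, 6, 5, 4, 3, 2, 3, 4, 5],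
    [6, 5, 4, 5, 3, 1, 3, 3, 2, 3, 5, 4, 5, 0, 4, 2, 3, 1, 3, 2, 4, 3, 2, 3, 0, 6, 5, 4, 5, 3, 1, 3, 7, 6, 5, 4, 3, 2, 3, 4, 5],
    [7, 6, 5, 4, 5, 3, 1, 3, 3, 2, 3, 5, 4, 5, 0, 4, 2, 3, 1, 3, 2, 4, 3, 2, 3, 0, 6, 5, 4, 5, 3, 1, 3, 7, 6, 5, 4, 3, 2, 3, 4, 5]]),
  (72, [[],
    [7],
    [6, 5, 4, 5, 6],
    [3, 2, 0, 2, 3],
    [3, 2, 0, 2, 3, 7],
    [4, 2, 3, 1, 3, 2, 4],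
    [5, 4, 3, 1, 3, 4, 5],
    [4, 2, 3, 1, 3, 2, 4, 7],
    [5, 4, 3, 1, 3, 4, 5, 7],
    [6, 5, 4, 5, 6, 3, 2, 0, 2, 3],
    [3, 2, 0, 2, 3, 6, 5, 4, 5, 6],
    [6, 5, 4, 5, 6, 3, 2, 0, 2, 3, 7],
    [7, 6, 5, 4, 5, 6, 3, 2, 0, 2, 3],
    [6, 5, 4, 3, 2, 0, 2, 3, 4, 5, 6],
    [4, 2, 3, 1, 3, 2, 4, 6, 5, 4, 5, 6],
    [5, 4, 3, 1, 3, 4, 5, 6, 5, 4, 5, 6],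
    [7, 6, 5, 4, 5, 6, 7, 3, 2, 0, 2, 3],
    [7, 6, 5, 4, 3, 2, 0, 2, 3, 4, 5, 6],
    [5, 4, 3, 1, 3, 4, 5, 4, 2, 3, 1, 3, 2, 4],
    [6, 5, 3, 4, 2, 3, 1, 3, 2, 4, 3, 5, 6, 7],
    [5, 4, 3, 1, 3, 4, 5, 4, 2, 3, 1, 3, 2, 4, 7],
    [3, 2, 0, 2, 3, 4, 2, 3, 1, 3, 2, 4, 6, 5, 4, 5, 6],
    [3, 2, 0, 2, 3, 5, 4, 3, 1, 3, 4, 5, 6, 5, 4, 5, 6],
    [5, 4, 3, 1, 3, 4, 5, 3, 2, 0, 2, 3, 6, 5, 4, 5, 6],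
    [4, 2, 3, 1, 3, 2, 4, 3, 2, 0, 2, 3, 6, 5, 4, 5, 6],
    [5, 3, 4, 1, 3, 2, 0, 2, 3, 1, 4, 3, 5, 6, 5, 4, 5, 6],
    [2, 3, 4, 1, 3, 2, 0, 2, 3, 1, 4, 3, 2, 6, 5, 4, 5, 6],
    [5, 4, 3, 1, 3, 4, 5, 6, 5, 4, 3, 2, 0, 2, 3, 4, 5, 6],
    [4, 2, 3, 1, 3, 2, 4, 6, 5, 4, 3, 2, 0, 2, 3, 4, 5, 6],
    [3, 2, 0, 2, 3, 5, 4, 3, 1, 3, 4, 5, 4, 2, 3, 1, 3, 2, 4],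
    [5, 4, 3, 1, 3, 4, 5, 4, 2, 3, 1, 3, 2, 4, 6, 5, 4, 5, 6],
    [6, 5, 3, 4, 2, 3, 1, 3, 2, 4, 3, 5, 6, 3, 2, 0, 2, 3, 7],
    [5, 4, 3, 1, 3, 4, 5, 7, 6, 5, 4, 3, 2, 0, 2, 3, 4, 5, 6],
    [4, 2, 3, 1, 3, 2, 4, 7, 6, 5, 4, 3, 2, 0, 2, 3, 4, 5, 6],
    [3, 2, 0, 2, 3, 5, 4, 3, 1, 3, 4, 5, 4, 2, 3, 1, 3, 2, 4, 7],
    [6, 5, 3, 4, 2, 3, 1, 3, 2, 4, 3, 5, 6, 4, 2, 3, 1, 3, 2, 4, 7],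
    [6, 5, 3, 4, 2, 3, 1, 3, 2, 4, 3, 5, 6, 5, 4, 3, 1, 3, 4, 5, 7],
    [6, 5, 3, 4, 2, 3, 1, 3, 2, 4, 3, 5, 6, 6, 5, 4, 5, 6, 3, 2, 0, 2, 3, 7],
    [6, 5, 3, 4, 2, 3, 1, 3, 2, 4, 3, 5, 6, 7, 6, 5, 4, 5, 6, 3, 2, 0, 2, 3],
    [4, 2, 3, 1, 3, 2, 4, 5, 4, 3, 1, 3, 4, 5, 3, 2, 0, 2, 3, 6, 5, 4, 5, 6],
    [6, 5, 4, 5, 6, 3, 2, 0, 2, 3, 5, 4, 3, 1, 3, 4, 5, 4, 2, 3, 1, 3, 2, 4, 7],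
    [7, 6, 5, 3, 4, 2, 3, 1, 3, 2, 4, 3, 5, 6, 6, 5, 4, 5, 6, 3, 2, 0, 2, 3, 7],
    [6, 5, 3, 4, 2, 3, 1, 3, 2, 4, 3, 5, 6, 7, 6, 5, 4, 5, 6, 7, 3, 2, 0, 2, 3],
    [6, 5, 3, 4, 2, 3, 1, 3, 2, 4, 3, 5, 6, 7, 6, 5, 4, 3, 2, 0, 2, 3, 4, 5, 6],
    [4, 2, 3, 1, 3, 2, 4, 5, 4, 3, 1, 3, 4, 5, 6, 5, 4, 3, 2, 0, 2, 3, 4, 5, 6],
    [7, 6, 5, 3, 4, 2, 3, 1, 3, 2, 4, 3, 5, 6, 7, 6, 5, 4, 5, 6, 3, 2, 0, 2, 3, 7],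
    [4, 2, 3, 1, 3, 2, 4, 5, 4, 3, 1, 3, 4, 5, 7, 6, 5, 4, 3, 2, 0, 2, 3, 4, 5, 6],
    [6, 5, 3, 4, 2, 3, 1, 3, 2, 4, 3, 5, 6, 5, 4, 3, 1, 3, 4, 5, 4, 2, 3, 1, 3, 2, 4, 7],
    [3, 2, 0, 2, 3, 4, 2, 3, 1, 3, 2, 4, 5, 4, 3, 1, 3, 4, 5, 6, 5, 4, 3, 2, 0, 2, 3, 4, 5, 6],
    [3, 2, 0, 2, 3, 4, 2, 3, 1, 3, 2, 4, 5, 4, 3, 1, 3, 4, 5, 7, 6, 5, 4, 3, 2, 0, 2, 3, 4, 5, 6],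
    [6, 5, 3, 4, 2, 3, 1, 3, 2, 4, 3, 5, 6, 5, 4, 3, 1, 3, 4, 5, 7, 6, 5, 4, 3, 2, 0, 2, 3, 4, 5, 6],
    [6, 5, 3, 4, 2, 3, 1, 3, 2, 4, 3, 5, 6, 4, 2, 3, 1, 3, 2, 4, 7, 6, 5, 4, 3, 2, 0, 2, 3, 4, 5, 6],
    [6, 5, 3, 4, 2, 3, 1, 3, 2, 4, 3, 5, 6, 3, 2, 0, 2, 3, 5, 4, 3, 1, 3, 4, 5, 4, 2, 3, 1, 3, 2, 4, 7],
    [6, 5, 4, 5, 6, 3, 2, 0, 2, 3, 4, 2, 3, 1, 3, 2, 4, 5, 4, 3, 1, 3, 4, 5, 7, 6, 5, 4, 3, 2, 0, 2, 3, 4, 5, 6],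
    [6, 5, 3, 4, 2, 3, 1, 3, 2, 4, 3, 5, 6, 6, 5, 4, 5, 6, 3, 2, 0, 2, 3, 5, 4, 3, 1, 3, 4, 5, 4, 2, 3, 1, 3, 2, 4, 7],
    [7, 6, 5, 3, 4, 2, 3, 1, 3, 2, 4, 3, 5, 6, 6, 5, 4, 5, 6, 3, 2, 0, 2, 3, 5, 4, 3, 1, 3, 4, 5, 4, 2, 3, 1, 3, 2, 4, 7],
    [6, 5, 3, 4, 2, 3, 1, 3, 2, 4, 3, 5, 6, 4, 2, 3, 1, 3, 2, 4, 5, 4, 3, 1, 3, 4, 5, 7, 6, 5, 4, 3, 2, 0, 2, 3, 4, 5, 6],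
    [6, 5, 3, 4, 2, 3, 1, 3, 2, 4, 3, 5, 6, 3, 2, 0, 2, 3, 4, 2, 3, 1, 3, 2, 4, 5, 4, 3, 1, 3, 4, 5, 7, 6, 5, 4, 3, 2, 0, 2, 3, 4, 5, 6],
    [6, 5, 3, 4, 2, 3, 1, 3, 2, 4, 3, 5, 6, 6, 5, 4, 5, 6, 3, 2, 0, 2, 3, 4, 2, 3, 1, 3, 2, 4, 5, 4, 3, 1, 3, 4, 5, 7, 6, 5, 4, 3, 2, 0, 2, 3, 4, 5, 6],
    [7, 6, 5, 3, 4, 2, 3, 1, 3, 2, 4, 3, 5, 6, 6, 5, 4, 5, 6, 3, 2, 0, 2, 3, 4, 2, 3, 1, 3, 2, 4, 5, 4, 3, 1, 3, 4, 5, 7, 6, 5, 4, 3, 2, 0, 2, 3, 4, 5, 6]]),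
  (110, [[],
    [7, 6, 5, 4, 5, 6, 7],
    [2, 3, 4, 1, 3, 2, 0, 2, 3, 1, 4, 3, 2],
    [5, 3, 4, 1, 3, 2, 0, 2, 3, 1, 4, 3, 5],
    [6, 5, 3, 4, 2, 3, 1, 3, 2, 4, 3, 5, 6],
    [7, 6, 5, 4, 5, 6, 7, 2, 3, 4, 1, 3, 2, 0, 2, 3, 1, 4, 3, 2],
    [7, 6, 5, 4, 5, 6, 7, 5, 3, 4, 1, 3, 2, 0, 2, 3, 1, 4, 3, 5],
    [7, 6, 5, 4, 5, 6, 7, 6, 5, 3, 4, 2, 3, 1, 3, 2, 4, 3, 5, 6],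
    [6, 5, 3, 4, 2, 3, 1, 3, 2, 4, 3, 5, 6, 7, 6, 5, 4, 5, 6, 7],
    [5, 3, 4, 1, 3, 2, 0, 2, 3, 1, 4, 3, 5, 7, 6, 5, 4, 5, 6, 7],
    [2, 3, 4, 1, 3, 2, 0, 2, 3, 1, 4, 3, 2, 7, 6, 5, 4, 5, 6, 7],
    [6, 7, 5, 6, 4, 5, 3, 4, 2, 3, 1, 3, 2, 4, 3, 5, 4, 6, 5, 7, 6],
    [7, 5, 6, 4, 5, 3, 4, 1, 3, 2, 0, 2, 3, 1, 4, 3, 5, 4, 6, 5, 7],
    [7, 6, 4, 5, 2, 3, 4, 1, 3, 2, 0, 2, 3, 1, 4, 3, 2, 5, 4, 6, 7],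
    [5, 3, 4, 1, 3, 2, 0, 2, 3, 1, 4, 3, 5, 2, 3, 4, 1, 3, 2, 0, 2, 3, 1, 4, 3, 2],
    [6, 5, 3, 4, 2, 3, 1, 3, 2, 4, 3, 5, 6, 2, 3, 4, 1, 3, 2, 0, 2, 3, 1, 4, 3, 2],
    [6, 5, 3, 4, 2, 3, 1, 3, 2, 4, 3, 5, 6, 5, 3, 4, 1, 3, 2, 0, 2, 3, 1, 4, 3, 5],
    [5, 3, 4, 1, 3, 2, 0, 2, 3, 1, 4, 3, 5, 6, 5, 3, 4, 2, 3, 1, 3, 2, 4, 3, 5, 6, 7, 6, 5, 4, 5, 6, 7],
    [2, 3, 4, 1, 3, 2, 0, 2, 3, 1, 4, 3, 2, 6, 5, 3, 4, 2, 3, 1, 3, 2, 4, 3, 5, 6, 7, 6, 5, 4, 5, 6, 7],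
    [2, 3, 4, 1, 3, 2, 0, 2, 3, 1, 4, 3, 2, 5, 3, 4, 1, 3, 2, 0, 2, 3, 1, 4, 3, 5, 7, 6, 5, 4, 5, 6, 7],
    [6, 5, 3, 4, 2, 3, 1, 3, 2, 4, 3, 5, 6, 5, 3, 4, 1, 3, 2, 0, 2, 3, 1, 4, 3, 5, 2, 3, 4, 1, 3, 2, 0, 2, 3, 1, 4, 3, 2],
    [7, 6, 5, 4, 5, 6, 7, 6, 5, 3, 4, 2, 3, 1, 3, 2, 4, 3, 5, 6, 5, 3, 4, 1, 3, 2, 0, 2, 3, 1, 4, 3, 5, 2, 3, 4, 1, 3, 2, 0, 2, 3, 1, 4, 3, 2],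
    [2, 3, 4, 1, 3, 2, 0, 2, 3, 1, 4, 3, 2, 5, 3, 4, 1, 3, 2, 0, 2, 3, 1, 4, 3, 5, 6, 5, 3, 4, 2, 3, 1, 3, 2, 4, 3, 5, 6, 7, 6, 5, 4, 5, 6, 7],
    [7, 6, 5, 4, 5, 6, 7, 2, 3, 4, 1, 3, 2, 0, 2, 3, 1, 4, 3, 2, 5, 3, 4, 1, 3, 2, 0, 2, 3, 1, 4, 3, 5, 6, 5, 3, 4, 2, 3, 1, 3, 2, 4, 3, 5, 6, 7, 6, 5, 4, 5, 6, 7]]),
  (1, [[],
    [4, 5, 6, 1, 3, 4, 5, 2, 3, 4, 1, 3, 2, 0, 2, 3, 1, 4, 3, 2, 5, 4, 3, 1, 6, 5, 4],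
    [5, 6, 7, 3, 4, 5, 6, 1, 3, 4, 5, 2, 3, 4, 1, 3, 2, 0, 2, 3, 1, 4, 3, 2, 5, 4, 3, 1, 6, 5, 4, 3, 7, 6, 5],
    [6, 7, 2, 3, 4, 5, 6, 1, 3, 4, 5, 2, 3, 4, 1, 3, 2, 0, 2, 3, 1, 4, 3, 2, 5, 4, 3, 1, 6, 5, 4, 3, 2, 7, 6],
    [5, 6, 7, 3, 4, 5, 6, 1, 3, 4, 5, 2, 3, 4, 1, 3, 2, 0, 2, 3, 1, 4, 3, 2, 5, 4, 3, 1, 6, 5, 4, 3, 7, 6, 5, 4, 5, 6, 1, 3, 4, 5, 2, 3, 4, 1, 3, 2, 0, 2, 3, 1, 4, 3, 2, 5, 4, 3, 1, 6, 5, 4],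
    [6, 7, 2, 3, 4, 5, 6, 1, 3, 4, 5, 2, 3, 4, 1, 3, 2, 0, 2, 3, 1, 4, 3, 2, 5, 4, 3, 1, 6, 5, 4, 3, 2, 7, 6, 4, 5, 6, 1, 3, 4, 5, 2, 3, 4, 1, 3, 2, 0, 2, 3, 1, 4, 3, 2, 5, 4, 3, 1, 6, 5, 4],
    [6, 7, 2, 3, 4, 5, 6, 1, 3, 4, 5, 2, 3, 4, 1, 3, 2, 0, 2, 3, 1, 4, 3, 2, 5, 4, 3, 1, 6, 5, 4, 3, 2, 7, 6, 5, 6, 7, 3, 4, 5, 6, 1, 3, 4, 5, 2, 3, 4, 1, 3, 2, 0, 2, 3, 1, 4, 3, 2, 5, 4, 3, 1, 6, 5, 4, 3, 7, 6, 5],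
    [6, 7, 2, 3, 4, 5, 6, 1, 3, 4, 5, 2, 3, 4, 1, 3, 2, 0, 2, 3, 1, 4, 3, 2, 5, 4, 3, 1, 6, 5, 4, 3, 2, 7, 6, 5, 6, 7, 3, 4, 5, 6, 1, 3, 4, 5, 2, 3, 4, 1, 3, 2, 0, 2, 3, 1, 4, 3, 2, 5, 4, 3, 1, 6, 5, 4, 3, 7, 6, 5, 4, 5, 6, 1, 3, 4, 5, 2, 3, 4, 1, 3, 2, 0, 2, 3, 1, 4, 3, 2, 5, 4, 3, 1, 6, 5, 4]]),
  (0, [[],
    [7, 0, 2, 3, 4, 5, 6, 1, 3, 4, 5, 2, 3, 4, 1, 3, 2, 0, 2, 3, 1, 4, 3, 2, 5, 4, 3, 1, 6, 5, 4, 3, 2, 0, 7]])]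

theorem rootI_E8 : checkInvol reflTabsE8 8 240 = true := by decide +kernel

theorem rootB_E8 : checkBraid E8.Mx reflTabsE8 8 240 = true := by decide +kernel

theorem rootG_E8 : checkG reflTabsE8 8 240 [] faithLevelsE8 = true := by decide +kernel

theorem faithProd_E8 : (faithLevelsE8.map fun lv => lv.2.length).prod = 696729600 := by decide +kernel

/-- the action of the Coxeter group of type E8 on the roots -/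
noncomputable def rootPhiE8 : (CoxeterMatrix.E₈).Group →* Equiv.Perm ℕ :=
  phi (CoxeterMatrix.E₈) E8.Mx rootI_E8 rootB_E8 E8.hMx

theorem rootPhiE8_injective : Function.Injective rootPhiE8 :=
  faithful_of_checkG (CoxeterMatrix.E₈) E8.Mx rootI_E8 rootB_E8 E8.hMx faithLevelsE8 rootG_E8
    (by rw [E8.card_eq, faithProd_E8]) (by rw [E8.card_eq]; decide)

theorem rootPhiE8_gp (w : List ℕ) (x : ℕ) :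
    rootPhiE8 (gp (CoxeterMatrix.E₈) w) x = actW reflTabsE8 8 240 w x :=
  phi_gp (CoxeterMatrix.E₈) E8.Mx rootI_E8 rootB_E8 E8.hMx w x


end Cfsg.Agent.Helper18
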