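import Cfsg.Agent.Helper18.WeylHom
import Cfsg.Agent.Helper18.CoxFaithData
import Cfsg.Agent.S1038

/-!
Helper18: table checks for `N / H ≅ W` for the seven types (generated), and the isomorphism given the statement of
S1031 as a hypothesis.
-/

set_option autoImplicit false
set_option maxRecDepth 100000

namespace Cfsg.Agent.Helper18

open Cfsg Cfsg.Lie Cfsg.Agent.Helper19.Cox


/-- for each root a word and a fundamental root with `w(p_j) = r`, type G2 -/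
def reachWordsG2 : List (List ℕ × ℕ) := [
    ([1, 0, 1], 1),
    ([0, 1], 1),
    ([0, 1, 0], 0),
    ([1, 0], 0),
    ([0], 0),
    ([1], 1),
    ([], 1),
    ([], 0),
    ([1], 0),
    ([0, 1], 0),
    ([0], 1),
    ([1, 0], 1)]

theorem braidOK_G2 : braidRootsOK chevG2 reflTabsG2 G2.Mx = true := by decide +kernel

theorem reachOK_G2 : reachOK chevG2 reflTabsG2 reachWordsG2 = true := by decide +kernel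

theorem weyl_iso_G2 {F : Type*} [Field F] (h31 : NConjHyp chevG2 F) :
    ∃ φ : ↥(chevG2.monomialSubgroup F) →* (CoxeterMatrix.G₂).Group, Function.Surjective φ ∧
      φ.ker = (chevG2.diagonalSubgroup F).subgroupOf (chevG2.monomialSubgroup F) ∧
      ∀ (i : Fin 2) (g : ↥(chevG2.monomialSubgroup F)),
        ((g : GL chevG2.Idx F) : Matrix chevG2.Idx chevG2.Idx F) =
          chevG2.nMat F (chevG2.simple i) 1 → φ g = (CoxeterMatrix.G₂).simple i := by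
  haveI : (HN chevG2 F).Normal := Cfsg.Agent.S1038.result chevG2 (by simp)
  exact weyl_iso chevG2 (by simp) (CoxeterMatrix.G₂) G2.Mx G2.hMx reflTabsG2 tabsOK_G2 braidOK_G2 h31
    rootI_G2 rootB_G2 rootPhiG2_injective reachWordsG2 reachOK_G2

/-- for each root a word and a fundamental root with `w(p_j) = r`, type B2 -/
def reachWordsB2 : List (List ℕ × ℕ) := [
    ([0, 1], 1),
    ([1, 0], 0),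
    ([0], 0),
    ([1], 1),
    ([], 1),
    ([], 0),
    ([1], 0),
    ([0], 1)]

theorem braidOK_B2 : braidRootsOK chevB2 reflTabsB2 B2.Mx = true := by decide +kernel

theorem reachOK_B2 : reachOK chevB2 reflTabsB2 reachWordsB2 = true := by decide +kernel

theorem weyl_iso_B2 {F : Type*} [Field F] (h31 : NConjHyp chevB2 F) :
    ∃ φ : ↥(chevB2.monomialSubgroup F) →* ((CoxeterMatrix.B 2)).Group, Function.Surjective φ ∧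
      φ.ker = (chevB2.diagonalSubgroup F).subgroupOf (chevB2.monomialSubgroup F) ∧
      ∀ (i : Fin 2) (g : ↥(chevB2.monomialSubgroup F)),
        ((g : GL chevB2.Idx F) : Matrix chevB2.Idx chevB2.Idx F) =
          chevB2.nMat F (chevB2.simple i) 1 → φ g = ((CoxeterMatrix.B 2)).simple i := by
  haveI : (HN chevB2 F).Normal := Cfsg.Agent.S1038.result chevB2 (by simp)
  exact weyl_iso chevB2 (by simp) ((CoxeterMatrix.B 2)) B2.Mx B2.hMx reflTabsB2 tabsOK_B2 braidOK_B2 h31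
    rootI_B2 rootB_B2 rootPhiB2_injective reachWordsB2 reachOK_B2

/-- for each root a word and a fundamental root with `w(p_j) = r`, type D4 -/
def reachWordsD4 : List (List ℕ × ℕ) := [
    ([1, 3, 2, 1, 0], 0),
    ([3, 2, 1, 0], 0),
    ([2, 1, 0], 0),
    ([3, 1, 0], 0),
    ([1, 0], 0),
    ([0], 0),
    ([3, 2, 1], 1),
    ([2, 1], 1),
    ([3, 1], 1),
    ([1], 1),
    ([2], 2),
    ([3], 3),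
    ([], 3),
    ([], 2),
    ([], 1),
    ([3], 1),
    ([2], 1),
    ([3, 2], 1),
    ([], 0),
    ([1], 0),
    ([3, 1], 0),
    ([2, 1], 0),
    ([3, 2, 1], 0),
    ([1, 3, 2, 1], 0)]

theorem braidOK_D4 : braidRootsOK chevD4 reflTabsD4 D4.Mx = true := by decide +kernel

theorem reachOK_D4 : reachOK chevD4 reflTabsD4 reachWordsD4 = true := by decide +kernel

theorem weyl_iso_D4 {F : Type*} [Field F] (h31 : NConjHyp chevD4 F) :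
    ∃ φ : ↥(chevD4.monomialSubgroup F) →* (Cfsg.Lie.coxeterD4).Group, Function.Surjective φ ∧
      φ.ker = (chevD4.diagonalSubgroup F).subgroupOf (chevD4.monomialSubgroup F) ∧
      ∀ (i : Fin 4) (g : ↥(chevD4.monomialSubgroup F)),
        ((g : GL chevD4.Idx F) : Matrix chevD4.Idx chevD4.Idx F) =
          chevD4.nMat F (chevD4.simple i) 1 → φ g = (Cfsg.Lie.coxeterD4).simple i := by
  haveI : (HN chevD4 F).Normal := Cfsg.Agent.S1038.result chevD4 (by simp)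
  exact weyl_iso chevD4 (by simp) (Cfsg.Lie.coxeterD4) D4.Mx D4.hMx reflTabsD4 tabsOK_D4 braidOK_D4 h31
    rootI_D4 rootB_D4 rootPhiD4_injective reachWordsD4 reachOK_D4

/-- for each root a word and a fundamental root with `w(p_j) = r`, type F4 -/
def reachWordsF4 : List (List ℕ × ℕ) := [
    ([3, 2, 1, 2, 3, 0, 1, 2], 2),
    ([2, 1, 2, 3, 0, 1, 2], 2),
    ([1, 2, 3, 0, 1, 2], 2),
    ([0, 1, 2, 3, 1, 2, 1, 0], 0),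
    ([2, 3, 0, 1, 2], 2),
    ([3, 0, 1, 2], 2),
    ([0, 1, 2], 2),
    ([1, 2, 3, 1, 2, 1, 0], 0),
    ([2, 3, 1, 2, 1, 0], 0),
    ([3, 1, 2, 1, 0], 0),
    ([1, 2, 1, 0], 0),
    ([3, 2, 1, 0], 0),
    ([2, 1, 0], 0),
    ([1, 0], 0),
    ([0], 0),
    ([2, 3, 1, 2], 2),
    ([3, 1, 2], 2),
    ([1, 2], 2),
    ([3, 2, 1], 1),
    ([2, 1], 1),
    ([1], 1),
    ([3, 2], 2),
    ([2], 2),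
    ([3], 3),
    ([], 3),
    ([], 2),
    ([3], 2),
    ([], 1),
    ([2], 1),
    ([3, 2], 1),
    ([1], 2),
    ([3, 1], 2),
    ([2, 3, 1], 2),
    ([], 0),
    ([1], 0),
    ([2, 1], 0),
    ([3, 2, 1], 0),
    ([1, 2, 1], 0),
    ([3, 1, 2, 1], 0),
    ([2, 3, 1, 2, 1], 0),
    ([1, 2, 3, 1, 2, 1], 0),
    ([0, 1], 2),
    ([3, 0, 1], 2),
    ([2, 3, 0, 1], 2),
    ([0, 1, 2, 3, 1, 2, 1], 0),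
    ([1, 2, 3, 0, 1], 2),
    ([2, 1, 2, 3, 0, 1], 2),
    ([3, 2, 1, 2, 3, 0, 1], 2)]

theorem braidOK_F4 : braidRootsOK chevF4 reflTabsF4 F4.Mx = true := by decide +kernel

theorem reachOK_F4 : reachOK chevF4 reflTabsF4 reachWordsF4 = true := by decide +kernel

theorem weyl_iso_F4 {F : Type*} [Field F] (h31 : NConjHyp chevF4 F) :
    ∃ φ : ↥(chevF4.monomialSubgroup F) →* (CoxeterMatrix.F₄).Group, Function.Surjective φ ∧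
      φ.ker = (chevF4.diagonalSubgroup F).subgroupOf (chevF4.monomialSubgroup F) ∧
      ∀ (i : Fin 4) (g : ↥(chevF4.monomialSubgroup F)),
        ((g : GL chevF4.Idx F) : Matrix chevF4.Idx chevF4.Idx F) =
          chevF4.nMat F (chevF4.simple i) 1 → φ g = (CoxeterMatrix.F₄).simple i := by
  haveI : (HN chevF4 F).Normal := Cfsg.Agent.S1038.result chevF4 (by simp)
  exact weyl_iso chevF4 (by simp) (CoxeterMatrix.F₄) F4.Mx F4.hMx reflTabsF4 tabsOK_F4 braidOK_F4 h31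
    rootI_F4 rootB_F4 rootPhiF4_injective reachWordsF4 reachOK_F4

/-- for each root a word and a fundamental root with `w(p_j) = r`, type E6 -/
def reachWordsE6 : List (List ℕ × ℕ) := [
    ([1, 3, 4, 5, 2, 3, 4, 1, 3, 2, 0], 0),
    ([3, 4, 5, 2, 3, 4, 1, 3, 2, 0], 0),
    ([4, 5, 2, 3, 4, 1, 3, 2, 0], 0),
    ([5, 2, 3, 4, 1, 3, 2, 0], 0),
    ([2, 3, 4, 1, 3, 2, 0], 0),
    ([4, 5, 3, 4, 1, 3, 2, 0], 0),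
    ([5, 3, 4, 1, 3, 2, 0], 0),
    ([3, 4, 1, 3, 2, 0], 0),
    ([5, 4, 1, 3, 2, 0], 0),
    ([4, 1, 3, 2, 0], 0),
    ([1, 3, 2, 0], 0),
    ([5, 4, 3, 2, 0], 0),
    ([4, 3, 2, 0], 0),
    ([3, 2, 0], 0),
    ([2, 0], 0),
    ([0], 0),
    ([4, 5, 3, 4, 2, 3, 1], 1),
    ([5, 3, 4, 2, 3, 1], 1),
    ([3, 4, 2, 3, 1], 1),
    ([5, 4, 2, 3, 1], 1),
    ([4, 2, 3, 1], 1),
    ([2, 3, 1], 1),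
    ([5, 4, 3, 1], 1),
    ([4, 3, 1], 1),
    ([3, 1], 1),
    ([1], 1),
    ([5, 4, 3, 2], 2),
    ([4, 3, 2], 2),
    ([3, 2], 2),
    ([2], 2),
    ([5, 4, 3], 3),
    ([4, 3], 3),
    ([3], 3),
    ([5, 4], 4),
    ([4], 4),
    ([5], 5),
    ([], 5),
    ([], 4),
    ([5], 4),
    ([], 3),
    ([4], 3),
    ([5, 4], 3),
    ([], 2),
    ([3], 2),
    ([4, 3], 2),
    ([5, 4, 3], 2),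
    ([], 1),
    ([3], 1),
    ([4, 3], 1),
    ([5, 4, 3], 1),
    ([2, 3], 1),
    ([4, 2, 3], 1),
    ([5, 4, 2, 3], 1),
    ([3, 4, 2, 3], 1),
    ([5, 3, 4, 2, 3], 1),
    ([4, 5, 3, 4, 2, 3], 1),
    ([], 0),
    ([2], 0),
    ([3, 2], 0),
    ([4, 3, 2], 0),
    ([5, 4, 3, 2], 0),
    ([1, 3, 2], 0),
    ([4, 1, 3, 2], 0),
    ([5, 4, 1, 3, 2], 0),
    ([3, 4, 1, 3, 2], 0),
    ([5, 3, 4, 1, 3, 2], 0),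
    ([4, 5, 3, 4, 1, 3, 2], 0),
    ([2, 3, 4, 1, 3, 2], 0),
    ([5, 2, 3, 4, 1, 3, 2], 0),
    ([4, 5, 2, 3, 4, 1, 3, 2], 0),
    ([3, 4, 5, 2, 3, 4, 1, 3, 2], 0),
    ([1, 3, 4, 5, 2, 3, 4, 1, 3, 2], 0)]

theorem braidOK_E6 : braidRootsOK chevE6 reflTabsE6 E6.Mx = true := by decide +kernel

theorem reachOK_E6 : reachOK chevE6 reflTabsE6 reachWordsE6 = true := by decide +kernel

theorem weyl_iso_E6 {F : Type*} [Field F] (h31 : NConjHyp chevE6 F) :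
    ∃ φ : ↥(chevE6.monomialSubgroup F) →* (CoxeterMatrix.E₆).Group, Function.Surjective φ ∧
      φ.ker = (chevE6.diagonalSubgroup F).subgroupOf (chevE6.monomialSubgroup F) ∧
      ∀ (i : Fin 6) (g : ↥(chevE6.monomialSubgroup F)),
        ((g : GL chevE6.Idx F) : Matrix chevE6.Idx chevE6.Idx F) =
          chevE6.nMat F (chevE6.simple i) 1 → φ g = (CoxeterMatrix.E₆).simple i := by
  haveI : (HN chevE6 F).Normal := Cfsg.Agent.S1038.result chevE6 (by simp)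
  exact weyl_iso chevE6 (by simp) (CoxeterMatrix.E₆) E6.Mx E6.hMx reflTabsE6 tabsOK_E6 braidOK_E6 h31
    rootI_E6 rootB_E6 rootPhiE6_injective reachWordsE6 reachOK_E6

/-- for each root a word and a fundamental root with `w(p_j) = r`, type E7 -/
def reachWordsE7 : List (List ℕ × ℕ) := [
    ([0, 2, 3, 4, 5, 6, 1, 3, 4, 5, 2, 3, 4, 1, 3, 2, 0], 0),
    ([2, 3, 4, 5, 6, 1, 3, 4, 5, 2, 3, 4, 1, 3, 2, 0], 0),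
    ([3, 4, 5, 6, 1, 3, 4, 5, 2, 3, 4, 1, 3, 2, 0], 0),
    ([4, 5, 6, 1, 3, 4, 5, 2, 3, 4, 1, 3, 2, 0], 0),
    ([5, 6, 1, 3, 4, 5, 2, 3, 4, 1, 3, 2, 0], 0),
    ([6, 1, 3, 4, 5, 2, 3, 4, 1, 3, 2, 0], 0),
    ([1, 3, 4, 5, 2, 3, 4, 1, 3, 2, 0], 0),
    ([4, 5, 6, 3, 4, 5, 2, 3, 4, 1, 3, 2, 0], 0),
    ([5, 6, 3, 4, 5, 2, 3, 4, 1, 3, 2, 0], 0),
    ([6, 3, 4, 5, 2, 3, 4, 1, 3, 2, 0], 0),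
    ([3, 4, 5, 2, 3, 4, 1, 3, 2, 0], 0),
    ([5, 6, 4, 5, 2, 3, 4, 1, 3, 2, 0], 0),
    ([6, 4, 5, 2, 3, 4, 1, 3, 2, 0], 0),
    ([4, 5, 2, 3, 4, 1, 3, 2, 0], 0),
    ([6, 5, 2, 3, 4, 1, 3, 2, 0], 0),
    ([5, 2, 3, 4, 1, 3, 2, 0], 0),
    ([2, 3, 4, 1, 3, 2, 0], 0),
    ([5, 6, 4, 5, 3, 4, 1, 3, 2, 0], 0),
    ([6, 4, 5, 3, 4, 1, 3, 2, 0], 0),
    ([4, 5, 3, 4, 1, 3, 2, 0], 0),
    ([6, 5, 3, 4, 1, 3, 2, 0], 0),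
    ([5, 3, 4, 1, 3, 2, 0], 0),
    ([3, 4, 1, 3, 2, 0], 0),
    ([6, 5, 4, 1, 3, 2, 0], 0),
    ([5, 4, 1, 3, 2, 0], 0),
    ([4, 1, 3, 2, 0], 0),
    ([1, 3, 2, 0], 0),
    ([6, 5, 4, 3, 2, 0], 0),
    ([5, 4, 3, 2, 0], 0),
    ([4, 3, 2, 0], 0),
    ([3, 2, 0], 0),
    ([2, 0], 0),
    ([0], 0),
    ([5, 6, 4, 5, 3, 4, 2, 3, 1], 1),
    ([6, 4, 5, 3, 4, 2, 3, 1], 1),
    ([4, 5, 3, 4, 2, 3, 1], 1),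
    ([6, 5, 3, 4, 2, 3, 1], 1),
    ([5, 3, 4, 2, 3, 1], 1),
    ([3, 4, 2, 3, 1], 1),
    ([6, 5, 4, 2, 3, 1], 1),
    ([5, 4, 2, 3, 1], 1),
    ([4, 2, 3, 1], 1),
    ([2, 3, 1], 1),
    ([6, 5, 4, 3, 1], 1),
    ([5, 4, 3, 1], 1),
    ([4, 3, 1], 1),
    ([3, 1], 1),
    ([1], 1),
    ([6, 5, 4, 3, 2], 2),
    ([5, 4, 3, 2], 2),
    ([4, 3, 2], 2),
    ([3, 2], 2),
    ([2], 2),
    ([6, 5, 4, 3], 3),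
    ([5, 4, 3], 3),
    ([4, 3], 3),
    ([3], 3),
    ([6, 5, 4], 4),
    ([5, 4], 4),
    ([4], 4),
    ([6, 5], 5),
    ([5], 5),
    ([6], 6),
    ([], 6),
    ([], 5),
    ([6], 5),
    ([], 4),
    ([5], 4),
    ([6, 5], 4),
    ([], 3),
    ([4], 3),
    ([5, 4], 3),
    ([6, 5, 4], 3),
    ([], 2),
    ([3], 2),
    ([4, 3], 2),
    ([5, 4, 3], 2),
    ([6, 5, 4, 3], 2),
    ([], 1),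
    ([3], 1),
    ([4, 3], 1),
    ([5, 4, 3], 1),
    ([6, 5, 4, 3], 1),
    ([2, 3], 1),
    ([4, 2, 3], 1),
    ([5, 4, 2, 3], 1),
    ([6, 5, 4, 2, 3], 1),
    ([3, 4, 2, 3], 1),
    ([5, 3, 4, 2, 3], 1),
    ([6, 5, 3, 4, 2, 3], 1),
    ([4, 5, 3, 4, 2, 3], 1),
    ([6, 4, 5, 3, 4, 2, 3], 1),
    ([5, 6, 4, 5, 3, 4, 2, 3], 1),
    ([], 0),
    ([2], 0),
    ([3, 2], 0),
    ([4, 3, 2], 0),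
    ([5, 4, 3, 2], 0),
    ([6, 5, 4, 3, 2], 0),
    ([1, 3, 2], 0),
    ([4, 1, 3, 2], 0),
    ([5, 4, 1, 3, 2], 0),
    ([6, 5, 4, 1, 3, 2], 0),
    ([3, 4, 1, 3, 2], 0),
    ([5, 3, 4, 1, 3, 2], 0),
    ([6, 5, 3, 4, 1, 3, 2], 0),
    ([4, 5, 3, 4, 1, 3, 2], 0),
    ([6, 4, 5, 3, 4, 1, 3, 2], 0),
    ([5, 6, 4, 5, 3, 4, 1, 3, 2], 0),
    ([2, 3, 4, 1, 3, 2], 0),
    ([5, 2, 3, 4, 1, 3, 2], 0),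
    ([6, 5, 2, 3, 4, 1, 3, 2], 0),
    ([4, 5, 2, 3, 4, 1, 3, 2], 0),
    ([6, 4, 5, 2, 3, 4, 1, 3, 2], 0),
    ([5, 6, 4, 5, 2, 3, 4, 1, 3, 2], 0),
    ([3, 4, 5, 2, 3, 4, 1, 3, 2], 0),
    ([6, 3, 4, 5, 2, 3, 4, 1, 3, 2], 0),
    ([5, 6, 3, 4, 5, 2, 3, 4, 1, 3, 2], 0),
    ([4, 5, 6, 3, 4, 5, 2, 3, 4, 1, 3, 2], 0),
    ([1, 3, 4, 5, 2, 3, 4, 1, 3, 2], 0),
    ([6, 1, 3, 4, 5, 2, 3, 4, 1, 3, 2], 0),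
    ([5, 6, 1, 3, 4, 5, 2, 3, 4, 1, 3, 2], 0),
    ([4, 5, 6, 1, 3, 4, 5, 2, 3, 4, 1, 3, 2], 0),
    ([3, 4, 5, 6, 1, 3, 4, 5, 2, 3, 4, 1, 3, 2], 0),
    ([2, 3, 4, 5, 6, 1, 3, 4, 5, 2, 3, 4, 1, 3, 2], 0),
    ([0, 2, 3, 4, 5, 6, 1, 3, 4, 5, 2, 3, 4, 1, 3, 2], 0)]

theorem braidOK_E7 : braidRootsOK chevE7 reflTabsE7 E7.Mx = true := by decide +kernel

theorem reachOK_E7 : reachOK chevE7 reflTabsE7 reachWordsE7 = true := by decide +kernel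

theorem weyl_iso_E7 {F : Type*} [Field F] (h31 : NConjHyp chevE7 F) :
    ∃ φ : ↥(chevE7.monomialSubgroup F) →* (CoxeterMatrix.E₇).Group, Function.Surjective φ ∧
      φ.ker = (chevE7.diagonalSubgroup F).subgroupOf (chevE7.monomialSubgroup F) ∧
      ∀ (i : Fin 7) (g : ↥(chevE7.monomialSubgroup F)),
        ((g : GL chevE7.Idx F) : Matrix chevE7.Idx chevE7.Idx F) =
          chevE7.nMat F (chevE7.simple i) 1 → φ g = (CoxeterMatrix.E₇).simple i := by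
  haveI : (HN chevE7 F).Normal := Cfsg.Agent.S1038.result chevE7 (by simp)
  exact weyl_iso chevE7 (by simp) (CoxeterMatrix.E₇) E7.Mx E7.hMx reflTabsE7 tabsOK_E7 braidOK_E7 h31
    rootI_E7 rootB_E7 rootPhiE7_injective reachWordsE7 reachOK_E7

/-- for each root a word and a fundamental root with `w(p_j) = r`, type E8 -/
def reachWordsE8 : List (List ℕ × ℕ) := [
    ([7, 6, 5, 4, 3, 2, 1, 3, 4, 5, 6, 7, 0, 2, 3, 4, 5, 6, 1, 3, 4, 5, 2, 3, 4, 1, 3, 2, 0], 0),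
    ([6, 5, 4, 3, 2, 1, 3, 4, 5, 6, 7, 0, 2, 3, 4, 5, 6, 1, 3, 4, 5, 2, 3, 4, 1, 3, 2, 0], 0),
    ([5, 4, 3, 2, 1, 3, 4, 5, 6, 7, 0, 2, 3, 4, 5, 6, 1, 3, 4, 5, 2, 3, 4, 1, 3, 2, 0], 0),
    ([4, 3, 2, 1, 3, 4, 5, 6, 7, 0, 2, 3, 4, 5, 6, 1, 3, 4, 5, 2, 3, 4, 1, 3, 2, 0], 0),
    ([3, 2, 1, 3, 4, 5, 6, 7, 0, 2, 3, 4, 5, 6, 1, 3, 4, 5, 2, 3, 4, 1, 3, 2, 0], 0),
    ([2, 1, 3, 4, 5, 6, 7, 0, 2, 3, 4, 5, 6, 1, 3, 4, 5, 2, 3, 4, 1, 3, 2, 0], 0),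
    ([1, 3, 4, 5, 6, 7, 0, 2, 3, 4, 5, 6, 1, 3, 4, 5, 2, 3, 4, 1, 3, 2, 0], 0),
    ([2, 3, 4, 5, 6, 7, 0, 2, 3, 4, 5, 6, 1, 3, 4, 5, 2, 3, 4, 1, 3, 2, 0], 0),
    ([3, 4, 5, 6, 7, 0, 2, 3, 4, 5, 6, 1, 3, 4, 5, 2, 3, 4, 1, 3, 2, 0], 0),
    ([4, 5, 6, 7, 0, 2, 3, 4, 5, 6, 1, 3, 4, 5, 2, 3, 4, 1, 3, 2, 0], 0),
    ([5, 6, 7, 0, 2, 3, 4, 5, 6, 1, 3, 4, 5, 2, 3, 4, 1, 3, 2, 0], 0),
    ([6, 7, 0, 2, 3, 4, 5, 6, 1, 3, 4, 5, 2, 3, 4, 1, 3, 2, 0], 0),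
    ([7, 0, 2, 3, 4, 5, 6, 1, 3, 4, 5, 2, 3, 4, 1, 3, 2, 0], 0),
    ([0, 2, 3, 4, 5, 6, 1, 3, 4, 5, 2, 3, 4, 1, 3, 2, 0], 0),
    ([1, 3, 4, 5, 6, 7, 2, 3, 4, 5, 6, 1, 3, 4, 5, 2, 3, 4, 1, 3, 2, 0], 0),
    ([3, 4, 5, 6, 7, 2, 3, 4, 5, 6, 1, 3, 4, 5, 2, 3, 4, 1, 3, 2, 0], 0),
    ([4, 5, 6, 7, 2, 3, 4, 5, 6, 1, 3, 4, 5, 2, 3, 4, 1, 3, 2, 0], 0),
    ([5, 6, 7, 2, 3, 4, 5, 6, 1, 3, 4, 5, 2, 3, 4, 1, 3, 2, 0], 0),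
    ([6, 7, 2, 3, 4, 5, 6, 1, 3, 4, 5, 2, 3, 4, 1, 3, 2, 0], 0),
    ([7, 2, 3, 4, 5, 6, 1, 3, 4, 5, 2, 3, 4, 1, 3, 2, 0], 0),
    ([2, 3, 4, 5, 6, 1, 3, 4, 5, 2, 3, 4, 1, 3, 2, 0], 0),
    ([4, 5, 6, 7, 3, 4, 5, 6, 1, 3, 4, 5, 2, 3, 4, 1, 3, 2, 0], 0),
    ([5, 6, 7, 3, 4, 5, 6, 1, 3, 4, 5, 2, 3, 4, 1, 3, 2, 0], 0),
    ([6, 7, 3, 4, 5, 6, 1, 3, 4, 5, 2, 3, 4, 1, 3, 2, 0], 0),
    ([7, 3, 4, 5, 6, 1, 3, 4, 5, 2, 3, 4, 1, 3, 2, 0], 0),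
    ([3, 4, 5, 6, 1, 3, 4, 5, 2, 3, 4, 1, 3, 2, 0], 0),
    ([5, 6, 7, 4, 5, 6, 1, 3, 4, 5, 2, 3, 4, 1, 3, 2, 0], 0),
    ([6, 7, 4, 5, 6, 1, 3, 4, 5, 2, 3, 4, 1, 3, 2, 0], 0),
    ([7, 4, 5, 6, 1, 3, 4, 5, 2, 3, 4, 1, 3, 2, 0], 0),
    ([4, 5, 6, 1, 3, 4, 5, 2, 3, 4, 1, 3, 2, 0], 0),
    ([6, 7, 5, 6, 1, 3, 4, 5, 2, 3, 4, 1, 3, 2, 0], 0),
    ([7, 5, 6, 1, 3, 4, 5, 2, 3, 4, 1, 3, 2, 0], 0),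
    ([5, 6, 1, 3, 4, 5, 2, 3, 4, 1, 3, 2, 0], 0),
    ([7, 6, 1, 3, 4, 5, 2, 3, 4, 1, 3, 2, 0], 0),
    ([6, 1, 3, 4, 5, 2, 3, 4, 1, 3, 2, 0], 0),
    ([1, 3, 4, 5, 2, 3, 4, 1, 3, 2, 0], 0),
    ([5, 6, 7, 4, 5, 6, 3, 4, 5, 2, 3, 4, 1, 3, 2, 0], 0),
    ([6, 7, 4, 5, 6, 3, 4, 5, 2, 3, 4, 1, 3, 2, 0], 0),
    ([7, 4, 5, 6, 3, 4, 5, 2, 3, 4, 1, 3, 2, 0], 0),
    ([4, 5, 6, 3, 4, 5, 2, 3, 4, 1, 3, 2, 0], 0),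
    ([6, 7, 5, 6, 3, 4, 5, 2, 3, 4, 1, 3, 2, 0], 0),
    ([7, 5, 6, 3, 4, 5, 2, 3, 4, 1, 3, 2, 0], 0),
    ([5, 6, 3, 4, 5, 2, 3, 4, 1, 3, 2, 0], 0),
    ([7, 6, 3, 4, 5, 2, 3, 4, 1, 3, 2, 0], 0),
    ([6, 3, 4, 5, 2, 3, 4, 1, 3, 2, 0], 0),
    ([3, 4, 5, 2, 3, 4, 1, 3, 2, 0], 0),
    ([6, 7, 5, 6, 4, 5, 2, 3, 4, 1, 3, 2, 0], 0),
    ([7, 5, 6, 4, 5, 2, 3, 4, 1, 3, 2, 0], 0),
    ([5, 6, 4, 5, 2, 3, 4, 1, 3, 2, 0], 0),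
    ([7, 6, 4, 5, 2, 3, 4, 1, 3, 2, 0], 0),
    ([6, 4, 5, 2, 3, 4, 1, 3, 2, 0], 0),
    ([4, 5, 2, 3, 4, 1, 3, 2, 0], 0),
    ([7, 6, 5, 2, 3, 4, 1, 3, 2, 0], 0),
    ([6, 5, 2, 3, 4, 1, 3, 2, 0], 0),
    ([5, 2, 3, 4, 1, 3, 2, 0], 0),
    ([2, 3, 4, 1, 3, 2, 0], 0),
    ([6, 7, 5, 6, 4, 5, 3, 4, 1, 3, 2, 0], 0),
    ([7, 5, 6, 4, 5, 3, 4, 1, 3, 2, 0], 0),
    ([5, 6, 4, 5, 3, 4, 1, 3, 2, 0], 0),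
    ([7, 6, 4, 5, 3, 4, 1, 3, 2, 0], 0),
    ([6, 4, 5, 3, 4, 1, 3, 2, 0], 0),
    ([4, 5, 3, 4, 1, 3, 2, 0], 0),
    ([7, 6, 5, 3, 4, 1, 3, 2, 0], 0),
    ([6, 5, 3, 4, 1, 3, 2, 0], 0),
    ([5, 3, 4, 1, 3, 2, 0], 0),
    ([3, 4, 1, 3, 2, 0], 0),
    ([7, 6, 5, 4, 1, 3, 2, 0], 0),
    ([6, 5, 4, 1, 3, 2, 0], 0),
    ([5, 4, 1, 3, 2, 0], 0),
    ([4, 1, 3, 2, 0], 0),
    ([1, 3, 2, 0], 0),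
    ([7, 6, 5, 4, 3, 2, 0], 0),
    ([6, 5, 4, 3, 2, 0], 0),
    ([5, 4, 3, 2, 0], 0),
    ([4, 3, 2, 0], 0),
    ([3, 2, 0], 0),
    ([2, 0], 0),
    ([0], 0),
    ([6, 7, 5, 6, 4, 5, 3, 4, 2, 3, 1], 1),
    ([7, 5, 6, 4, 5, 3, 4, 2, 3, 1], 1),
    ([5, 6, 4, 5, 3, 4, 2, 3, 1], 1),
    ([7, 6, 4, 5, 3, 4, 2, 3, 1], 1),
    ([6, 4, 5, 3, 4, 2, 3, 1], 1),
    ([4, 5, 3, 4, 2, 3, 1], 1),
    ([7, 6, 5, 3, 4, 2, 3, 1], 1),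
    ([6, 5, 3, 4, 2, 3, 1], 1),
    ([5, 3, 4, 2, 3, 1], 1),
    ([3, 4, 2, 3, 1], 1),
    ([7, 6, 5, 4, 2, 3, 1], 1),
    ([6, 5, 4, 2, 3, 1], 1),
    ([5, 4, 2, 3, 1], 1),
    ([4, 2, 3, 1], 1),
    ([2, 3, 1], 1),
    ([7, 6, 5, 4, 3, 1], 1),
    ([6, 5, 4, 3, 1], 1),
    ([5, 4, 3, 1], 1),
    ([4, 3, 1], 1),
    ([3, 1], 1),
    ([1], 1),
    ([7, 6, 5, 4, 3, 2], 2),
    ([6, 5, 4, 3, 2], 2),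
    ([5, 4, 3, 2], 2),
    ([4, 3, 2], 2),
    ([3, 2], 2),
    ([2], 2),
    ([7, 6, 5, 4, 3], 3),
    ([6, 5, 4, 3], 3),
    ([5, 4, 3], 3),
    ([4, 3], 3),
    ([3], 3),
    ([7, 6, 5, 4], 4),
    ([6, 5, 4], 4),
    ([5, 4], 4),
    ([4], 4),
    ([7, 6, 5], 5),
    ([6, 5], 5),
    ([5], 5),
    ([7, 6], 6),
    ([6], 6),
    ([7], 7),
    ([], 7),
    ([], 6),
    ([7], 6),
    ([], 5),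
    ([6], 5),
    ([7, 6], 5),
    ([], 4),
    ([5], 4),
    ([6, 5], 4),
    ([7, 6, 5], 4),
    ([], 3),
    ([4], 3),
    ([5, 4], 3),
    ([6, 5, 4], 3),
    ([7, 6, 5, 4], 3),
    ([], 2),
    ([3], 2),
    ([4, 3], 2),
    ([5, 4, 3], 2),
    ([6, 5, 4, 3], 2),
    ([7, 6, 5, 4, 3], 2),
    ([], 1),
    ([3], 1),
    ([4, 3], 1),
    ([5, 4, 3], 1),
    ([6, 5, 4, 3], 1),
    ([7, 6, 5, 4, 3], 1),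
    ([2, 3], 1),
    ([4, 2, 3], 1),
    ([5, 4, 2, 3], 1),
    ([6, 5, 4, 2, 3], 1),
    ([7, 6, 5, 4, 2, 3], 1),
    ([3, 4, 2, 3], 1),
    ([5, 3, 4, 2, 3], 1),
    ([6, 5, 3, 4, 2, 3], 1),
    ([7, 6, 5, 3, 4, 2, 3], 1),
    ([4, 5, 3, 4, 2, 3], 1),
    ([6, 4, 5, 3, 4, 2, 3], 1),
    ([7, 6, 4, 5, 3, 4, 2, 3], 1),
    ([5, 6, 4, 5, 3, 4, 2, 3], 1),
    ([7, 5, 6, 4, 5, 3, 4, 2, 3], 1),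
    ([6, 7, 5, 6, 4, 5, 3, 4, 2, 3], 1),
    ([], 0),
    ([2], 0),
    ([3, 2], 0),
    ([4, 3, 2], 0),
    ([5, 4, 3, 2], 0),
    ([6, 5, 4, 3, 2], 0),
    ([7, 6, 5, 4, 3, 2], 0),
    ([1, 3, 2], 0),
    ([4, 1, 3, 2], 0),
    ([5, 4, 1, 3, 2], 0),
    ([6, 5, 4, 1, 3, 2], 0),
    ([7, 6, 5, 4, 1, 3, 2], 0),
    ([3, 4, 1, 3, 2], 0),
    ([5, 3, 4, 1, 3, 2], 0),
    ([6, 5, 3, 4, 1, 3, 2], 0),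
    ([7, 6, 5, 3, 4, 1, 3, 2], 0),
    ([4, 5, 3, 4, 1, 3, 2], 0),
    ([6, 4, 5, 3, 4, 1, 3, 2], 0),
    ([7, 6, 4, 5, 3, 4, 1, 3, 2], 0),
    ([5, 6, 4, 5, 3, 4, 1, 3, 2], 0),
    ([7, 5, 6, 4, 5, 3, 4, 1, 3, 2], 0),
    ([6, 7, 5, 6, 4, 5, 3, 4, 1, 3, 2], 0),
    ([2, 3, 4, 1, 3, 2], 0),
    ([5, 2, 3, 4, 1, 3, 2], 0),
    ([6, 5, 2, 3, 4, 1, 3, 2], 0),
    ([7, 6, 5, 2, 3, 4, 1, 3, 2], 0),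
    ([4, 5, 2, 3, 4, 1, 3, 2], 0),
    ([6, 4, 5, 2, 3, 4, 1, 3, 2], 0),
    ([7, 6, 4, 5, 2, 3, 4, 1, 3, 2], 0),
    ([5, 6, 4, 5, 2, 3, 4, 1, 3, 2], 0),
    ([7, 5, 6, 4, 5, 2, 3, 4, 1, 3, 2], 0),
    ([6, 7, 5, 6, 4, 5, 2, 3, 4, 1, 3, 2], 0),
    ([3, 4, 5, 2, 3, 4, 1, 3, 2], 0),
    ([6, 3, 4, 5, 2, 3, 4, 1, 3, 2], 0),
    ([7, 6, 3, 4, 5, 2, 3, 4, 1, 3, 2], 0),
    ([5, 6, 3, 4, 5, 2, 3, 4, 1, 3, 2], 0),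
    ([7, 5, 6, 3, 4, 5, 2, 3, 4, 1, 3, 2], 0),
    ([6, 7, 5, 6, 3, 4, 5, 2, 3, 4, 1, 3, 2], 0),
    ([4, 5, 6, 3, 4, 5, 2, 3, 4, 1, 3, 2], 0),
    ([7, 4, 5, 6, 3, 4, 5, 2, 3, 4, 1, 3, 2], 0),
    ([6, 7, 4, 5, 6, 3, 4, 5, 2, 3, 4, 1, 3, 2], 0),
    ([5, 6, 7, 4, 5, 6, 3, 4, 5, 2, 3, 4, 1, 3, 2], 0),
    ([1, 3, 4, 5, 2, 3, 4, 1, 3, 2], 0),
    ([6, 1, 3, 4, 5, 2, 3, 4, 1, 3, 2], 0),
    ([7, 6, 1, 3, 4, 5, 2, 3, 4, 1, 3, 2], 0),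
    ([5, 6, 1, 3, 4, 5, 2, 3, 4, 1, 3, 2], 0),
    ([7, 5, 6, 1, 3, 4, 5, 2, 3, 4, 1, 3, 2], 0),
    ([6, 7, 5, 6, 1, 3, 4, 5, 2, 3, 4, 1, 3, 2], 0),
    ([4, 5, 6, 1, 3, 4, 5, 2, 3, 4, 1, 3, 2], 0),
    ([7, 4, 5, 6, 1, 3, 4, 5, 2, 3, 4, 1, 3, 2], 0),
    ([6, 7, 4, 5, 6, 1, 3, 4, 5, 2, 3, 4, 1, 3, 2], 0),
    ([5, 6, 7, 4, 5, 6, 1, 3, 4, 5, 2, 3, 4, 1, 3, 2], 0),
    ([3, 4, 5, 6, 1, 3, 4, 5, 2, 3, 4, 1, 3, 2], 0),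
    ([7, 3, 4, 5, 6, 1, 3, 4, 5, 2, 3, 4, 1, 3, 2], 0),
    ([6, 7, 3, 4, 5, 6, 1, 3, 4, 5, 2, 3, 4, 1, 3, 2], 0),
    ([5, 6, 7, 3, 4, 5, 6, 1, 3, 4, 5, 2, 3, 4, 1, 3, 2], 0),
    ([4, 5, 6, 7, 3, 4, 5, 6, 1, 3, 4, 5, 2, 3, 4, 1, 3, 2], 0),
    ([2, 3, 4, 5, 6, 1, 3, 4, 5, 2, 3, 4, 1, 3, 2], 0),
    ([7, 2, 3, 4, 5, 6, 1, 3, 4, 5, 2, 3, 4, 1, 3, 2], 0),
    ([6, 7, 2, 3, 4, 5, 6, 1, 3, 4, 5, 2, 3, 4, 1, 3, 2], 0),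
    ([5, 6, 7, 2, 3, 4, 5, 6, 1, 3, 4, 5, 2, 3, 4, 1, 3, 2], 0),
    ([4, 5, 6, 7, 2, 3, 4, 5, 6, 1, 3, 4, 5, 2, 3, 4, 1, 3, 2], 0),
    ([3, 4, 5, 6, 7, 2, 3, 4, 5, 6, 1, 3, 4, 5, 2, 3, 4, 1, 3, 2], 0),
    ([1, 3, 4, 5, 6, 7, 2, 3, 4, 5, 6, 1, 3, 4, 5, 2, 3, 4, 1, 3, 2], 0),
    ([0, 2, 3, 4, 5, 6, 1, 3, 4, 5, 2, 3, 4, 1, 3, 2], 0),
    ([7, 0, 2, 3, 4, 5, 6, 1, 3, 4, 5, 2, 3, 4, 1, 3, 2], 0),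
    ([6, 7, 0, 2, 3, 4, 5, 6, 1, 3, 4, 5, 2, 3, 4, 1, 3, 2], 0),
    ([5, 6, 7, 0, 2, 3, 4, 5, 6, 1, 3, 4, 5, 2, 3, 4, 1, 3, 2], 0),
    ([4, 5, 6, 7, 0, 2, 3, 4, 5, 6, 1, 3, 4, 5, 2, 3, 4, 1, 3, 2], 0),
    ([3, 4, 5, 6, 7, 0, 2, 3, 4, 5, 6, 1, 3, 4, 5, 2, 3, 4, 1, 3, 2], 0),
    ([2, 3, 4, 5, 6, 7, 0, 2, 3, 4, 5, 6, 1, 3, 4, 5, 2, 3, 4, 1, 3, 2], 0),
    ([1, 3, 4, 5, 6, 7, 0, 2, 3, 4, 5, 6, 1, 3, 4, 5, 2, 3, 4, 1, 3, 2], 0),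
    ([2, 1, 3, 4, 5, 6, 7, 0, 2, 3, 4, 5, 6, 1, 3, 4, 5, 2, 3, 4, 1, 3, 2], 0),
    ([3, 2, 1, 3, 4, 5, 6, 7, 0, 2, 3, 4, 5, 6, 1, 3, 4, 5, 2, 3, 4, 1, 3, 2], 0),
    ([4, 3, 2, 1, 3, 4, 5, 6, 7, 0, 2, 3, 4, 5, 6, 1, 3, 4, 5, 2, 3, 4, 1, 3, 2], 0),
    ([5, 4, 3, 2, 1, 3, 4, 5, 6, 7, 0, 2, 3, 4, 5, 6, 1, 3, 4, 5, 2, 3, 4, 1, 3, 2], 0),
    ([6, 5, 4, 3, 2, 1, 3, 4, 5, 6, 7, 0, 2, 3, 4, 5, 6, 1, 3, 4, 5, 2, 3, 4, 1, 3, 2], 0),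
    ([7, 6, 5, 4, 3, 2, 1, 3, 4, 5, 6, 7, 0, 2, 3, 4, 5, 6, 1, 3, 4, 5, 2, 3, 4, 1, 3, 2], 0)]

theorem braidOK_E8 : braidRootsOK chevE8 reflTabsE8 E8.Mx = true := by decide +kernel

theorem reachOK_E8 : reachOK chevE8 reflTabsE8 reachWordsE8 = true := by decide +kernel

theorem weyl_iso_E8 {F : Type*} [Field F] (h31 : NConjHyp chevE8 F) :
    ∃ φ : ↥(chevE8.monomialSubgroup F) →* (CoxeterMatrix.E₈).Group, Function.Surjective φ ∧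
      φ.ker = (chevE8.diagonalSubgroup F).subgroupOf (chevE8.monomialSubgroup F) ∧
      ∀ (i : Fin 8) (g : ↥(chevE8.monomialSubgroup F)),
        ((g : GL chevE8.Idx F) : Matrix chevE8.Idx chevE8.Idx F) =
          chevE8.nMat F (chevE8.simple i) 1 → φ g = (CoxeterMatrix.E₈).simple i := by
  haveI : (HN chevE8 F).Normal := Cfsg.Agent.S1038.result chevE8 (by simp)
  exact weyl_iso chevE8 (by simp) (CoxeterMatrix.E₈) E8.Mx E8.hMx reflTabsE8 tabsOK_E8 braidOK_E8 h31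
    rootI_E8 rootB_E8 rootPhiE8_injective reachWordsE8 reachOK_E8


end Cfsg.Agent.Helper18
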