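import Cfsg.Agent.Helper18.Monomial
import Cfsg.Agent.S1023
import Cfsg.Agent.S1024
import Cfsg.Agent.S1037
import Cfsg.Agent.S1043

/-!
Helper18: the normal core of `B` in the Chevalley group is trivial, given `n₀ ∈ N` with `n₀ U n₀⁻¹ = V`.
-/

set_option autoImplicit false

namespace Cfsg.Agent.Helper18

open Cfsg Cfsg.Lie

section
variable {F : Type*} [Field F]
variable (D : ChevalleyDatum) (hD : D ∈ [chevG2, chevB2, chevD4, chevF4, chevE6, chevE7, chevE8])
include hD

/-- `t ↦ x_r(t)` is injective -/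
theorem x_injective (r : ℕ) (hr : r < D.nroots) (a b : F) (h : D.x F r a = D.x F r b) : a = b := by
  have h1 : D.x F r (a - b) = 1 := by
    have e1 := Cfsg.Agent.S1023.result D hD r hr a (-b)
    have e2 := Cfsg.Agent.S1023.result D hD r hr b (-b)
    rw [add_neg_cancel, x_zero] at e2
    rw [sub_eq_add_neg, ← e1, h, e2]
  have := (Cfsg.Agent.S1024.result D hD r hr (a - b)).mp h1
  exact sub_eq_zero.mp this

/-- the elements of `H` are diagonal matrices `diag(1, …, 1; χ_s)` and conjugate `x_r(t)` to `x_r(χ_r t)` -/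
theorem diagonalSubgroup_char (k : GL D.Idx F) (hk : k ∈ D.diagonalSubgroup F) :
    ∃ χ : ℕ → F, (∀ s, χ s ≠ 0) ∧
      (k : Matrix D.Idx D.Idx F) = Matrix.diagonal (Sum.elim (fun _ => (1 : F)) (fun s : Fin D.nroots => χ s.val)) ∧
      ∀ r < D.nroots, ∀ t : F, k * xGL D F r t = xGL D F r (χ r * t) * k := by
  unfold ChevalleyDatum.diagonalSubgroup at hk
  induction hk using Subgroup.closure_induction with
  | mem g hg =>
    obtain ⟨s, t, hs, ht, hgm⟩ := hg
    refine ⟨fun u => t ^ pairing' D s u, fun u => zpow_ne_zero _ ht, ?_, fun r hr a => ?_⟩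
    · rw [hgm, hMat_eq_wDiag D hD s hs t ht]; rfl
    · exact hMat_comm_xGL D hD g s hs t ht hgm r hr a
  | one =>
    refine ⟨fun _ => 1, fun _ => one_ne_zero, ?_, fun r _ a => by simp⟩
    rw [Units.val_one, ← Matrix.diagonal_one]
    congr 1
    funext j
    rcases j with a | s <;> rfl
  | mul g g' _ _ ih ih' =>
    obtain ⟨χ, hχ, hd, hc⟩ := ih
    obtain ⟨χ', hχ', hd', hc'⟩ := ih'
    refine ⟨fun s => χ s * χ' s, fun s => mul_ne_zero (hχ s) (hχ' s), ?_, fun r hr a => ?_⟩
    · rw [Units.val_mul, hd, hd', Matrix.diagonal_mul_diagonal]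
      congr 1
      funext j
      rcases j with a | s <;> simp
    · rw [mul_assoc, hc' r hr a, ← mul_assoc, hc r hr, mul_assoc, mul_assoc]
  | inv g _ ih =>
    obtain ⟨χ, hχ, hd, hc⟩ := ih
    refine ⟨fun s => (χ s)⁻¹, fun s => inv_ne_zero (hχ s), ?_, fun r hr a => ?_⟩
    · have h1 : (g : Matrix D.Idx D.Idx F) *
          Matrix.diagonal (Sum.elim (fun _ => (1 : F)) (fun s : Fin D.nroots => (χ s.val)⁻¹)) = 1 := by
        rw [hd, Matrix.diagonal_mul_diagonal, ← Matrix.diagonal_one]
        congr 1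
        funext j
        rcases j with a | s
        · simp
        · simp [hχ s.val]
      calc ((g⁻¹ : GL D.Idx F) : Matrix D.Idx D.Idx F)
          = ((g⁻¹ : GL D.Idx F) : Matrix D.Idx D.Idx F) * ((g : Matrix D.Idx D.Idx F) *
              Matrix.diagonal (Sum.elim (fun _ => (1 : F)) (fun s : Fin D.nroots => (χ s.val)⁻¹))) := by
            rw [h1, mul_one]
        _ = _ := by rw [← mul_assoc, ← Units.val_mul, inv_mul_cancel, Units.val_one, one_mul]
    · have := hc r hr ((χ r)⁻¹ * a)
      rw [mul_inv_cancel_left₀ (hχ r)] at this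
      rw [inv_mul_eq_iff_eq_mul, ← mul_assoc, this, mul_inv_cancel_right]

/-- an element of `H` whose conjugates by all root elements lie in `H` is trivial -/
theorem eq_one_of_conj_mem (k : GL D.Idx F) (hk : k ∈ D.diagonalSubgroup F)
    (hconj : ∀ r < D.nroots, xGL D F r 1 * k * (xGL D F r 1)⁻¹ ∈ D.diagonalSubgroup F) : k = 1 := by
  have htri := triOK_of_mem D hD
  obtain ⟨χ, hχ, hd, hc⟩ := diagonalSubgroup_char D hD k hk
  have hχ1 : ∀ r < D.nroots, χ r = 1 := by
    intro r hr
    obtain ⟨χ', -, hd', -⟩ := diagonalSubgroup_char D hD _ (hconj r hr)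
    -- k' x = x k with k, k' diagonal forces k' = k
    set x := xGL D F r 1 with hx
    set k' := x * k * x⁻¹ with hk'
    have e1 : k' * x = x * k := by rw [hk']; group
    have e2 : (k' : Matrix D.Idx D.Idx F) = (k : Matrix D.Idx D.Idx F) := by
      rw [hd', hd]
      congr 1
      funext j
      have := congrArg (fun g : GL D.Idx F => (g : Matrix D.Idx D.Idx F) j j) e1
      simp only [Units.val_mul] at this
      rw [hd', hd, Matrix.diagonal_mul, Matrix.mul_diagonal, hx, xGL_val D _ htri, x_diag D _ htri] at this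
      simpa using this
    have e3 : k' = k := Units.ext e2
    rw [e3] at e1
    -- so x_r(χ_r) = x_r(1)
    have e4 := hc r hr 1
    rw [mul_one, ← hx, e1] at e4
    have e5 : x = xGL D F r (χ r) := mul_right_cancel e4
    have e6 := congrArg (fun g : GL D.Idx F => (g : Matrix D.Idx D.Idx F)) e5
    simp only [hx, xGL_val D _ htri] at e6
    exact (x_injective D hD r hr _ _ e6).symm
  apply Units.ext
  rw [hd, Units.val_one, ← Matrix.diagonal_one]
  congr 1
  funext j
  rcases j with a | s
  · rfl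
  · exact hχ1 s.val s.2

theorem xGL_mem_group' (r : ℕ) (t : F) : xGL D F r t ∈ D.group F :=
  Cfsg.Agent.S1043.xGL_mem_group D _ (triOK_of_mem D hD) r t

/-- the normal core of `B` in the Chevalley group is trivial, given `n₀` -/
theorem normalCore_borel (h53 : ∃ n ∈ D.monomialSubgroup F,
      (D.posUnipotent F).map (MulAut.conj n).toMonoidHom = D.negUnipotent F) :
    ((D.borelSubgroup F).subgroupOf (D.group F)).normalCore = ⊥ := by
  obtain ⟨n₀, hn₀, hUV⟩ := h53
  have h43 := Cfsg.Agent.S1043.result (F := F) D hD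
  have h37 := Cfsg.Agent.S1037.result (F := F) D hD
  have hn₀G : n₀ ∈ D.group F := h43.2.1 hn₀
  have hHB : D.diagonalSubgroup F ≤ D.borelSubgroup F := le_sup_right
  have hnorm := monomialSubgroup_le_normalizer D hD hn₀
  have hHmap : (D.diagonalSubgroup F).map (MulAut.conj n₀).toMonoidHom = D.diagonalSubgroup F :=
    Subgroup.mem_normalizer_iff_map_conj_eq.mp hnorm
  -- the core lies in H
  have hKH : ∀ k : ↥(D.group F), k ∈ ((D.borelSubgroup F).subgroupOf (D.group F)).normalCore →
      (k : GL D.Idx F) ∈ D.diagonalSubgroup F := by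
    intro k hk
    have h1 : (k : GL D.Idx F) ∈ D.borelSubgroup F := by
      have := Subgroup.normalCore_le _ hk
      exact Subgroup.mem_subgroupOf.mp this
    have h2 : n₀⁻¹ * (k : GL D.Idx F) * n₀ ∈ D.borelSubgroup F := by
      have := hk (⟨n₀⁻¹, inv_mem hn₀G⟩ : ↥(D.group F))
      have := Subgroup.mem_subgroupOf.mp this
      simpa using this
    have h3 : (k : GL D.Idx F) ∈ (D.borelSubgroup F).map (MulAut.conj n₀).toMonoidHom := by
      refine ⟨n₀⁻¹ * (k : GL D.Idx F) * n₀, h2, ?_⟩
      show n₀ * (n₀⁻¹ * (k : GL D.Idx F) * n₀) * n₀⁻¹ = k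
      group
    have h4 : (D.borelSubgroup F).map (MulAut.conj n₀).toMonoidHom =
        D.negUnipotent F ⊔ D.diagonalSubgroup F := by
      conv_lhs => unfold ChevalleyDatum.borelSubgroup
      rw [Subgroup.map_sup, hUV, hHmap]
    rw [h4] at h3
    rw [← h37.2]
    exact ⟨h1, h3⟩
  rw [eq_bot_iff]
  intro k hk
  rw [Subgroup.mem_bot]
  have hnormal : ((D.borelSubgroup F).subgroupOf (D.group F)).normalCore.Normal := Subgroup.normalCore_normal _
  have hk1 := eq_one_of_conj_mem D hD (k : GL D.Idx F) (hKH k hk) (fun r _ => by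
    have hx : xGL D F r 1 ∈ D.group F := xGL_mem_group' D hD r 1
    have := hnormal.conj_mem k hk ⟨xGL D F r 1, hx⟩
    have := hKH _ this
    simpa using this)
  exact Subtype.ext hk1

end

end Cfsg.Agent.Helper18
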