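import Cfsg.Agent.Helper18.BNData
import Cfsg.Agent.Helper18.UpStruct
import Cfsg.Agent.Helper18.WeylHomData
import Cfsg.Agent.Helper18.Core
import Cfsg.Agent.S1031

/-!
# Ingredients of the (B,N)-pair of a Chevalley group
-/

set_option autoImplicit false

namespace Cfsg.Agent.Helper18

open Cfsg Cfsg.Lie Matrix Cfsg.Agent.Helper19.Cox

section
variable {F : Type*} [Field F]
variable (D : ChevalleyDatum) (hD : D ∈ [chevG2, chevB2, chevD4, chevF4, chevE6, chevE7, chevE8])
include hD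

theorem nConjHyp : NConjHyp D F := fun i s hi hs => Cfsg.Agent.S1031.result D hD i s hi hs

/-- the elements of the root subgroup `X_r` are the `x_r(t)` -/
theorem mem_rootSubgroup (r : ℕ) (g : GL D.Idx F) (hg : g ∈ D.rootSubgroup F r) : ∃ t : F, g = xGL D F r t := by
  have htri := triOK_of_mem D hD
  unfold ChevalleyDatum.rootSubgroup at hg
  induction hg using Subgroup.closure_induction with
  | mem g hg =>
    obtain ⟨t, hg⟩ := hg
    exact ⟨t, Units.ext (by rw [hg, xGL_val D _ htri])⟩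
  | one =>
    refine ⟨0, Units.ext ?_⟩
    rw [xGL_val D _ htri, x_zero, Units.val_one]
  | mul g g' _ _ ih ih' =>
    obtain ⟨a, rfl⟩ := ih
    obtain ⟨b, rfl⟩ := ih'
    refine ⟨a + b, Units.ext ?_⟩
    rw [Units.val_mul, xGL_val D _ htri, xGL_val D _ htri, xGL_val D _ htri]
    by_cases hr : r < D.nroots
    · exact Cfsg.Agent.S1023.result D hD r hr a b
    · unfold ChevalleyDatum.x
      rw [dif_neg hr, dif_neg hr, dif_neg hr, mul_one]
  | inv g _ ih =>
    obtain ⟨a, rfl⟩ := ih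
    exact ⟨-a, xGL_inv' D hD r a⟩

/-- `U = U_p X_p` -/
theorem mem_posUnipotent_decomp (h25 : CommHyp D F) (i : ℕ) (hi : i < D.rank) (u : GL D.Idx F)
    (hu : u ∈ D.posUnipotent F) : ∃ u' ∈ Up D F i, ∃ t : F, u = u' * xGL D F (D.simple i) t := by
  have hle : D.rootSubgroup F (D.simple i) ≤ Subgroup.normalizer (Up D F i : Set (GL D.Idx F)) :=
    le_trans le_sup_left (rootSubgroup_le_normalizer_Up D hD h25 i hi)
  rw [← Up_sup_rootSubgroup D hD i hi, ← SetLike.mem_coe,
    Subgroup.coe_mul_of_right_le_normalizer_left _ _ hle] at hu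
  obtain ⟨u', hu', x, hx, rfl⟩ := hu
  obtain ⟨t, rfl⟩ := mem_rootSubgroup D hD _ x hx
  exact ⟨u', hu', t, rfl⟩

/-- `n_p U_p n_p⁻¹ ≤ U` -/
theorem nGL_conj_Up (i : ℕ) (hi : i < D.rank) (u : GL D.Idx F) (hu : u ∈ Up D F i) :
    wordGL D F (D.nWord (D.simple i) (1 : F)) * u * (wordGL D F (D.nWord (D.simple i) (1 : F)))⁻¹ ∈
      D.posUnipotent F := by
  have htri := triOK_of_mem D hD
  have hposOK := posOK_of_mem D hD
  set n := wordGL D F (D.nWord (D.simple i) (1 : F)) with hn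
  have hle : Up D F i ≤ (D.posUnipotent F).comap (MulAut.conj n).toMonoidHom := by
    unfold Up
    rw [Subgroup.closure_le]
    rintro g ⟨s, t, hs, hsp, hg⟩
    have hgx : g = xGL D F s t := Units.ext (by rw [hg, xGL_val D _ htri])
    have hs' := (isPosRoot_iff D _ hposOK s).mp hs
    obtain ⟨η, -, hc⟩ := nGL_conj_xGL D hD (nConjHyp (F := F) D hD) i s hi hs'.2
    obtain ⟨p1, p2, -⟩ := reflectRoot_pos D hD i s hi hs' hsp
    rw [SetLike.mem_coe, Subgroup.mem_comap, hgx]
    change n * xGL D F s t * n⁻¹ ∈ _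
    rw [hc t, mul_inv_cancel_right]
    apply Subgroup.subset_closure
    exact ⟨_, _, (isPosRoot_iff D _ hposOK _).mpr ⟨p1, p2⟩, xGL_val D _ htri _ _⟩
  exact hle hu

/-- rank one: `x_{-r}(c) = x_r(c⁻¹) h_r(-c⁻¹) n_r x_r(c⁻¹)` -/
theorem xGL_neg_eq (r : ℕ) (hr : r < D.nroots) (c : F) (hc : c ≠ 0) :
    xGL D F (D.neg r) c = xGL D F r c⁻¹ * wordGL D F (D.hWord r (-c⁻¹)) * wordGL D F (D.nWord r (1 : F)) *
      xGL D F r c⁻¹ := by
  have h1 : wordGL D F (D.nWord r (-c⁻¹)) = wordGL D F (D.hWord r (-c⁻¹)) * wordGL D F (D.nWord r (1 : F)) := by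
    rw [wordGL_hWord, ← nWordGL_one_inv D hD r hr, inv_mul_cancel_right]
  have h2 := wordGL_nWord' (F := F) D r (-c⁻¹)
  have h3 : -(-c⁻¹)⁻¹ = c := by
    rw [inv_neg, neg_neg, inv_inv]
  rw [h3] at h2
  have h4 : xGL D F (D.neg r) c = (xGL D F r (-c⁻¹))⁻¹ * wordGL D F (D.nWord r (-c⁻¹)) * (xGL D F r (-c⁻¹))⁻¹ := by
    rw [h2]; group
  rw [h4, xGL_inv' D hD, neg_neg, h1]
  simp only [mul_assoc]

/-- `w_i` is an involution on the roots -/
theorem reflectRoot_reflectRoot (i s : ℕ) (hi : i < D.rank) (hs : s < D.nroots) :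
    D.reflectRoot i (D.reflectRoot i s) = s := by
  have hc := colsOK_of_mem D hD
  have hsim := simpleOK_of_mem D hD
  have h1 := reflectRoot_lt D hD i s hi hs
  have h2 := reflectRoot_lt D hD i _ hi h1
  apply cols_inj D hc _ _ h2 hs
  intro k hk
  rw [cartan_reflect D hD i k _ hi hk h1, cartan_reflect D hD i k s hi hk hs, cartan_reflect D hD i i s hi hi hs]
  have : D.cartan i (D.simple i) = 2 := by
    rw [← pairing'_simple D hsim i hi, pairing'_self D hc _ (simple_lt D hsim i hi)]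
  rw [this]
  ring

theorem rho_reverse_cancel (w : List ℕ) (hw : ∀ i ∈ w, i < D.rank) (s : ℕ) (hs : s < D.nroots) :
    rho D w (rho D w.reverse s) = s := by
  induction w generalizing s with
  | nil => rfl
  | cons i w ih =>
    have hw' : ∀ j ∈ w, j < D.rank := fun j hj => hw j (List.mem_cons_of_mem _ hj)
    have hi := hw i List.mem_cons_self
    have e1 : rho D (i :: w).reverse s = rho D w.reverse (D.reflectRoot i s) := by
      rw [List.reverse_cons]
      unfold rho
      rw [List.foldr_append]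
      rfl
    have e2 : ∀ x, rho D (i :: w) x = D.reflectRoot i (rho D w x) := fun x => rfl
    rw [e1, e2, ih hw' _ (reflectRoot_lt D hD i s hi hs), reflectRoot_reflectRoot D hD i s hi hs]

theorem rho_lt (w : List ℕ) (hw : ∀ i ∈ w, i < D.rank) (s : ℕ) (hs : s < D.nroots) : rho D w s < D.nroots := by
  induction w with
  | nil => exact hs
  | cons i w ih =>
    have hw' : ∀ j ∈ w, j < D.rank := fun j hj => hw j (List.mem_cons_of_mem _ hj)
    exact reflectRoot_lt D hD i _ (hw i List.mem_cons_self) (ih hw')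

theorem rho_neg (w : List ℕ) (hw : ∀ i ∈ w, i < D.rank) (s : ℕ) (hs : s < D.nroots) :
    rho D w (D.neg s) = D.neg (rho D w s) := by
  induction w with
  | nil => rfl
  | cons i w ih =>
    have hw' : ∀ j ∈ w, j < D.rank := fun j hj => hw j (List.mem_cons_of_mem _ hj)
    have e2 : ∀ x, rho D (i :: w) x = D.reflectRoot i (rho D w x) := fun x => rfl
    rw [e2, e2, ih hw', reflectRoot_neg D hD i _ (hw i List.mem_cons_self) (rho_lt D hD w hw' s hs)]

/-- `N / H ≅ W` for some Coxeter matrix (uniform in the type) -/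
theorem exists_weyl :
    ∃ (M : CoxeterMatrix (Fin D.rank)) (φ : ↥(D.monomialSubgroup F) →* M.Group), Function.Surjective φ ∧
      φ.ker = (D.diagonalSubgroup F).subgroupOf (D.monomialSubgroup F) ∧
      ∀ (i : Fin D.rank) (g : ↥(D.monomialSubgroup F)),
        ((g : GL D.Idx F) : Matrix D.Idx D.Idx F) = D.nMat F (D.simple i) 1 → φ g = M.simple i := by
  have hD' := hD
  simp only [List.mem_cons, List.not_mem_nil, or_false] at hD'
  rcases hD' with rfl | rfl | rfl | rfl | rfl | rfl | rfl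
  · exact ⟨_, weyl_iso_G2 (nConjHyp _ hD)⟩
  · exact ⟨_, weyl_iso_B2 (nConjHyp _ hD)⟩
  · exact ⟨_, weyl_iso_D4 (nConjHyp _ hD)⟩
  · exact ⟨_, weyl_iso_F4 (nConjHyp _ hD)⟩
  · exact ⟨_, weyl_iso_E6 (nConjHyp _ hD)⟩
  · exact ⟨_, weyl_iso_E7 (nConjHyp _ hD)⟩
  · exact ⟨_, weyl_iso_E8 (nConjHyp _ hD)⟩

/-- every element of `N` is `h n_w` for a word `w` in the fundamental reflections -/
theorem mem_monomial_decomp (n : GL D.Idx F) (hn : n ∈ D.monomialSubgroup F) :
    ∃ w : List ℕ, (∀ i ∈ w, i < D.rank) ∧ ∃ h ∈ D.diagonalSubgroup F, n = h * nWordsGL D F w := by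
  obtain ⟨M, φ, -, hker, hsimple⟩ := exists_weyl (F := F) D hD
  have hs := simpleOK_of_mem D hD
  obtain ⟨ω, hω⟩ := M.toCoxeterSystem.wordProd_surjective (φ ⟨n, hn⟩)
  have hw : ∀ i ∈ ω.map Fin.val, i < D.rank := by
    intro i hi
    obtain ⟨j, -, rfl⟩ := List.mem_map.mp hi
    exact j.2
  have key : ∀ (ω : List (Fin D.rank)) (hw : ∀ i ∈ ω.map Fin.val, i < D.rank),
      φ ⟨nWordsGL D F (ω.map Fin.val), nWordsGL_mem D hD _ hw⟩ = M.toCoxeterSystem.wordProd ω := by
    intro ω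
    induction ω with
    | nil =>
      intro hw
      rw [CoxeterSystem.wordProd_nil]
      have : (⟨nWordsGL D F (([] : List (Fin D.rank)).map Fin.val), nWordsGL_mem D hD _ hw⟩ :
          ↥(D.monomialSubgroup F)) = 1 := by
        apply Subtype.ext
        simp [nWordsGL]
      rw [this, map_one]
    | cons i ω ih =>
      intro hw
      have hw' : ∀ j ∈ ω.map Fin.val, j < D.rank := fun j hj => hw j (by
        rw [List.map_cons]; exact List.mem_cons_of_mem _ hj)
      have hmem : wordGL D F (D.nWord (D.simple i.val) (1 : F)) ∈ D.monomialSubgroup F :=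
        nGL_mem_monomialSubgroup D hD _ (simple_lt D hs i.1 i.2)
      have e : (⟨nWordsGL D F ((i :: ω).map Fin.val), nWordsGL_mem D hD _ hw⟩ : ↥(D.monomialSubgroup F)) =
          ⟨_, hmem⟩ * ⟨nWordsGL D F (ω.map Fin.val), nWordsGL_mem D hD _ hw'⟩ := by
        apply Subtype.ext
        simp [nWordsGL]
      rw [e, map_mul, ih hw', CoxeterSystem.wordProd_cons, hsimple i ⟨_, hmem⟩ (nWordGL_val D hD _ _),
        CoxeterMatrix.toCoxeterSystem_simple]
  refine ⟨ω.map Fin.val, hw, ?_⟩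
  have h1 : φ (⟨n, hn⟩ * (⟨nWordsGL D F (ω.map Fin.val), nWordsGL_mem D hD _ hw⟩ : ↥(D.monomialSubgroup F))⁻¹) = 1 := by
    rw [map_mul, map_inv, key ω hw, hω, mul_inv_cancel]
  rw [← MonoidHom.mem_ker, hker, Subgroup.mem_subgroupOf] at h1
  refine ⟨_, h1, ?_⟩
  simp

end

end Cfsg.Agent.Helper18
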