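import Cfsg.Agent.Helper18.LongWord

/-!
Helper18: the reflection in a fundamental root `p` permutes the positive roots other than `p` (table check).
-/

set_option autoImplicit false

namespace Cfsg.Agent.Helper18

open Cfsg Cfsg.Lie

/-- `w_i` maps the positive roots other than `p_i` to positive roots other than `p_i` -/
def reflPosOK (D : ChevalleyDatum) (tabs : List ℕ) (hlf : ℕ) : Bool :=
  (List.range D.rank).all fun i => (List.range' hlf hlf).all fun r =>
    (r == D.simple i) || (decide (hlf ≤ getB 256 (tabs.getD i 0) r) && (getB 256 (tabs.getD i 0) r != D.simple i))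

set_option maxRecDepth 100000 in
theorem reflPosOK_G2 : reflPosOK chevG2 reflTabsG2 (hlfOf chevG2) = true := by decide +kernel
set_option maxRecDepth 100000 in
theorem reflPosOK_B2 : reflPosOK chevB2 reflTabsB2 (hlfOf chevB2) = true := by decide +kernel
set_option maxRecDepth 100000 in
theorem reflPosOK_D4 : reflPosOK chevD4 reflTabsD4 (hlfOf chevD4) = true := by decide +kernel
set_option maxRecDepth 100000 in
theorem reflPosOK_F4 : reflPosOK chevF4 reflTabsF4 (hlfOf chevF4) = true := by decide +kernel
set_option maxRecDepth 100000 in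
theorem reflPosOK_E6 : reflPosOK chevE6 reflTabsE6 (hlfOf chevE6) = true := by decide +kernel
set_option maxRecDepth 100000 in
theorem reflPosOK_E7 : reflPosOK chevE7 reflTabsE7 (hlfOf chevE7) = true := by decide +kernel
set_option maxRecDepth 100000 in
theorem reflPosOK_E8 : reflPosOK chevE8 reflTabsE8 (hlfOf chevE8) = true := by decide +kernel

theorem reflectRoot_pos (D : ChevalleyDatum) (hD : D ∈ [chevG2, chevB2, chevD4, chevF4, chevE6, chevE7, chevE8])
    (i r : ℕ) (hi : i < D.rank) (hr : hlfOf D ≤ r ∧ r < D.nroots) (hrp : r ≠ D.simple i) :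
    hlfOf D ≤ D.reflectRoot i r ∧ D.reflectRoot i r < D.nroots ∧ D.reflectRoot i r ≠ D.simple i := by
  have key : ∀ tabs, tabsOK D tabs = true → reflPosOK D tabs (hlfOf D) = true → D.nroots = hlfOf D + hlfOf D →
      hlfOf D ≤ D.reflectRoot i r ∧ D.reflectRoot i r < D.nroots ∧ D.reflectRoot i r ≠ D.simple i := by
    intro tabs ht hp hn
    obtain ⟨e1, l1⟩ := tabsOK_spec D tabs ht i r hi hr.2
    unfold reflPosOK at hp
    rw [List.all_eq_true] at hp
    have h1 := hp i (List.mem_range.mpr hi)
    rw [List.all_eq_true] at h1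
    have h2 := h1 r (by rw [List.mem_range'_1]; omega)
    simp only [Bool.or_eq_true, beq_iff_eq, Bool.and_eq_true, decide_eq_true_eq, bne_iff_ne] at h2
    rcases h2 with h2 | h2
    · exact absurd h2 hrp
    · rw [e1] at h2
      exact ⟨h2.1, l1, h2.2⟩
  simp only [List.mem_cons, List.not_mem_nil, or_false] at hD
  rcases hD with rfl | rfl | rfl | rfl | rfl | rfl | rfl
  · exact key _ tabsOK_G2 reflPosOK_G2 (by decide)
  · exact key _ tabsOK_B2 reflPosOK_B2 (by decide)
  · exact key _ tabsOK_D4 reflPosOK_D4 (by decide)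
  · exact key _ tabsOK_F4 reflPosOK_F4 (by decide)
  · exact key _ tabsOK_E6 reflPosOK_E6 (by decide)
  · exact key _ tabsOK_E7 reflPosOK_E7 (by decide)
  · exact key _ tabsOK_E8 reflPosOK_E8 (by decide)

end Cfsg.Agent.Helper18
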