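import Cfsg.Agent.Helper18.BNStruct

/-!
# The double coset condition `s B n ⊆ B s n B ∪ B n B` for Chevalley groups

Conditional on the statement of S1025 (`CommHyp`).
-/

set_option autoImplicit false

namespace Cfsg.Agent.Helper18

open Cfsg Cfsg.Lie Matrix

section
variable {F : Type*} [Field F]
variable (D : ChevalleyDatum) (hD : D ∈ [chevG2, chevB2, chevD4, chevF4, chevE6, chevE7, chevE8])
include hD

theorem posUnipotent_le_borel : D.posUnipotent F ≤ D.borelSubgroup F := by
  unfold ChevalleyDatum.borelSubgroup; exact le_sup_left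

theorem diagonal_le_borel : D.diagonalSubgroup F ≤ D.borelSubgroup F := by
  unfold ChevalleyDatum.borelSubgroup; exact le_sup_right

theorem xGL_mem_posUnipotent (q : ℕ) (hq : hlfOf D ≤ q ∧ q < D.nroots) (c : F) : xGL D F q c ∈ D.posUnipotent F := by
  apply Subgroup.subset_closure
  exact ⟨q, c, (isPosRoot_iff D _ (posOK_of_mem D hD) q).mpr hq, xGL_val D _ (triOK_of_mem D hD) q c⟩

/-- case A: if `w⁻¹(p)` is positive then `x_p(t) h n_w = h n_w x_{w⁻¹ p}(c)` -/
theorem caseA (i : ℕ) (hi : i < D.rank) (h : GL D.Idx F) (hh : h ∈ D.diagonalSubgroup F) (w : List ℕ)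
    (hw : ∀ j ∈ w, j < D.rank) (t : F) :
    ∃ c : F, xGL D F (D.simple i) t * (h * nWordsGL D F w) =
      h * nWordsGL D F w * xGL D F (rho D w.reverse (D.simple i)) c := by
  have hpi := simple_lt D (simpleOK_of_mem D hD) i hi
  have hwr : ∀ j ∈ w.reverse, j < D.rank := fun j hj => hw j (List.mem_reverse.mp hj)
  have hq := rho_lt D hD w.reverse hwr _ hpi
  obtain ⟨χ, hχ, -, hc⟩ := diagonalSubgroup_char D hD h hh
  obtain ⟨-, η, hη, hn⟩ := nWordsGL_conj_xGL D hD (nConjHyp (F := F) D hD) (fun i s hi hs => reflectRoot_lt D hD i s hi hs)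
    w hw _ hq
  rw [rho_reverse_cancel D hD w hw _ hpi] at hn
  have hηη : (η : F) * (η : F) = 1 := by rcases hη with rfl | rfl <;> simp
  refine ⟨(η : F) * ((χ (D.simple i))⁻¹ * t), ?_⟩
  have e1 := hc _ hpi ((χ (D.simple i))⁻¹ * t)
  rw [mul_inv_cancel_left₀ (hχ _)] at e1
  have e2 := hn ((η : F) * ((χ (D.simple i))⁻¹ * t))
  have e3 : (η : F) * ((η : F) * ((χ (D.simple i))⁻¹ * t)) = (χ (D.simple i))⁻¹ * t := by
    rw [← mul_assoc, hηη, one_mul]
  rw [e3] at e2
  rw [← mul_assoc, ← e1, mul_assoc, ← e2, mul_assoc]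

theorem xGL_zero' (r : ℕ) : xGL D F r (0 : F) = 1 := by
  apply Units.ext
  rw [xGL_val D _ (triOK_of_mem D hD), x_zero, Units.val_one]

theorem nGL_conj_diagonal (r : ℕ) (hr : r < D.nroots) (h : GL D.Idx F) (hh : h ∈ D.diagonalSubgroup F) :
    wordGL D F (D.nWord r (1 : F)) * h * (wordGL D F (D.nWord r (1 : F)))⁻¹ ∈ D.diagonalSubgroup F :=
  (Subgroup.mem_normalizer_iff.mp (nGL_mem_normalizer D hD r hr) h).mp hh

theorem reflectRoot_simple (i : ℕ) : D.reflectRoot i (D.simple i) = D.neg (D.simple i) := by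
  unfold ChevalleyDatum.reflectRoot
  simp

/-- `s x_p(t) n' ∈ B s n' B ∪ B n' B` for `n' ∈ N` -/
theorem coreC (i : ℕ) (hi : i < D.rank) (n' : GL D.Idx F) (hn' : n' ∈ D.monomialSubgroup F) (t : F) :
    ∃ b1 ∈ D.borelSubgroup F, ∃ b2 ∈ D.borelSubgroup F,
      wordGL D F (D.nWord (D.simple i) (1 : F)) * xGL D F (D.simple i) t * n' =
          b1 * (wordGL D F (D.nWord (D.simple i) (1 : F)) * n') * b2 ∨
        wordGL D F (D.nWord (D.simple i) (1 : F)) * xGL D F (D.simple i) t * n' = b1 * n' * b2 := by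
  have htri := triOK_of_mem D hD
  have hpi := simple_lt D (simpleOK_of_mem D hD) i hi
  have hppos := simple_pos D hD i hi
  obtain ⟨w, hw, h', hh', rfl⟩ := mem_monomial_decomp D hD n' hn'
  have hwr : ∀ j ∈ w.reverse, j < D.rank := fun j hj => hw j (List.mem_reverse.mp hj)
  have hq := rho_lt D hD w.reverse hwr _ hpi
  set s := wordGL D F (D.nWord (D.simple i) (1 : F)) with hs
  by_cases hqpos : hlfOf D ≤ rho D w.reverse (D.simple i)
  · obtain ⟨c, e⟩ := caseA D hD i hi h' hh' w hw t
    refine ⟨1, one_mem _, _, posUnipotent_le_borel D hD (xGL_mem_posUnipotent D hD _ ⟨hqpos, hq⟩ c), Or.inl ?_⟩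
    rw [one_mul, mul_assoc s, e, ← mul_assoc]
  · by_cases ht : t = 0
    · subst ht
      refine ⟨1, one_mem _, 1, one_mem _, Or.inl ?_⟩
      rw [xGL_zero' D hD, mul_one, one_mul, mul_one]
    · obtain ⟨η, hη, hc⟩ := nGL_conj_xGL D hD (nConjHyp (F := F) D hD) i _ hi hpi
      rw [reflectRoot_simple D hD i] at hc
      have hη0 : (η : F) ≠ 0 := by rcases hη with rfl | rfl <;> simp
      have hc0 : (η : F) * t ≠ 0 := mul_ne_zero hη0 ht
      set c := (η : F) * t with hcdef
      have hbr := xGL_neg_eq D hD _ hpi c hc0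
      rw [← hs] at hbr
      -- the element s n' = h'' n_{i :: w}
      have hh'' := nGL_conj_diagonal D hD _ hpi h' hh'
      rw [← hs] at hh''
      have hw2 : ∀ j ∈ i :: w, j < D.rank := by
        intro j hj
        rcases List.mem_cons.mp hj with rfl | hj
        · exact hi
        · exact hw j hj
      have en : nWordsGL D F (i :: w) = s * nWordsGL D F w := by simp [nWordsGL, hs]
      have e2 : s * (h' * nWordsGL D F w) = (s * h' * s⁻¹) * nWordsGL D F (i :: w) := by
        rw [en]; group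
      obtain ⟨c'', e3⟩ := caseA D hD i hi _ hh'' (i :: w) hw2 c⁻¹
      -- the root is positive
      have hq'' : rho D (i :: w).reverse (D.simple i) = D.neg (rho D w.reverse (D.simple i)) := by
        rw [List.reverse_cons]
        have : rho D (w.reverse ++ [i]) (D.simple i) = rho D w.reverse (D.reflectRoot i (D.simple i)) := by
          unfold rho
          rw [List.foldr_append]
          rfl
        rw [this, reflectRoot_simple D hD i, rho_neg D hD _ hwr _ hpi]
      have hq''pos : hlfOf D ≤ D.neg (rho D w.reverse (D.simple i)) :=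
        (triOK_spec D _ htri _ hq).2.2.1 (by omega)
      have hq''lt : D.neg (rho D w.reverse (D.simple i)) < D.nroots := (triOK_spec D _ htri _ hq).1
      rw [hq''] at e3
      have hss := nGL_sq_mem (F := F) D hD _ hpi
      rw [← hs] at hss
      refine ⟨xGL D F (D.simple i) c⁻¹ * wordGL D F (D.hWord (D.simple i) (-c⁻¹)) * (s * s), ?_, _,
        posUnipotent_le_borel D hD (xGL_mem_posUnipotent D hD _ ⟨hq''pos, hq''lt⟩ c''), Or.inr ?_⟩
      · apply mul_mem (mul_mem ?_ ?_) ?_
        · exact posUnipotent_le_borel D hD (xGL_mem_posUnipotent D hD _ ⟨hppos, hpi⟩ _)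
        · exact diagonal_le_borel D hD (hWordGL_mem_diagonalSubgroup D hD _ hpi _ (by
            rw [neg_ne_zero]; exact inv_ne_zero hc0))
        · exact diagonal_le_borel D hD hss
      · have e4 : s * xGL D F (D.simple i) t = xGL D F (D.neg (D.simple i)) c * s := hc t
        calc s * xGL D F (D.simple i) t * (h' * nWordsGL D F w)
            = xGL D F (D.neg (D.simple i)) c * (s * (h' * nWordsGL D F w)) := by rw [e4, mul_assoc]
          _ = xGL D F (D.simple i) c⁻¹ * wordGL D F (D.hWord (D.simple i) (-c⁻¹)) * s *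
                (xGL D F (D.simple i) c⁻¹ * ((s * h' * s⁻¹) * nWordsGL D F (i :: w))) := by
              rw [hbr, e2]; simp only [mul_assoc]
          _ = xGL D F (D.simple i) c⁻¹ * wordGL D F (D.hWord (D.simple i) (-c⁻¹)) * s *
                ((s * h' * s⁻¹) * nWordsGL D F (i :: w) *
                  xGL D F (D.neg (rho D w.reverse (D.simple i))) c'') := by rw [e3]
          _ = xGL D F (D.simple i) c⁻¹ * wordGL D F (D.hWord (D.simple i) (-c⁻¹)) * (s * s) *
                (h' * nWordsGL D F w) * xGL D F (D.neg (rho D w.reverse (D.simple i))) c'' := by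
              rw [← e2]; simp only [mul_assoc]

/-- the double coset condition: `s b n ∈ B s n B ∪ B n B` -/
theorem bn_mul_mem (h25 : CommHyp D F) (i : ℕ) (hi : i < D.rank) (n : GL D.Idx F) (hn : n ∈ D.monomialSubgroup F)
    (b : GL D.Idx F) (hb : b ∈ D.borelSubgroup F) :
    ∃ b1 ∈ D.borelSubgroup F, ∃ b2 ∈ D.borelSubgroup F,
      wordGL D F (D.nWord (D.simple i) (1 : F)) * b * n =
          b1 * (wordGL D F (D.nWord (D.simple i) (1 : F)) * n) * b2 ∨
        wordGL D F (D.nWord (D.simple i) (1 : F)) * b * n = b1 * n * b2 := by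
  have hpi := simple_lt D (simpleOK_of_mem D hD) i hi
  set s := wordGL D F (D.nWord (D.simple i) (1 : F)) with hs
  unfold ChevalleyDatum.borelSubgroup at hb
  rw [← SetLike.mem_coe, Subgroup.coe_mul_of_right_le_normalizer_left _ _
    (diagonalSubgroup_le_normalizer_posUnipotent D hD)] at hb
  obtain ⟨u, hu, h, hh, rfl⟩ := hb
  simp only [SetLike.mem_coe] at hu hh
  obtain ⟨u', hu', t, rfl⟩ := mem_posUnipotent_decomp D hD h25 i hi u hu
  have hb0 : s * u' * s⁻¹ ∈ D.borelSubgroup F := posUnipotent_le_borel D hD (nGL_conj_Up D hD i hi u' hu')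
  have hn' : h * n ∈ D.monomialSubgroup F := mul_mem (diagonalSubgroup_le_monomialSubgroup D hh) hn
  have hsh : s * h * s⁻¹ ∈ D.borelSubgroup F := diagonal_le_borel D hD (nGL_conj_diagonal D hD _ hpi h hh)
  obtain ⟨b1, hb1, b2, hb2, e | e⟩ := coreC D hD i hi (h * n) hn' t
  · refine ⟨s * u' * s⁻¹ * b1 * (s * h * s⁻¹), mul_mem (mul_mem hb0 hb1) hsh, b2, hb2, Or.inl ?_⟩
    calc s * (u' * xGL D F (D.simple i) t * h) * n
        = s * u' * s⁻¹ * (s * xGL D F (D.simple i) t * (h * n)) := by group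
      _ = s * u' * s⁻¹ * (b1 * (s * (h * n)) * b2) := by rw [e]
      _ = s * u' * s⁻¹ * b1 * (s * h * s⁻¹) * (s * n) * b2 := by group
  · refine ⟨s * u' * s⁻¹ * b1 * h, mul_mem (mul_mem hb0 hb1) (diagonal_le_borel D hD hh), b2, hb2, Or.inr ?_⟩
    calc s * (u' * xGL D F (D.simple i) t * h) * n
        = s * u' * s⁻¹ * (s * xGL D F (D.simple i) t * (h * n)) := by group
      _ = s * u' * s⁻¹ * (b1 * (h * n) * b2) := by rw [e]
      _ = s * u' * s⁻¹ * b1 * h * n * b2 := by group

end

end Cfsg.Agent.Helper18
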