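import Cfsg.Agent.Helper18.WeylPermData

/-!
# The permutation of the roots attached to a word in the `n_p`

A non-zero entry `(v, s)` in the root block of `n_p` (`p = p_{i+1}` fundamental) forces `v = w_p(s)`; hence a word
`n_{i_1} ⋯ n_{i_k}` that lies in `H` acts trivially on the roots.
-/

set_option autoImplicit false

namespace Cfsg.Agent.Helper18

open Cfsg Cfsg.Lie Matrix

theorem exists_reflTabs (D : ChevalleyDatum) (hD : D ∈ [chevG2, chevB2, chevD4, chevF4, chevE6, chevE7, chevE8]) :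
    ∃ tabs : List ℕ, tabsOK D tabs = true ∧ reflColOK D tabs = true := by
  simp only [List.mem_cons, List.not_mem_nil, or_false] at hD
  rcases hD with rfl | rfl | rfl | rfl | rfl | rfl | rfl
  · exact ⟨_, tabsOK_G2, reflColOK_G2⟩
  · exact ⟨_, tabsOK_B2, reflColOK_B2⟩
  · exact ⟨_, tabsOK_D4, reflColOK_D4⟩
  · exact ⟨_, tabsOK_F4, reflColOK_F4⟩
  · exact ⟨_, tabsOK_E6, reflColOK_E6⟩
  · exact ⟨_, tabsOK_E7, reflColOK_E7⟩
  · exact ⟨_, tabsOK_E8, reflColOK_E8⟩

section
variable (D : ChevalleyDatum) (hD : D ∈ [chevG2, chevB2, chevD4, chevF4, chevE6, chevE7, chevE8])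
include hD

theorem reflectRoot_lt (i s : ℕ) (hi : i < D.rank) (hs : s < D.nroots) : D.reflectRoot i s < D.nroots := by
  obtain ⟨tabs, ht, -⟩ := exists_reflTabs D hD
  exact (tabsOK_spec D tabs ht i s hi hs).2

/-- the weight column of `w_i(s)` -/
theorem cartan_reflect (i k s : ℕ) (hi : i < D.rank) (hk : k < D.rank) (hs : s < D.nroots) :
    D.cartan k (D.reflectRoot i s) = D.cartan k s - D.cartan i s * D.cartan k (D.simple i) := by
  obtain ⟨tabs, ht, hc⟩ := exists_reflTabs D hD
  have hadd := addAllOK_of_mem D hD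
  unfold addAllOK at hadd
  rw [List.all_eq_true] at hadd
  have hak := hadd k (List.mem_range.mpr hk)
  have hai := hadd i (List.mem_range.mpr hi)
  obtain ⟨h1, h2⟩ := tabsOK_spec D tabs ht i s hi hs
  unfold reflColOK at hc
  rw [List.all_eq_true] at hc
  have hc1 := hc i (List.mem_range.mpr hi)
  rw [Bool.and_eq_true, List.all_eq_true] at hc1
  have hc2 := hc1.1 k (List.mem_range.mpr hk)
  rw [List.all_eq_true] at hc2
  have hc3 := hc2 s (List.mem_range.mpr hs)
  rw [decide_eq_true_eq, h1, wP_packedRow D k hak _ h2, wP_packedRow D k hak _ hs, wP_packedRow D i hai _ hs,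
    wP_packedRow D k hak _ (simple_lt D (simpleOK_of_mem D hD) i hi)] at hc3
  exact hc3

/-- `w_i(-s) = -w_i(s)` -/
theorem reflectRoot_neg (i s : ℕ) (hi : i < D.rank) (hs : s < D.nroots) :
    D.reflectRoot i (D.neg s) = D.neg (D.reflectRoot i s) := by
  obtain ⟨tabs, ht, hc⟩ := exists_reflTabs D hD
  have hns : D.neg s < D.nroots := (triOK_spec D _ (triOK_of_mem D hD) s hs).1
  obtain ⟨h1, -⟩ := tabsOK_spec D tabs ht i s hi hs
  obtain ⟨h2, -⟩ := tabsOK_spec D tabs ht i _ hi hns
  unfold reflColOK at hc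
  rw [List.all_eq_true] at hc
  have hc1 := hc i (List.mem_range.mpr hi)
  rw [Bool.and_eq_true, List.all_eq_true] at hc1
  have hc2 := hc1.2
  rw [List.all_eq_true] at hc2
  have hc3 := hc2 s (List.mem_range.mpr hs)
  rw [beq_iff_eq, h1, h2] at hc3
  exact hc3

variable {F : Type*} [Field F]

/-- a non-zero entry `(v, s)` in the root block of `n_p(u)`, `p` fundamental, forces `v = w_p(s)` -/
theorem nMat_simple_entry (i : ℕ) (hi : i < D.rank) (u : F) (hu : u ≠ 0) (v s : Fin D.nroots)
    (hne : D.nMat F (D.simple i) u (Sum.inr v) (Sum.inr s) ≠ 0) : v.val = D.reflectRoot i s.val := by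
  have hc := colsOK_of_mem D hD
  have hs := simpleOK_of_mem D hD
  have hr := simple_lt D hs i hi
  have hrr := pairing'_self D hc _ hr
  apply cols_inj D hc v.val _ v.2 (reflectRoot_lt D hD i s.val hi s.2)
  intro k hk
  have a1 := nMat_weight_rel D hD _ hr u hu _ _ hne _ hr
  rw [hrr, wtI_simple_inr D hD i hi, wtI_simple_inr D hD i hi] at a1
  have b1 := nMat_weight_rel D hD _ hr u hu _ _ hne (D.simple k) (simple_lt D hs k hk)
  rw [wtI_simple_inr D hD k hk, wtI_simple_inr D hD k hk, wtI_simple_inr D hD i hi,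
    pairing'_simple D hs k hk] at b1
  rw [cartan_reflect D hD i k s.val hi hk s.2, b1]
  have : D.cartan i v.val = - D.cartan i s.val := by linarith
  rw [this]
  ring

omit hD in
/-- the root block of `M` is supported on the graph of `σ` -/
def PS (M : Matrix D.Idx D.Idx F) (σ : ℕ → ℕ) : Prop :=
  ∀ v s : Fin D.nroots, M (Sum.inr v) (Sum.inr s) ≠ 0 → v.val = σ s.val

omit hD in
theorem PS_mul (M M' : Matrix D.Idx D.Idx F) (σ σ' : ℕ → ℕ) (h : PS D M σ) (h' : PS D M' σ') (hNL : NL D M') :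
    PS D (M * M') (σ ∘ σ') := by
  intro v s hne
  rw [Matrix.mul_apply, Fintype.sum_sum_type] at hne
  simp only [hNL.1, mul_zero, Finset.sum_const_zero, zero_add] at hne
  obtain ⟨k, -, hk⟩ := Finset.exists_ne_zero_of_sum_ne_zero hne
  have e1 := h v k (left_ne_zero_of_mul hk)
  have e2 := h' k s (right_ne_zero_of_mul hk)
  rw [Function.comp_apply, ← e2, e1]

theorem PS_nWordsGL (w : List ℕ) (hw : ∀ i ∈ w, i < D.rank) :
    PS D ((nWordsGL D F w : GL D.Idx F) : Matrix D.Idx D.Idx F) (rho D w) := by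
  induction w with
  | nil =>
    intro v s hne
    have : nWordsGL D F ([] : List ℕ) = 1 := by simp [nWordsGL]
    rw [this, Units.val_one] at hne
    by_contra hvs
    have hvs' : ¬ v.val = s.val := hvs
    exact hne (Matrix.one_apply_ne (by simpa [Fin.ext_iff] using hvs'))
  | cons i w ih =>
    have hw' : ∀ j ∈ w, j < D.rank := fun j hj => hw j (List.mem_cons_of_mem _ hj)
    have hi := hw i List.mem_cons_self
    have e : nWordsGL D F (i :: w) = wordGL D F (D.nWord (D.simple i) (1 : F)) * nWordsGL D F w := by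
      simp [nWordsGL]
    rw [e, Units.val_mul, nWordGL_val D hD]
    have hσ : rho D (i :: w) = (fun s => D.reflectRoot i s) ∘ rho D w := by
      funext s; rfl
    rw [hσ]
    apply PS_mul D _ _ _ _ _ (ih hw')
    · exact (monomialSubgroup_le_nlGL D hD (nWordsGL_mem D hD w hw')).1
    · intro v s hne
      exact nMat_simple_entry D hD i hi 1 one_ne_zero v s hne

/-- a word in the `n_p` lying in `H` acts trivially on the roots -/
theorem rho_eq_of_mem_diagonalSubgroup (w : List ℕ) (hw : ∀ i ∈ w, i < D.rank)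
    (hH : nWordsGL D F w ∈ D.diagonalSubgroup F) (s : ℕ) (hs : s < D.nroots) : rho D w s = s := by
  set g := nWordsGL D F w with hg
  have hoff := offdiag_of_mem_diagonalSubgroup D hD g hH
  have hdiag : (g : Matrix D.Idx D.Idx F) (Sum.inr ⟨s, hs⟩) (Sum.inr ⟨s, hs⟩) ≠ 0 := by
    intro h0
    have h1 : ((g * g⁻¹ : GL D.Idx F) : Matrix D.Idx D.Idx F) (Sum.inr ⟨s, hs⟩) (Sum.inr ⟨s, hs⟩) = 1 := by
      rw [mul_inv_cancel, Units.val_one, Matrix.one_apply_eq]
    rw [Units.val_mul, Matrix.mul_apply, Finset.sum_eq_single (Sum.inr ⟨s, hs⟩)] at h1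
    · rw [h0, zero_mul] at h1
      exact zero_ne_one h1
    · intro b _ hb
      rw [hoff _ _ (Ne.symm hb), zero_mul]
    · intro h; exact absurd (Finset.mem_univ _) h
  exact (PS_nWordsGL D hD w hw ⟨s, hs⟩ ⟨s, hs⟩ hdiag).symm

end

end Cfsg.Agent.Helper18
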