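import Cfsg.Agent.Helper18.Conj

/-! Helper18: kernel-evaluated additivity checks for the Cartan tables of types G2, B2, D4, F4, E6. -/

set_option autoImplicit false

namespace Cfsg.Agent.Helper18

open Cfsg Cfsg.Lie

set_option maxRecDepth 100000 in
theorem addAllOK_G2 : addAllOK chevG2 = true := by decide +kernel

set_option maxRecDepth 100000 in
theorem addAllOK_B2 : addAllOK chevB2 = true := by decide +kernel

set_option maxRecDepth 100000 in
theorem addAllOK_D4 : addAllOK chevD4 = true := by decide +kernel

set_option maxRecDepth 100000 in
theorem addAllOK_F4 : addAllOK chevF4 = true := by decide +kernel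

set_option maxRecDepth 100000 in
theorem addAllOK_E6 : addAllOK chevE6 = true := by decide +kernel

end Cfsg.Agent.Helper18
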