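import Cfsg.Agent.Helper18.BNMain
import Cfsg.Agent.S1040
import Cfsg.Agent.S1037
import Cfsg.Agent.S1043
import Cfsg.Agent.S1024
import Cfsg.Prelude.Def_LieExceptional

/-!
# The (B,N)-pair of a Chevalley group

Conditional on the statement of S1025 (`CommHyp`).
-/

set_option autoImplicit false

namespace Cfsg.Agent.Helper18

open Cfsg Cfsg.Lie Matrix

section
variable {F : Type*} [Field F]
variable (D : ChevalleyDatum) (hD : D ∈ [chevG2, chevB2, chevD4, chevF4, chevE6, chevE7, chevE8])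
include hD

theorem nG_unique (i : ℕ) (g : GL D.Idx F) (hg : (g : Matrix D.Idx D.Idx F) = D.nMat F (D.simple i) 1) :
    g = wordGL D F (D.nWord (D.simple i) (1 : F)) := by
  apply Units.ext
  rw [hg, nWordGL_val D hD]

/-- distinct fundamental reflections are distinct modulo `H` -/
theorem simple_eq_of_mem (i j : ℕ) (hi : i < D.rank) (hj : j < D.rank)
    (h : (wordGL D F (D.nWord (D.simple i) (1 : F)))⁻¹ * wordGL D F (D.nWord (D.simple j) (1 : F)) ∈
      D.diagonalSubgroup F) : D.simple i = D.simple j := by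
  by_contra hne
  have htri := triOK_of_mem D hD
  have hs := simpleOK_of_mem D hD
  have hpi := simple_lt D hs i hi
  have hpj := simple_lt D hs j hj
  have hw : ∀ k ∈ [i, j], k < D.rank := by
    intro k hk
    simp only [List.mem_cons, List.not_mem_nil, or_false] at hk
    rcases hk with rfl | rfl <;> assumption
  have hmem : nWordsGL D F [i, j] ∈ D.diagonalSubgroup F := by
    have e : nWordsGL D F [i, j] =
        (wordGL D F (D.nWord (D.simple i) (1 : F)) * wordGL D F (D.nWord (D.simple i) (1 : F))) *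
          ((wordGL D F (D.nWord (D.simple i) (1 : F)))⁻¹ * wordGL D F (D.nWord (D.simple j) (1 : F))) := by
      simp [nWordsGL]
    rw [e]
    exact mul_mem (nGL_sq_mem D hD _ hpi) h
  have h1 := rho_eq_of_mem_diagonalSubgroup D hD [i, j] hw hmem (D.simple j) hpj
  have h2 : rho D [i, j] (D.simple j) = D.reflectRoot i (D.reflectRoot j (D.simple j)) := rfl
  rw [h2, reflectRoot_simple D hD j, reflectRoot_neg D hD i _ hi hpj] at h1
  -- so `w_i(p_j) = -p_j`, which is negative
  obtain ⟨p1, p2, -⟩ := reflectRoot_pos D hD i (D.simple j) hi ⟨simple_pos D hD j hj, hpj⟩ (Ne.symm hne)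
  have h3 := (triOK_spec D _ htri _ p2).2.2.2 p1
  rw [h1] at h3
  have := simple_pos D hD j hj
  omega

/-- every word `n_w` is a product of distinguished representatives inside the Chevalley group -/
theorem nWordsGL_mem_closure (w : List ℕ) (hw : ∀ i ∈ w, i < D.rank) :
    ∃ x : ↥(D.group F), (x : GL D.Idx F) = nWordsGL D F w ∧
      x ∈ Subgroup.closure {n : ↥(D.group F) | ∃ i < D.rank,
        ((n : GL D.Idx F) : Matrix D.Idx D.Idx F) = D.nMat F (D.simple i) 1} := by
  have hNG := (Cfsg.Agent.S1043.result (F := F) D hD).2.1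
  have hs := simpleOK_of_mem D hD
  induction w with
  | nil => exact ⟨1, by simp [nWordsGL], one_mem _⟩
  | cons i w ih =>
    have hw' : ∀ j ∈ w, j < D.rank := fun j hj => hw j (List.mem_cons_of_mem _ hj)
    have hi := hw i List.mem_cons_self
    obtain ⟨x, hx, hxc⟩ := ih hw'
    have hmem : wordGL D F (D.nWord (D.simple i) (1 : F)) ∈ D.group F :=
      hNG (nGL_mem_monomialSubgroup D hD _ (simple_lt D hs i hi))
    refine ⟨⟨_, hmem⟩ * x, ?_, mul_mem (Subgroup.subset_closure ⟨i, hi, nWordGL_val D hD _ _⟩) hxc⟩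
    rw [Subgroup.coe_mul, hx]
    simp [nWordsGL]

/-- the (B,N)-pair of the Chevalley group, given the commutator formula -/
theorem exists_bnPair (h25 : CommHyp D F) :
    ∃ P : Cfsg.BNPair ↥(D.group F),
      P.B = (D.borelSubgroup F).subgroupOf (D.group F) ∧ P.N = (D.monomialSubgroup F).subgroupOf (D.group F) ∧
      P.S = {n : ↥(D.group F) | ∃ i < D.rank, ((n : GL D.Idx F) : Matrix D.Idx D.Idx F) = D.nMat F (D.simple i) 1} := by
  have htri := triOK_of_mem D hD
  have hs := simpleOK_of_mem D hD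
  obtain ⟨hBG, hNG, hBN⟩ := Cfsg.Agent.S1043.result (F := F) D hD
  obtain ⟨-, hBNH⟩ := Cfsg.Agent.S1040.result (F := F) D hD
  obtain ⟨hBV, -⟩ := Cfsg.Agent.S1037.result (F := F) D hD
  have hHN := diagonalSubgroup_le_monomialSubgroup (F := F) D
  have hHB := diagonal_le_borel (F := F) D hD
  refine ⟨{
    B := (D.borelSubgroup F).subgroupOf (D.group F)
    N := (D.monomialSubgroup F).subgroupOf (D.group F)
    S := {n : ↥(D.group F) | ∃ i < D.rank, ((n : GL D.Idx F) : Matrix D.Idx D.Idx F) = D.nMat F (D.simple i) 1}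
    sup_eq_top := ?_
    conj_mem := ?_
    subset := ?_
    sq_mem := ?_
    inj := ?_
    closure_sup := ?_
    mul_mem_union := ?_
    conj_ne := ?_ }, rfl, rfl, rfl⟩
  · rw [← Subgroup.subgroupOf_sup hBG hNG, hBN, Subgroup.subgroupOf_self]
  · intro n hn t ht
    rw [Subgroup.mem_subgroupOf] at hn ⊢
    have ht' : (t : GL D.Idx F) ∈ D.borelSubgroup F ⊓ D.monomialSubgroup F := by
      rw [Subgroup.mem_inf] at ht ⊢
      exact ⟨Subgroup.mem_subgroupOf.mp ht.1, Subgroup.mem_subgroupOf.mp ht.2⟩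
    rw [hBNH] at ht'
    have := (Subgroup.mem_normalizer_iff.mp (monomialSubgroup_le_normalizer D hD hn) _).mp ht'
    exact hHB (by simpa using this)
  · rintro g ⟨i, hi, hg⟩
    rw [SetLike.mem_coe, Subgroup.mem_subgroupOf, nG_unique D hD i _ hg]
    exact nGL_mem_monomialSubgroup D hD _ (simple_lt D hs i hi)
  · rintro g ⟨i, hi, hg⟩
    rw [Subgroup.mem_subgroupOf, Subgroup.coe_mul, nG_unique D hD i _ hg]
    exact hHB (nGL_sq_mem D hD _ (simple_lt D hs i hi))
  · rintro g ⟨i, hi, hg⟩ g' ⟨j, hj, hg'⟩ hmem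
    have hH : ((g⁻¹ * g' : ↥(D.group F)) : GL D.Idx F) ∈ D.borelSubgroup F ⊓ D.monomialSubgroup F := by
      rw [Subgroup.mem_inf]
      refine ⟨Subgroup.mem_subgroupOf.mp hmem, ?_⟩
      rw [Subgroup.coe_mul, Subgroup.coe_inv, nG_unique D hD i _ hg, nG_unique D hD j _ hg']
      exact mul_mem (inv_mem (nGL_mem_monomialSubgroup D hD _ (simple_lt D hs i hi)))
        (nGL_mem_monomialSubgroup D hD _ (simple_lt D hs j hj))
    rw [hBNH, Subgroup.coe_mul, Subgroup.coe_inv, nG_unique D hD i _ hg, nG_unique D hD j _ hg'] at hH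
    have := simple_eq_of_mem D hD i j hi hj hH
    apply Subtype.ext
    apply Units.ext
    rw [hg, hg', this]
  · apply le_antisymm
    · apply sup_le
      · rw [Subgroup.closure_le]
        rintro g ⟨i, hi, hg⟩
        rw [SetLike.mem_coe, Subgroup.mem_subgroupOf, nG_unique D hD i _ hg]
        exact nGL_mem_monomialSubgroup D hD _ (simple_lt D hs i hi)
      · exact inf_le_right
    · intro g hg
      rw [Subgroup.mem_subgroupOf] at hg
      obtain ⟨w, hw, h, hh, e⟩ := mem_monomial_decomp D hD _ hg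
      obtain ⟨x, hx, hxc⟩ := nWordsGL_mem_closure (F := F) D hD w hw
      have hhG : h ∈ D.group F := hBG (hHB hh)
      have e' : g = ⟨h, hhG⟩ * x := by
        apply Subtype.ext
        rw [Subgroup.coe_mul, hx, e]
      rw [e', sup_comm]
      apply Subgroup.mul_mem_sup _ hxc
      rw [Subgroup.mem_inf]
      exact ⟨Subgroup.mem_subgroupOf.mpr (hHB hh), Subgroup.mem_subgroupOf.mpr (hHN hh)⟩
  · rintro g ⟨i, hi, hg⟩ n hn b hb
    rw [Subgroup.mem_subgroupOf] at hn hb
    obtain ⟨b1, hb1, b2, hb2, e⟩ := bn_mul_mem D hD h25 i hi _ hn _ hb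
    rw [← nG_unique D hD i _ hg] at e
    rcases e with e | e
    · left
      rw [DoubleCoset.mem_doubleCoset]
      refine ⟨⟨b1, hBG hb1⟩, Subgroup.mem_subgroupOf.mpr hb1, ⟨b2, hBG hb2⟩, Subgroup.mem_subgroupOf.mpr hb2, ?_⟩
      apply Subtype.ext
      simpa using e
    · right
      rw [DoubleCoset.mem_doubleCoset]
      refine ⟨⟨b1, hBG hb1⟩, Subgroup.mem_subgroupOf.mpr hb1, ⟨b2, hBG hb2⟩, Subgroup.mem_subgroupOf.mpr hb2, ?_⟩
      apply Subtype.ext
      simpa using e
  · rintro g ⟨i, hi, hg⟩ heq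
    have hpi := simple_lt D hs i hi
    have hppos := simple_pos D hD i hi
    have hxB : xGL D F (D.simple i) (1 : F) ∈ D.borelSubgroup F :=
      posUnipotent_le_borel D hD (xGL_mem_posUnipotent D hD _ ⟨hppos, hpi⟩ 1)
    have hxmem : (⟨xGL D F (D.simple i) (1 : F), hBG hxB⟩ : ↥(D.group F)) ∈
        ((D.borelSubgroup F).subgroupOf (D.group F) : Set ↥(D.group F)) := Subgroup.mem_subgroupOf.mpr hxB
    have h1 : g * ⟨xGL D F (D.simple i) (1 : F), hBG hxB⟩ * g ∈
        ((D.borelSubgroup F).subgroupOf (D.group F) : Set ↥(D.group F)) := by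
      rw [← heq]
      exact ⟨_, hxmem, rfl⟩
    rw [SetLike.mem_coe, Subgroup.mem_subgroupOf] at h1
    simp only [Subgroup.coe_mul] at h1
    rw [nG_unique D hD i _ hg] at h1
    obtain ⟨η, hη, hc⟩ := nGL_conj_xGL D hD (nConjHyp (F := F) D hD) i _ hi hpi
    rw [reflectRoot_simple D hD i] at hc
    rw [hc 1, mul_one, mul_assoc] at h1
    have hss := hHB (nGL_sq_mem (F := F) D hD _ hpi)
    have h2 : xGL D F (D.neg (D.simple i)) (η : F) ∈ D.borelSubgroup F := by
      have := mul_mem h1 (inv_mem hss)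
      rwa [mul_inv_cancel_right] at this
    obtain ⟨hnp, -, -, h4⟩ := triOK_spec D _ htri _ hpi
    have h3 : xGL D F (D.neg (D.simple i)) (η : F) ∈ D.negUnipotent F := by
      apply Subgroup.subset_closure
      exact ⟨_, _, (isNegRoot_iff D _ (posOK_of_mem D hD) _).mpr ⟨h4 hppos, hnp⟩, xGL_val D _ htri _ _⟩
    have h5 : xGL D F (D.neg (D.simple i)) (η : F) ∈ D.borelSubgroup F ⊓ D.negUnipotent F :=
      Subgroup.mem_inf.mpr ⟨h2, h3⟩
    rw [hBV, Subgroup.mem_bot] at h5
    have h6 := congrArg (fun z : GL D.Idx F => (z : Matrix D.Idx D.Idx F)) h5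
    simp only [xGL_val D _ htri, Units.val_one] at h6
    have h7 := (Cfsg.Agent.S1024.result D hD _ hnp _).mp h6
    rcases hη with rfl | rfl <;> simp at h7

end

end Cfsg.Agent.Helper18
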