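import Cfsg.Agent.Helper18.BNMain

/-!
# `B ∪ B n_p B` is a subgroup (conditional on the commutator formula `CommHyp`)
-/

set_option autoImplicit false

namespace Cfsg.Agent.Helper18

open Cfsg Cfsg.Lie Matrix

section
variable {F : Type*} [Field F]
variable (D : ChevalleyDatum) (hD : D ∈ [chevG2, chevB2, chevD4, chevF4, chevE6, chevE7, chevE8])
include hD

theorem borel_union_subgroup (h25 : CommHyp D F) (i : ℕ) (hi : i < D.rank) (n : GL D.Idx F)
    (hn : (n : Matrix D.Idx D.Idx F) = D.nMat F (D.simple i) 1) :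
    ∃ P : Subgroup (GL D.Idx F), (P : Set (GL D.Idx F)) =
      (D.borelSubgroup F : Set (GL D.Idx F)) ∪
        DoubleCoset.doubleCoset n (D.borelSubgroup F : Set (GL D.Idx F)) (D.borelSubgroup F) := by
  have hs := simpleOK_of_mem D hD
  have hpi := simple_lt D hs i hi
  have hn' : n = wordGL D F (D.nWord (D.simple i) (1 : F)) := by
    apply Units.ext
    rw [hn, nWordGL_val D hD]
  have hnN : n ∈ D.monomialSubgroup F := by
    rw [hn']
    exact nGL_mem_monomialSubgroup D hD _ hpi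
  have hHB := diagonal_le_borel (F := F) D hD
  have hnn : n * n ∈ D.borelSubgroup F := by
    rw [hn']
    exact hHB (nGL_sq_mem D hD _ hpi)
  have key : ∀ b ∈ D.borelSubgroup F, n * b * n ∈ D.borelSubgroup F ∨
      ∃ c1 ∈ D.borelSubgroup F, ∃ c2 ∈ D.borelSubgroup F, n * b * n = c1 * n * c2 := by
    intro b hb
    obtain ⟨b1, hb1, b2, hb2, e⟩ := bn_mul_mem D hD h25 i hi n hnN b hb
    rw [← hn'] at e
    rcases e with e | e
    · left
      rw [e]
      exact mul_mem (mul_mem hb1 hnn) hb2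
    · right
      exact ⟨b1, hb1, b2, hb2, e⟩
  refine ⟨{ carrier := (D.borelSubgroup F : Set (GL D.Idx F)) ∪
        DoubleCoset.doubleCoset n (D.borelSubgroup F : Set (GL D.Idx F)) (D.borelSubgroup F)
            mul_mem' := ?_, one_mem' := ?_, inv_mem' := ?_ }, rfl⟩
  · intro a b ha hb
    simp only [Set.mem_union, SetLike.mem_coe, DoubleCoset.mem_doubleCoset] at ha hb ⊢
    rcases ha with ha | ⟨a1, ha1, a2, ha2, rfl⟩
    · rcases hb with hb | ⟨b1, hb1, b2, hb2, rfl⟩
      · exact Or.inl (mul_mem ha hb)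
      · exact Or.inr ⟨a * b1, mul_mem ha hb1, b2, hb2, by group⟩
    · rcases hb with hb | ⟨b1, hb1, b2, hb2, rfl⟩
      · exact Or.inr ⟨a1, ha1, a2 * b, mul_mem ha2 hb, by group⟩
      · have e : a1 * n * a2 * (b1 * n * b2) = a1 * (n * (a2 * b1) * n) * b2 := by group
        rw [e]
        rcases key (a2 * b1) (mul_mem ha2 hb1) with h | ⟨c1, hc1, c2, hc2, h⟩
        · exact Or.inl (mul_mem (mul_mem ha1 h) hb2)
        · rw [h]
          exact Or.inr ⟨a1 * c1, mul_mem ha1 hc1, c2 * b2, mul_mem hc2 hb2, by group⟩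
  · exact Or.inl (one_mem _)
  · intro a ha
    simp only [Set.mem_union, SetLike.mem_coe, DoubleCoset.mem_doubleCoset] at ha ⊢
    rcases ha with ha | ⟨a1, ha1, a2, ha2, rfl⟩
    · exact Or.inl (inv_mem ha)
    · refine Or.inr ⟨a2⁻¹, inv_mem ha2, (n * n)⁻¹ * a1⁻¹, mul_mem (inv_mem hnn) (inv_mem ha1), by group⟩

end

end Cfsg.Agent.Helper18
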