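import Cfsg.Agent.Helper18.TorusKer

/-!
Helper18: Smith normal form certificates for the Cartan matrices of the seven tabulated types.
-/

set_option autoImplicit false

namespace Cfsg.Agent.Helper18

open Cfsg Cfsg.Lie

/-- the certificate for type G2 -/
def certG2 : TorusCert where
  P := [[0, -1], [1, 2]]
  P' := [[2, 1], [-1, 0]]
  Q := [[1, 2], [0, 1]]
  Q' := [[1, -2], [0, 1]]
  d := [1, 1]

set_option maxRecDepth 100000 in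
theorem certOK_G2 : CertOK chevG2 certG2 := by
  refine ⟨?_, ?_, ?_, ?_⟩ <;> decide +kernel

/-- the certificate for type B2 -/
def certB2 : TorusCert where
  P := [[0, -1], [1, 2]]
  P' := [[2, 1], [-1, 0]]
  Q := [[1, 2], [0, 1]]
  Q' := [[1, -2], [0, 1]]
  d := [1, 2]

set_option maxRecDepth 100000 in
theorem certOK_B2 : CertOK chevB2 certB2 := by
  refine ⟨?_, ?_, ?_, ?_⟩ <;> decide +kernel

/-- the certificate for type D4 -/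
def certD4 : TorusCert where
  P := [[-1, 0, 0, 0], [-2, -1, 0, 0], [-3, -2, -1, 0], [2, 2, 1, 1]]
  P' := [[-1, 0, 0, 0], [2, -1, 0, 0], [-1, 2, -1, 0], [-1, 0, 1, 1]]
  Q := [[0, 0, 0, 1], [1, 0, 0, 2], [0, 1, -1, 1], [0, 0, 1, 2]]
  Q' := [[-2, 1, 0, 0], [-3, 0, 1, 1], [-2, 0, 0, 1], [1, 0, 0, 0]]
  d := [1, 1, 2, 2]

set_option maxRecDepth 100000 in
theorem certOK_D4 : CertOK chevD4 certD4 := by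
  refine ⟨?_, ?_, ?_, ?_⟩ <;> decide +kernel

/-- the certificate for type F4 -/
def certF4 : TorusCert where
  P := [[-1, 0, 0, 0], [1, 0, -1, 0], [-2, -1, 0, 0], [-2, -2, -2, -1]]
  P' := [[-1, 0, 0, 0], [2, 0, -1, 0], [-1, -1, 0, 0], [0, 2, 2, -1]]
  Q := [[0, 0, 1, -2], [1, 0, 2, -4], [0, 0, 2, -3], [0, 1, 2, -2]]
  Q' := [[-2, 1, 0, 0], [2, 0, -2, 1], [-3, 0, 2, 0], [-2, 0, 1, 0]]
  d := [1, 1, 1, 1]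

set_option maxRecDepth 100000 in
theorem certOK_F4 : CertOK chevF4 certF4 := by
  refine ⟨?_, ?_, ?_, ?_⟩ <;> decide +kernel

/-- the certificate for type E6 -/
def certE6 : TorusCert where
  P := [[-1, 0, 0, 0, 0, 0], [0, -1, 0, 0, 0, 0], [1, -2, 0, -1, 0, 0], [2, -3, 0, -2, -1, 0], [-2, 1, -1, 0, 0, 0], [-5, 0, -4, -3, -2, -1]]
  P' := [[-1, 0, 0, 0, 0, 0], [0, -1, 0, 0, 0, 0], [2, -1, 0, 0, -1, 0], [-1, 2, -1, 0, 0, 0], [0, -1, 2, -1, 0, 0], [0, 0, -1, 2, 4, -1]]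
  Q := [[0, 0, 0, 0, 1, -2], [0, 0, 0, 0, 2, -3], [1, 0, 0, 0, 2, -4], [0, 1, 0, 0, 4, -6], [0, 0, 1, 0, 4, -5], [0, 0, 0, 1, 4, -4]]
  Q' := [[-2, 0, 1, 0, 0, 0], [0, -2, 0, 1, 0, 0], [2, -3, 0, 0, 1, 0], [4, -4, 0, 0, 0, 1], [-3, 2, 0, 0, 0, 0], [-2, 1, 0, 0, 0, 0]]
  d := [1, 1, 1, 1, 1, 3]

set_option maxRecDepth 100000 in
theorem certOK_E6 : CertOK chevE6 certE6 := by
  refine ⟨?_, ?_, ?_, ?_⟩ <;> decide +kernel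

/-- the certificate for type E7 -/
def certE7 : TorusCert where
  P := [[-1, 0, 0, 0, 0, 0, 0], [0, -1, 0, 0, 0, 0, 0], [1, -2, 0, -1, 0, 0, 0], [2, -3, 0, -2, -1, 0, 0], [3, -4, 0, -3, -2, -1, 0], [-2, 1, -1, 0, 0, 0, 0], [-4, -1, -4, -4, -3, -2, -1]]
  P' := [[-1, 0, 0, 0, 0, 0, 0], [0, -1, 0, 0, 0, 0, 0], [2, -1, 0, 0, 0, -1, 0], [-1, 2, -1, 0, 0, 0, 0], [0, -1, 2, -1, 0, 0, 0], [0, 0, -1, 2, -1, 0, 0], [0, 0, 0, -1, 2, 4, -1]]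
  Q := [[0, 0, 0, 0, 0, 1, -2], [0, 0, 0, 0, 0, 2, -3], [1, 0, 0, 0, 0, 2, -4], [0, 1, 0, 0, 0, 4, -6], [0, 0, 1, 0, 0, 4, -5], [0, 0, 0, 1, 0, 4, -4], [0, 0, 0, 0, 1, 4, -3]]
  Q' := [[-2, 0, 1, 0, 0, 0, 0], [0, -2, 0, 1, 0, 0, 0], [2, -3, 0, 0, 1, 0, 0], [4, -4, 0, 0, 0, 1, 0], [6, -5, 0, 0, 0, 0, 1], [-3, 2, 0, 0, 0, 0, 0], [-2, 1, 0, 0, 0, 0, 0]]
  d := [1, 1, 1, 1, 1, 1, 2]

set_option maxRecDepth 100000 in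
theorem certOK_E7 : CertOK chevE7 certE7 := by
  refine ⟨?_, ?_, ?_, ?_⟩ <;> decide +kernel

/-- the certificate for type E8 -/
def certE8 : TorusCert where
  P := [[-1, 0, 0, 0, 0, 0, 0, 0], [0, -1, 0, 0, 0, 0, 0, 0], [1, -2, 0, -1, 0, 0, 0, 0], [2, -3, 0, -2, -1, 0, 0, 0], [3, -4, 0, -3, -2, -1, 0, 0], [4, -5, 0, -4, -3, -2, -1, 0], [-2, 1, -1, 0, 0, 0, 0, 0], [-3, -2, -4, -5, -4, -3, -2, -1]]
  P' := [[-1, 0, 0, 0, 0, 0, 0, 0], [0, -1, 0, 0, 0, 0, 0, 0], [2, -1, 0, 0, 0, 0, -1, 0], [-1, 2, -1, 0, 0, 0, 0, 0], [0, -1, 2, -1, 0, 0, 0, 0], [0, 0, -1, 2, -1, 0, 0, 0], [0, 0, 0, -1, 2, -1, 0, 0], [0, 0, 0, 0, -1, 2, 4, -1]]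
  Q := [[0, 0, 0, 0, 0, 0, 1, -2], [0, 0, 0, 0, 0, 0, 2, -3], [1, 0, 0, 0, 0, 0, 2, -4], [0, 1, 0, 0, 0, 0, 4, -6], [0, 0, 1, 0, 0, 0, 4, -5], [0, 0, 0, 1, 0, 0, 4, -4], [0, 0, 0, 0, 1, 0, 4, -3], [0, 0, 0, 0, 0, 1, 4, -2]]
  Q' := [[-2, 0, 1, 0, 0, 0, 0, 0], [0, -2, 0, 1, 0, 0, 0, 0], [2, -3, 0, 0, 1, 0, 0, 0], [4, -4, 0, 0, 0, 1, 0, 0], [6, -5, 0, 0, 0, 0, 1, 0], [8, -6, 0, 0, 0, 0, 0, 1], [-3, 2, 0, 0, 0, 0, 0, 0], [-2, 1, 0, 0, 0, 0, 0, 0]]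
  d := [1, 1, 1, 1, 1, 1, 1, 1]

set_option maxRecDepth 100000 in
theorem certOK_E8 : CertOK chevE8 certE8 := by
  refine ⟨?_, ?_, ?_, ?_⟩ <;> decide +kernel

end Cfsg.Agent.Helper18
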