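import Cfsg.Prelude.Def_ChevStructure

/-!
Helper18: a kernel-evaluable calculus for words in root elements of a `ChevalleyDatum`.

* `Poly`: integer polynomials in three variables as lists of monomials, with evaluation `peval`.
* `SVec`: sparse column vectors (lists of (index code, polynomial)), with evaluation `vec`.
* `xCol D r t j`: the column `j` of `x_r(t)` (with `t` a polynomial), mirroring `D.xMat`.
* `applyWord`: the action of a word in root elements on a sparse vector.
* soundness: `applyWord_spec`.
-/

set_option autoImplicit false

namespace Cfsg.Agent.Helper18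

open Cfsg Cfsg.Lie

/-- exponent triple -/
abbrev Expo := ℕ × ℕ × ℕ
/-- polynomials in three variables with integer coefficients: list of (coefficient, exponents) -/
abbrev Poly := List (ℤ × Expo)

/-- lexicographic comparison of exponent triples -/
def expoLt (k k' : Expo) : Bool :=
  k.1 < k'.1 || (k.1 == k'.1 && (k.2.1 < k'.2.1 || (k.2.1 == k'.2.1 && k.2.2 < k'.2.2)))

/-- add the monomial `c * X^k` to a polynomial -/
def pinsert (c : ℤ) (k : Expo) : Poly → Poly
  | [] => if c = 0 then [] else [(c, k)]
  | (c', k') :: rest =>
    if k = k' then (if c + c' = 0 then rest else (c + c', k') :: rest)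
    else if expoLt k k' then (if c = 0 then (c', k') :: rest else (c, k) :: (c', k') :: rest)
    else (c', k') :: pinsert c k rest

/-- sum of polynomials -/
def padd (p q : Poly) : Poly := p.foldr (fun m acc => pinsert m.1 m.2 acc) q

/-- multiply a polynomial by the monomial `c * X^k` -/
def pscale (c : ℤ) (k : Expo) (q : Poly) : Poly :=
  q.map fun m => (c * m.1, (k.1 + m.2.1, k.2.1 + m.2.2.1, k.2.2 + m.2.2.2))

/-- product of polynomials -/
def pmul (p q : Poly) : Poly := p.foldr (fun m acc => padd (pscale m.1 m.2 q) acc) []

/-- constant polynomial -/
def pconst (c : ℤ) : Poly := if c = 0 then [] else [(c, (0, 0, 0))]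

/-- powers -/
def ppow (p : Poly) : ℕ → Poly
  | 0 => pconst 1
  | n + 1 => pmul p (ppow p n)

/-- the variables -/
def pX : Poly := [(1, (1, 0, 0))]
def pY : Poly := [(1, (0, 1, 0))]
def pZ : Poly := [(1, (0, 0, 1))]

/-- reduce a monomial modulo `X * Y = 1` -/
def mreduce (k : Expo) : Expo := (k.1 - min k.1 k.2.1, k.2.1 - min k.1 k.2.1, k.2.2)

/-- reduce a polynomial modulo `X * Y = 1` (and normalise it) -/
def preduce (p : Poly) : Poly := p.foldr (fun m acc => pinsert m.1 (mreduce m.2) acc) []

section Eval

variable {F : Type*} [Field F] (x y z : F)

/-- value of a monomial -/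
def eeval (k : Expo) : F := x ^ k.1 * y ^ k.2.1 * z ^ k.2.2

/-- value of a polynomial -/
def peval (p : Poly) : F := (p.map fun m => (m.1 : F) * eeval x y z m.2).sum

@[simp] theorem peval_nil : peval x y z [] = 0 := rfl

@[simp] theorem peval_cons (m : ℤ × Expo) (p : Poly) :
    peval x y z (m :: p) = (m.1 : F) * eeval x y z m.2 + peval x y z p := by
  simp [peval]

theorem peval_pinsert (c : ℤ) (k : Expo) (p : Poly) :
    peval x y z (pinsert c k p) = (c : F) * eeval x y z k + peval x y z p := by
  induction p with
  | nil =>
    simp only [pinsert]
    split_ifs with h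
    · simp [h]
    · simp
  | cons m p ih =>
    obtain ⟨c', k'⟩ := m
    simp only [pinsert]
    split_ifs with h1 h2 h3 h4
    · subst h1
      have h : ((c + c' : ℤ) : F) = 0 := by rw [h2]; simp
      push_cast at h
      simp only [peval_cons]
      linear_combination (-(eeval x y z k)) * h
    · subst h1
      simp only [peval_cons]
      push_cast
      ring
    · subst h4
      simp
    · simp
    · simp only [peval_cons, ih]
      ring

theorem peval_padd (p q : Poly) : peval x y z (padd p q) = peval x y z p + peval x y z q := by
  induction p with
  | nil => simp [padd]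
  | cons m p ih =>
    have : padd (m :: p) q = pinsert m.1 m.2 (padd p q) := rfl
    rw [this, peval_pinsert, ih, peval_cons]
    ring

theorem eeval_add (k k' : Expo) :
    eeval x y z (k.1 + k'.1, k.2.1 + k'.2.1, k.2.2 + k'.2.2) = eeval x y z k * eeval x y z k' := by
  simp only [eeval, pow_add]
  ring

theorem peval_pscale (c : ℤ) (k : Expo) (q : Poly) :
    peval x y z (pscale c k q) = (c : F) * eeval x y z k * peval x y z q := by
  induction q with
  | nil => simp [pscale]
  | cons m q ih =>
    have : pscale c k (m :: q) = (c * m.1, (k.1 + m.2.1, k.2.1 + m.2.2.1, k.2.2 + m.2.2.2)) :: pscale c k q := rfl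
    rw [this, peval_cons, ih, peval_cons, eeval_add]
    push_cast
    ring

theorem peval_pmul (p q : Poly) : peval x y z (pmul p q) = peval x y z p * peval x y z q := by
  induction p with
  | nil => simp [pmul]
  | cons m p ih =>
    have : pmul (m :: p) q = padd (pscale m.1 m.2 q) (pmul p q) := rfl
    rw [this, peval_padd, peval_pscale, ih, peval_cons]
    ring

@[simp] theorem peval_pconst (c : ℤ) : peval x y z (pconst c) = (c : F) := by
  unfold pconst
  split_ifs with h
  · simp [h]
  · simp [eeval]

theorem peval_ppow (p : Poly) (n : ℕ) : peval x y z (ppow p n) = peval x y z p ^ n := by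
  induction n with
  | zero => simp [ppow]
  | succ n ih => simp [ppow, peval_pmul, ih, pow_succ']

@[simp] theorem peval_pX : peval x y z pX = x := by simp [pX, eeval]
@[simp] theorem peval_pY : peval x y z pY = y := by simp [pY, eeval]
@[simp] theorem peval_pZ : peval x y z pZ = z := by simp [pZ, eeval]

theorem eeval_mreduce (hxy : x * y = 1) (k : Expo) : eeval x y z (mreduce k) = eeval x y z k := by
  obtain ⟨a, b, c⟩ := k
  simp only [eeval, mreduce]
  obtain ⟨a', ha⟩ : ∃ a', a = a' + min a b := ⟨a - min a b, by omega⟩
  obtain ⟨b', hb⟩ : ∃ b', b = b' + min a b := ⟨b - min a b, by omega⟩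
  generalize min a b = m at ha hb
  subst ha hb
  simp only [Nat.add_sub_cancel]
  rw [pow_add, pow_add]
  have : x ^ m * y ^ m = 1 := by rw [← mul_pow, hxy, one_pow]
  linear_combination (-(x ^ a' * y ^ b' * z ^ c)) * this

theorem peval_preduce (hxy : x * y = 1) (p : Poly) : peval x y z (preduce p) = peval x y z p := by
  induction p with
  | nil => rfl
  | cons m p ih =>
    have : preduce (m :: p) = pinsert m.1 (mreduce m.2) (preduce p) := rfl
    rw [this, peval_pinsert, ih, peval_cons, eeval_mreduce x y z hxy]

end Eval

/-! ### Sparse vectors -/

/-- sparse vectors: list of (index code, entry) -/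
abbrev SVec := List (ℕ × Poly)

/-- add `p` at position `i` -/
def vinsert (i : ℕ) (p : Poly) : SVec → SVec
  | [] => (match p with | [] => [] | _ => [(i, p)])
  | (i', p') :: rest =>
    if i = i' then (match padd p p' with | [] => rest | q => (i', q) :: rest)
    else if i < i' then (match p with | [] => (i', p') :: rest | _ => (i, p) :: (i', p') :: rest)
    else (i', p') :: vinsert i p rest

/-- reduce all entries modulo `X * Y = 1` -/
def vreduce (v : SVec) : SVec := v.foldr (fun ip acc => vinsert ip.1 (preduce ip.2) acc) []

section EvalVec

variable {F : Type*} [Field F] (x y z : F)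

/-- the (dense) vector, indexed by codes, of a sparse vector -/
def vec (v : SVec) : ℕ → F := fun i => (v.map fun e => if e.1 = i then peval x y z e.2 else 0).sum

@[simp] theorem vec_nil (k : ℕ) : vec x y z [] k = 0 := rfl

@[simp] theorem vec_cons (e : ℕ × Poly) (v : SVec) (k : ℕ) :
    vec x y z (e :: v) k = (if e.1 = k then peval x y z e.2 else 0) + vec x y z v k := by
  simp [vec]

theorem vec_vinsert (i : ℕ) (p : Poly) (v : SVec) (k : ℕ) :
    vec x y z (vinsert i p v) k = (if i = k then peval x y z p else 0) + vec x y z v k := by
  induction v with
  | nil =>
    cases p with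
    | nil => simp [vinsert]
    | cons m p => simp [vinsert]
  | cons e v ih =>
    obtain ⟨i', p'⟩ := e
    simp only [vinsert]
    by_cases h1 : i = i'
    · rw [if_pos h1]
      subst h1
      have hq : peval x y z (padd p p') = peval x y z p + peval x y z p' := peval_padd x y z p p'
      generalize padd p p' = q at hq
      cases q with
      | nil =>
        simp only [vec_cons]
        simp only [peval_nil] at hq
        by_cases h : i = k
        · simp only [if_pos h]
          linear_combination hq
        · simp [h]
      | cons m q =>
        simp only [vec_cons]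
        by_cases h : i = k
        · simp only [if_pos h]
          rw [hq]; ring
        · simp [h]
    · rw [if_neg h1]
      by_cases h2 : i < i'
      · rw [if_pos h2]
        cases p with
        | nil => simp
        | cons m p => simp
      · rw [if_neg h2]
        simp only [vec_cons, ih]
        ring

theorem vec_vreduce (hxy : x * y = 1) (v : SVec) (k : ℕ) : vec x y z (vreduce v) k = vec x y z v k := by
  induction v with
  | nil => rfl
  | cons e v ih =>
    have : vreduce (e :: v) = vinsert e.1 (preduce e.2) (vreduce v) := rfl
    rw [this, vec_vinsert, ih, vec_cons, peval_preduce x y z hxy]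

end EvalVec

/-! ### Columns of root elements -/

/-- (target root u, power k, coefficient m) for column `s` of `x_r(t)`. -/
def colEntries (D : ChevalleyDatum) (r s : ℕ) : List (ℕ × ℕ × ℤ) :=
  ((D.chain.getD r #[]).toList.filter (fun e => e.1 = s)).flatMap fun e =>
    (e.2.toList.zipIdx).map fun q => (q.1.1, q.2 + 1, q.1.2)

/-- the column with code `j` of `x_r(t)`, `t` a polynomial -/
def xCol (D : ChevalleyDatum) (r : ℕ) (t : Poly) (j : ℕ) : SVec :=
  if r < D.nroots then
    if j < D.rank then
      [(j, pconst 1), (D.rank + r, pmul (pconst (- ((D.cartanSR.getD j #[]).getD r 0))) t)]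
    else
      if j - D.rank < D.nroots then
        if j - D.rank = r then [(j, pconst 1)]
        else if j - D.rank = D.negIdx.getD r 0 then
          ((List.range D.rank).map fun i => (i, pmul (pconst ((D.coroot.getD r #[]).getD i 0)) t)) ++
            [(j, pconst 1), (D.rank + r, pmul (pconst (-1)) (pmul t t))]
        else
          (j, pconst 1) :: (colEntries D r (j - D.rank)).map fun e =>
            (D.rank + e.1, pmul (pconst e.2.2) (ppow t e.2.1))
      else []
  else [(j, pconst 1)]

/-- apply `x_r(t)` to a sparse vector -/
def applyX (D : ChevalleyDatum) (r : ℕ) (t : Poly) (v : SVec) : SVec :=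
  v.foldr (fun jp acc => (xCol D r t jp.1).foldr (fun iq acc' => vinsert iq.1 (pmul jp.2 iq.2) acc') acc) []

/-- apply a word in root elements to a sparse vector -/
def applyWord (D : ChevalleyDatum) : List (ℕ × Poly) → SVec → SVec
  | [], v => v
  | (r, t) :: w, v => applyX D r t (applyWord D w v)

/-- the code of an index -/
def code (D : ChevalleyDatum) : D.Idx → ℕ := Sum.elim (fun a => a.val) (fun s => D.rank + s.val)

theorem code_injective (D : ChevalleyDatum) : Function.Injective (code D) := by
  rintro (a | s) (b | u) h <;> simp only [code, Sum.elim_inl, Sum.elim_inr] at h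
  · exact congrArg _ (Fin.ext h)
  · have := a.2; omega
  · have := b.2; omega
  · exact congrArg _ (Fin.ext (by omega))

theorem code_lt (D : ChevalleyDatum) (j : D.Idx) : code D j < D.rank + D.nroots := by
  rcases j with a | s <;> simp only [code, Sum.elim_inl, Sum.elim_inr]
  · have := a.2; omega
  · have := s.2; omega

theorem exists_code_eq (D : ChevalleyDatum) {c : ℕ} (hc : c < D.rank + D.nroots) : ∃ j : D.Idx, code D j = c := by
  by_cases h : c < D.rank
  · exact ⟨Sum.inl ⟨c, h⟩, rfl⟩
  · exact ⟨Sum.inr ⟨c - D.rank, by omega⟩, by simp only [code, Sum.elim_inr]; omega⟩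

section Spec

variable {F : Type*} [Field F] (x y z : F)

theorem sum_chainCoeff (D : ChevalleyDatum) (r s u : ℕ) (τ : F) :
    ((D.chainCoeff r s u).map fun km => ((km.2 : ℤ) : F) * τ ^ km.1).sum =
      ((colEntries D r s).map fun e => if e.1 = u then ((e.2.2 : ℤ) : F) * τ ^ e.2.1 else 0).sum := by
  unfold ChevalleyDatum.chainCoeff colEntries
  generalize ((D.chain.getD r #[]).toList.filter fun e => decide (e.1 = s)) = L
  induction L with
  | nil => rfl
  | cons e L ih =>
    simp only [List.flatMap_cons, List.map_append, List.sum_append, ih]
    congr 1
    generalize e.2.toList.zipIdx = Z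
    induction Z with
    | nil => rfl
    | cons q Z ihz =>
      simp only [List.filter_cons, List.map_cons, List.sum_cons, ← ihz]
      by_cases h : q.1.1 = u
      · simp [h]
      · simp [h]

theorem vec_map_range (D : ChevalleyDatum) (f : ℕ → Poly) (k : ℕ) :
    vec x y z ((List.range D.rank).map fun i => (i, f i)) k = if k < D.rank then peval x y z (f k) else 0 := by
  generalize D.rank = n
  induction n with
  | zero => simp
  | succ n ih =>
    rw [List.range_succ, List.map_append]
    have happ : ∀ (l l' : SVec), vec x y z (l ++ l') k = vec x y z l k + vec x y z l' k := by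
      intro l l'
      simp [vec, List.map_append, List.sum_append]
    rw [happ, ih]
    simp only [List.map_cons, List.map_nil, vec_cons, vec_nil, add_zero]
    by_cases h1 : k < n
    · have h2 : n ≠ k := by omega
      have h3 : k < n + 1 := by omega
      simp [h1, h2, h3]
    · by_cases h2 : n = k
      · subst h2
        simp
      · have h3 : ¬ k < n + 1 := by omega
        simp [h1, h2, h3]

theorem vec_append (l l' : SVec) (k : ℕ) : vec x y z (l ++ l') k = vec x y z l k + vec x y z l' k := by
  simp [vec, List.map_append, List.sum_append]

theorem xCol_spec (D : ChevalleyDatum) (r : ℕ) (t : Poly) (i j : D.Idx) :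
    vec x y z (xCol D r t (code D j)) (code D i) = D.x F r (peval x y z t) i j := by
  unfold xCol ChevalleyDatum.x
  by_cases hr : r < D.nroots
  · rw [if_pos hr, dif_pos hr]
    rcases j with a | s
    · -- column h_a
      have ha : code D (Sum.inl a) < D.rank := a.2
      rw [if_pos ha]
      simp only [ChevalleyDatum.xMat, Matrix.of_apply]
      rcases i with a' | u
      · simp only [code, Sum.elim_inl, vec_cons, vec_nil, peval_pconst, peval_pmul]
        have h2 : ¬ (D.rank + r = a'.val) := by have := a'.2; omega
        simp only [if_neg h2, Fin.val_inj, add_zero]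
        by_cases h : a = a'
        · subst h; simp
        · have h' : ¬ a' = a := fun e => h e.symm
          simp [h, h']
      · simp only [code, Sum.elim_inl, Sum.elim_inr, vec_cons, vec_nil, peval_pconst, peval_pmul]
        have h2 : ¬ (a.val = D.rank + u.val) := by have := a.2; omega
        simp only [if_neg h2, add_zero, zero_add]
        by_cases h : u = (⟨r, hr⟩ : Fin D.nroots)
        · have h3 : D.rank + r = D.rank + u.val := by rw [h]
          rw [if_pos h3, if_pos h]
          simp
        · have h3 : ¬ (D.rank + r = D.rank + u.val) := by
            intro e; apply h; ext; simp only; omega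
          rw [if_neg h3, if_neg h]
    · -- column e_s
      have hs1 : ¬ code D (Sum.inr s) < D.rank := by simp [code]
      have hs2 : code D (Sum.inr s) - D.rank = s.val := by simp [code]
      rw [if_neg hs1, hs2, if_pos s.2]
      simp only [ChevalleyDatum.xMat, Matrix.of_apply]
      by_cases h1 : s = (⟨r, hr⟩ : Fin D.nroots)
      · have h1' : s.val = r := by rw [h1]
        rw [if_pos h1', if_pos h1]
        rcases i with a' | u
        · simp only [code, Sum.elim_inl, Sum.elim_inr, vec_cons, vec_nil, peval_pconst]
          have h2 : ¬ (D.rank + s.val = a'.val) := by have := a'.2; omega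
          rw [if_neg h2]; simp
        · simp only [code, Sum.elim_inr, vec_cons, vec_nil, peval_pconst, add_zero]
          by_cases h : u = (⟨r, hr⟩ : Fin D.nroots)
          · have h3 : D.rank + s.val = D.rank + u.val := by rw [h1, h]
            rw [if_pos h3, if_pos h]
            simp
          · have h3 : ¬ (D.rank + s.val = D.rank + u.val) := by
              intro e; apply h; rw [← h1]; ext; omega
            rw [if_neg h3, if_neg h]
      · have h1' : ¬ s.val = r := by intro e; apply h1; ext; exact e
        rw [if_neg h1', if_neg h1]
        by_cases h2 : s.val = D.negIdx.getD r 0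
        · rw [if_pos h2, if_pos h2]
          rcases i with a' | u
          · simp only [code, Sum.elim_inl, Sum.elim_inr, vec_append, vec_map_range, vec_cons, vec_nil,
              peval_pconst, peval_pmul]
            have h3 : ¬ (D.rank + s.val = a'.val) := by have := a'.2; omega
            have h4 : ¬ (D.rank + r = a'.val) := by have := a'.2; omega
            rw [if_neg h3, if_neg h4, if_pos a'.2]
            simp
          · simp only [code, Sum.elim_inr, vec_append, vec_map_range, vec_cons, vec_nil,
              peval_pconst, peval_pmul]
            have h3 : ¬ (D.rank + u.val < D.rank) := by omega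
            simp only [if_neg h3, zero_add, add_zero]
            by_cases h4 : u = s
            · have h4' : D.rank + s.val = D.rank + u.val := by rw [h4]
              have h5 : ¬ (D.rank + r = D.rank + u.val) := by rw [h4]; omega
              rw [if_pos h4', if_neg h5, if_pos h4]
              simp
            · have h5 : ¬ (D.rank + s.val = D.rank + u.val) := by
                intro e; apply h4; ext; omega
              rw [if_neg h5, if_neg h4]
              by_cases h6 : u = (⟨r, hr⟩ : Fin D.nroots)
              · have h7 : D.rank + r = D.rank + u.val := by rw [h6]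
                rw [if_pos h7, if_pos h6]
                simp [pow_two]
              · have h7 : ¬ (D.rank + r = D.rank + u.val) := by
                  intro e; apply h6; ext; simp only; omega
                rw [if_neg h7, if_neg h6]
                simp
        · rw [if_neg h2, if_neg h2]
          rcases i with a' | u
          · simp only [code, Sum.elim_inl, Sum.elim_inr, vec_cons, peval_pconst]
            have h3 : ¬ (D.rank + s.val = a'.val) := by have := a'.2; omega
            rw [if_neg h3, zero_add]
            generalize colEntries D r s.val = L
            induction L with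
            | nil => rfl
            | cons e L ih =>
              simp only [List.map_cons, vec_cons, ih]
              have h4 : ¬ (D.rank + e.1 = a'.val) := by have := a'.2; omega
              rw [if_neg h4]; simp
          · simp only [code, Sum.elim_inr, vec_cons, peval_pconst]
            rw [sum_chainCoeff]
            congr 1
            · by_cases h4 : u = s
              · have h4' : D.rank + s.val = D.rank + u.val := by rw [h4]
                rw [if_pos h4', if_pos h4]; simp
              · have h5 : ¬ (D.rank + s.val = D.rank + u.val) := by
                  intro e; apply h4; ext; omega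
                rw [if_neg h5, if_neg h4]
            · generalize colEntries D r s.val = L
              induction L with
              | nil => rfl
              | cons e L ih =>
                simp only [List.map_cons, vec_cons, ih, List.sum_cons, peval_pmul, peval_pconst, peval_ppow]
                congr 1
                by_cases h6 : e.1 = u.val
                · have h7 : D.rank + e.1 = D.rank + u.val := by omega
                  rw [if_pos h7, if_pos h6]
                · have h7 : ¬ (D.rank + e.1 = D.rank + u.val) := by omega
                  rw [if_neg h7, if_neg h6]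
  · rw [if_neg hr, dif_neg hr]
    simp only [vec_cons, vec_nil, peval_pconst, add_zero, Matrix.one_apply]
    by_cases h : i = j
    · subst h; simp
    · have h' : ¬ code D j = code D i := fun e => h (code_injective D e).symm
      rw [if_neg h', if_neg h]

/-- the dense vector indexed by `D.Idx` -/
def vecD (D : ChevalleyDatum) (v : SVec) : D.Idx → F := fun j => vec x y z v (code D j)

theorem vec_foldr_vinsert (p : Poly) (l : SVec) (acc : SVec) (k : ℕ) :
    vec x y z (l.foldr (fun iq acc' => vinsert iq.1 (pmul p iq.2) acc') acc) k =
      peval x y z p * vec x y z l k + vec x y z acc k := by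
  induction l with
  | nil => simp
  | cons e l ih =>
    simp only [List.foldr_cons, vec_vinsert, ih, vec_cons, peval_pmul]
    split_ifs <;> ring

theorem vecD_cons (D : ChevalleyDatum) (c : ℕ) (p : Poly) (v : SVec) :
    vecD x y z D ((c, p) :: v) = (fun j => if c = code D j then peval x y z p else 0) + vecD x y z D v := by
  funext j
  simp [vecD]

theorem applyX_spec (D : ChevalleyDatum) (r : ℕ) (t : Poly) (v : SVec) :
    vecD x y z D (applyX D r t v) = (D.x F r (peval x y z t)).mulVec (vecD x y z D v) := by
  induction v with
  | nil =>
    funext i
    simp [applyX, vecD, Matrix.mulVec, dotProduct]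
  | cons e v ih =>
    obtain ⟨c, p⟩ := e
    have hstep : applyX D r t ((c, p) :: v) =
        (xCol D r t c).foldr (fun iq acc' => vinsert iq.1 (pmul p iq.2) acc') (applyX D r t v) := rfl
    rw [vecD_cons, Matrix.mulVec_add, ← ih]
    funext i
    have e1 : vecD x y z D (applyX D r t ((c, p) :: v)) i =
        peval x y z p * vec x y z (xCol D r t c) (code D i) + vecD x y z D (applyX D r t v) i := by
      simp only [vecD]
      rw [hstep, vec_foldr_vinsert]
    rw [e1, Pi.add_apply]
    congr 1
    simp only [Matrix.mulVec, dotProduct]
    by_cases hc : c < D.rank + D.nroots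
    · obtain ⟨j₀, rfl⟩ := exists_code_eq D hc
      rw [xCol_spec]
      rw [Finset.sum_eq_single j₀]
      · simp [mul_comm]
      · intro j _ hj
        have : ¬ code D j₀ = code D j := fun e => hj (code_injective D e).symm
        simp [this]
      · intro h; exact absurd (Finset.mem_univ _) h
    · have h0 : ∀ j : D.Idx, ¬ c = code D j := by
        intro j e
        exact hc (e ▸ code_lt D j)
      have : vec x y z (xCol D r t c) (code D i) = 0 := by
        unfold xCol
        by_cases hr : r < D.nroots
        · rw [if_pos hr]
          have h1 : ¬ c < D.rank := by omega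
          have h2 : ¬ c - D.rank < D.nroots := by omega
          rw [if_neg h1, if_neg h2]; rfl
        · rw [if_neg hr]
          simp [h0 i]
      rw [this, mul_zero]
      symm
      apply Finset.sum_eq_zero
      intro j _
      simp [h0 j]

theorem applyWord_spec (D : ChevalleyDatum) (w : List (ℕ × Poly)) (v : SVec) :
    vecD x y z D (applyWord D w v) =
      (D.wordMat F (w.map fun e => (e.1, peval x y z e.2))).mulVec (vecD x y z D v) := by
  induction w with
  | nil => simp [applyWord, ChevalleyDatum.wordMat]
  | cons e w ih =>
    obtain ⟨r, t⟩ := e
    have : applyWord D ((r, t) :: w) v = applyX D r t (applyWord D w v) := rfl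
    rw [this, applyX_spec, ih]
    simp only [ChevalleyDatum.wordMat, List.map_cons, List.prod_cons, Matrix.mulVec_mulVec]

theorem vecD_single (D : ChevalleyDatum) (j : D.Idx) (p : Poly) :
    vecD x y z D [(code D j, p)] = Pi.single j (peval x y z p) := by
  funext i
  simp only [vecD, vec_cons, vec_nil, add_zero, Pi.single_apply]
  by_cases h : i = j
  · subst h; simp
  · have : ¬ code D j = code D i := fun e => h (code_injective D e).symm
    simp [h, this]

theorem vecD_vreduce (hxy : x * y = 1) (D : ChevalleyDatum) (v : SVec) :
    vecD x y z D (vreduce v) = vecD x y z D v := by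
  funext i
  exact vec_vreduce x y z hxy v _

/-- Two matrices agree as soon as their columns do. -/
theorem matrix_ext_mulVec {n : Type*} [Fintype n] [DecidableEq n] (M N : Matrix n n F)
    (h : ∀ j, M.mulVec (Pi.single j 1) = N.mulVec (Pi.single j 1)) : M = N := by
  ext i j
  have := congrFun (h j) i
  simpa using this

end Spec

end Cfsg.Agent.Helper18
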