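import Cfsg.Agent.Helper18.ChevCalc

/-!
Helper18: `h_r(t)` is a diagonal matrix, by a kernel-evaluated check (slow path: one sparse computation per column).
-/

set_option autoImplicit false

namespace Cfsg.Agent.Helper18

open Cfsg Cfsg.Lie

/-- the integer `2(r,s)/(r,r)` read off the tables -/
def pairing' (D : ChevalleyDatum) (r s : ℕ) : ℤ :=
  ((List.range D.rank).map fun i => (D.coroot.getD r #[]).getD i 0 * (D.cartanSR.getD i #[]).getD s 0).sum

/-- the weight of the coordinate with code `j` under `h_r` -/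
def wt (D : ChevalleyDatum) (r j : ℕ) : ℤ := if j < D.rank then 0 else pairing' D r (j - D.rank)

/-- `X ^ A` for an integer `A`, using `Y = X⁻¹` -/
def zpowPoly (A : ℤ) : Poly := if 0 ≤ A then [(1, (A.toNat, 0, 0))] else [(1, (0, (-A).toNat, 0))]

/-- the word `h_r(X)` with `Y = X⁻¹` -/
def hWordP (D : ChevalleyDatum) (r : ℕ) : List (ℕ × Poly) :=
  [(r, pX), (D.neg r, pmul (pconst (-1)) pY), (r, pX), (r, pconst (-1)), (D.neg r, pconst 1), (r, pconst (-1))]

/-- column `j` of `h_r(X)` is `X ^ wt` times the `j`-th basis vector -/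
def checkHcol (D : ChevalleyDatum) (r j : ℕ) : Bool :=
  decide (vreduce (applyWord D (hWordP D r) [(j, pconst 1)]) = [(j, zpowPoly (wt D r j))])

/-- all columns -/
def checkH (D : ChevalleyDatum) (r : ℕ) : Bool :=
  (List.range (D.rank + D.nroots)).all fun j => checkHcol D r j

section Sound

variable {F : Type*} [Field F]

theorem peval_zpowPoly (t : F) (ht : t ≠ 0) (z : F) (A : ℤ) : peval t t⁻¹ z (zpowPoly A) = t ^ A := by
  unfold zpowPoly
  split_ifs with h
  · obtain ⟨n, rfl⟩ := Int.eq_ofNat_of_zero_le h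
    simp [eeval]
  · obtain ⟨n, hn⟩ := Int.eq_ofNat_of_zero_le (by omega : 0 ≤ -A)
    have : A = -(n : ℤ) := by omega
    subst this
    simp [eeval]

theorem hWordP_eval (D : ChevalleyDatum) (r : ℕ) (t z : F) :
    ((hWordP D r).map fun e => (e.1, peval t t⁻¹ z e.2)) = D.hWord r t := by
  simp [hWordP, ChevalleyDatum.hWord, ChevalleyDatum.nWord, peval_pmul]

theorem hMat_mulVec_single (D : ChevalleyDatum) (r : ℕ) (j : D.Idx)
    (h : checkHcol D r (code D j) = true) (t : F) (ht : t ≠ 0) :
    (D.hMat F r t).mulVec (Pi.single j 1) = Pi.single j (t ^ wt D r (code D j)) := by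
  have hxy : t * t⁻¹ = 1 := mul_inv_cancel₀ ht
  unfold checkHcol at h
  have h' := of_decide_eq_true h
  have h1 := applyWord_spec t t⁻¹ (0 : F) D (hWordP D r) [(code D j, pconst 1)]
  rw [hWordP_eval, vecD_single, peval_pconst] at h1
  rw [← vecD_vreduce t t⁻¹ 0 hxy, h', vecD_single, peval_zpowPoly t ht] at h1
  rw [ChevalleyDatum.hMat]
  simpa using h1.symm

theorem hMat_eq_diagonal (D : ChevalleyDatum) (r : ℕ) (h : checkH D r = true) (t : F) (ht : t ≠ 0) :
    D.hMat F r t = Matrix.diagonal fun j => t ^ wt D r (code D j) := by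
  apply matrix_ext_mulVec
  intro j
  have hj : checkHcol D r (code D j) = true := by
    unfold checkH at h
    rw [List.all_eq_true] at h
    exact h _ (List.mem_range.mpr (code_lt D j))
  rw [hMat_mulVec_single D r j hj t ht]
  rw [Matrix.mulVec_single_one]
  funext i
  by_cases hij : j = i
  · subst hij; simp
  · have hji : ¬ i = j := fun e => hij e.symm
    simp [Matrix.diagonal_apply, Pi.single_apply, hij, hji]

end Sound

end Cfsg.Agent.Helper18
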