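import Cfsg.Agent.Helper18.WeylPermData

/-!
# The roots occurring in the commutator formula

An additive level function shows that the roots `i r + j s` of the commutator formula for `r = ± p` (`p` fundamental)
and `s` positive, `s ≠ p`, are again positive and different from `p`.
-/

set_option autoImplicit false

namespace Cfsg.Agent.Helper18

open Cfsg Cfsg.Lie

/-- an integer combination of the rows of the Cartan table -/
def lvlF (D : ChevalleyDatum) (m : List ℤ) (u : ℕ) : ℤ :=
  ((List.range D.rank).map fun j => m.getD j 0 * D.cartan j u).sum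

theorem isAdditiveAt_lvlF (D : ChevalleyDatum) (m : List ℤ) (s : ℕ)
    (h : ∀ i < D.rank, IsAdditiveAt D (D.cartan i) s) : IsAdditiveAt D (lvlF D m) s := by
  have hgen : ∀ (l : List ℕ), (∀ i ∈ l, i < D.rank) →
      IsAdditiveAt D (fun u => (l.map fun j => m.getD j 0 * D.cartan j u).sum) s := by
    intro l
    induction l with
    | nil =>
      intro _
      refine ⟨by simp, ?_⟩
      intro v u km _
      simp
    | cons a l ih =>
      intro hl
      obtain ⟨ih1, ih2⟩ := ih (fun i hi => hl i (List.mem_cons_of_mem _ hi))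
      obtain ⟨ha1, ha2⟩ := h a (hl a List.mem_cons_self)
      refine ⟨?_, ?_⟩
      · simp only [List.map_cons, List.sum_cons] at ih1 ⊢
        rw [ih1, ha1]
        ring
      · intro v u km hkm
        have e1 := ih2 v u km hkm
        have e2 := ha2 v u km hkm
        simp only [List.map_cons, List.sum_cons] at e1 ⊢
        rw [e1, e2]
        ring
  exact hgen _ (fun i hi => List.mem_range.mp hi)

/-- the same from the packed rows -/
def lvlFast (D : ChevalleyDatum) (m : List ℤ) (u : ℕ) : ℤ :=
  ((List.range D.rank).map fun j => m.getD j 0 * wP (packedRow D j) u).sum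

theorem lvlFast_eq (D : ChevalleyDatum) (h : addAllOK D = true) (m : List ℤ) (u : ℕ) (hu : u < D.nroots) :
    lvlFast D m u = lvlF D m u := by
  unfold lvlFast lvlF
  congr 1
  apply List.map_congr_left
  intro j hj
  unfold addAllOK at h
  rw [List.all_eq_true] at h
  rw [wP_packedRow D j (h j hj) u hu]

/-- the level function attached to `m` vanishes at `p_i`, is positive exactly at the positive roots other than `p_i` -/
def posLvlOK (D : ChevalleyDatum) (hlf i : ℕ) (m : List ℤ) : Bool :=
  decide (lvlFast D m (D.simple i) = 0) &&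
  (List.range D.nroots).all fun u =>
    if hlf ≤ u ∧ u ≠ D.simple i then decide (0 < lvlFast D m u) else decide (lvlFast D m u ≤ 0)

def posLvlAllOK (D : ChevalleyDatum) (hlf : ℕ) (ws : List (List ℤ)) : Bool :=
  (List.range D.rank).all fun i => posLvlOK D hlf i (ws.getD i [])

def lvlWeightsG2 : List (List ℤ) := [[1, 2], [2, 3]]
def lvlWeightsB2 : List (List ℤ) := [[1, 2], [1, 1]]
def lvlWeightsD4 : List (List ℤ) := [[4, 8, 5, 5], [2, 3, 2, 2], [5, 8, 4, 5], [5, 8, 5, 4]]
def lvlWeightsF4 : List (List ℤ) := [[6, 12, 17, 9], [5, 9, 13, 7], [6, 11, 15, 8], [7, 13, 18, 9]]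
def lvlWeightsE6 : List (List ℤ) := [[20, 30, 40, 57, 41, 22], [7, 9, 13, 18, 13, 7], [19, 27, 35, 51, 37, 20],
  [6, 8, 11, 15, 11, 6], [20, 27, 37, 51, 35, 19], [22, 30, 41, 57, 40, 20]]
def lvlWeightsE7 : List (List ℤ) := [[30, 45, 60, 88, 69, 48, 25], [15, 21, 29, 42, 33, 23, 12],
  [28, 41, 54, 80, 63, 44, 23], [26, 37, 50, 72, 57, 40, 21], [14, 20, 27, 39, 30, 21, 11],
  [30, 43, 58, 84, 65, 44, 23], [16, 23, 31, 45, 35, 24, 12]]
def lvlWeightsE8 : List (List ℤ) := [[42, 63, 84, 125, 102, 78, 53, 27], [41, 60, 81, 120, 98, 75, 51, 26],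
  [39, 58, 77, 115, 94, 72, 49, 25], [36, 53, 71, 105, 86, 66, 45, 23], [38, 56, 75, 111, 90, 69, 47, 24],
  [40, 59, 79, 117, 95, 72, 49, 25], [42, 62, 83, 123, 100, 76, 51, 26], [44, 65, 87, 129, 105, 80, 54, 27]]

set_option maxRecDepth 100000 in
theorem posLvlOK_G2 : posLvlAllOK chevG2 (hlfOf chevG2) lvlWeightsG2 = true := by decide +kernel
set_option maxRecDepth 100000 in
theorem posLvlOK_B2 : posLvlAllOK chevB2 (hlfOf chevB2) lvlWeightsB2 = true := by decide +kernel
set_option maxRecDepth 100000 in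
theorem posLvlOK_D4 : posLvlAllOK chevD4 (hlfOf chevD4) lvlWeightsD4 = true := by decide +kernel
set_option maxRecDepth 100000 in
theorem posLvlOK_F4 : posLvlAllOK chevF4 (hlfOf chevF4) lvlWeightsF4 = true := by decide +kernel
set_option maxRecDepth 100000 in
theorem posLvlOK_E6 : posLvlAllOK chevE6 (hlfOf chevE6) lvlWeightsE6 = true := by decide +kernel
set_option maxRecDepth 100000 in
theorem posLvlOK_E7 : posLvlAllOK chevE7 (hlfOf chevE7) lvlWeightsE7 = true := by decide +kernel
set_option maxRecDepth 100000 in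
theorem posLvlOK_E8 : posLvlAllOK chevE8 (hlfOf chevE8) lvlWeightsE8 = true := by decide +kernel

end Cfsg.Agent.Helper18
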