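import Cfsg.Agent.Helper18.CommPos

/-!
# The roots occurring in the commutator formula (proofs)
-/

set_option autoImplicit false

namespace Cfsg.Agent.Helper18

open Cfsg Cfsg.Lie

theorem exists_lvlWeights (D : ChevalleyDatum) (hD : D ∈ [chevG2, chevB2, chevD4, chevF4, chevE6, chevE7, chevE8]) :
    ∃ ws : List (List ℤ), posLvlAllOK D (hlfOf D) ws = true := by
  simp only [List.mem_cons, List.not_mem_nil, or_false] at hD
  rcases hD with rfl | rfl | rfl | rfl | rfl | rfl | rfl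
  exacts [⟨_, posLvlOK_G2⟩, ⟨_, posLvlOK_B2⟩, ⟨_, posLvlOK_D4⟩, ⟨_, posLvlOK_F4⟩, ⟨_, posLvlOK_E6⟩,
    ⟨_, posLvlOK_E7⟩, ⟨_, posLvlOK_E8⟩]

/-- a level function for the fundamental root `p_i` -/
theorem exists_posLvl (D : ChevalleyDatum) (hD : D ∈ [chevG2, chevB2, chevD4, chevF4, chevE6, chevE7, chevE8])
    (i : ℕ) (hi : i < D.rank) :
    ∃ f : ℕ → ℤ, (∀ s < D.nroots, IsAdditiveAt D f s) ∧ f (D.simple i) = 0 ∧
      ∀ u < D.nroots, (0 < f u ↔ hlfOf D ≤ u ∧ u ≠ D.simple i) := by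
  obtain ⟨ws, hws⟩ := exists_lvlWeights D hD
  have hadd := addAllOK_of_mem D hD
  have hs := simpleOK_of_mem D hD
  unfold posLvlAllOK at hws
  rw [List.all_eq_true] at hws
  have h1 := hws i (List.mem_range.mpr hi)
  unfold posLvlOK at h1
  rw [Bool.and_eq_true, decide_eq_true_eq, List.all_eq_true] at h1
  obtain ⟨h0, hall⟩ := h1
  refine ⟨lvlF D (ws.getD i []), ?_, ?_, ?_⟩
  · intro s hs'
    apply isAdditiveAt_lvlF
    intro j hj
    unfold addAllOK at hadd
    rw [List.all_eq_true] at hadd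
    exact isAdditiveAt_cartan D j (hadd j (List.mem_range.mpr hj)) s hs'
  · rw [← lvlFast_eq D hadd _ _ (simple_lt D hs i hi)]
    exact h0
  · intro u hu
    have h2 := hall u (List.mem_range.mpr hu)
    rw [← lvlFast_eq D hadd _ _ hu]
    by_cases hc : hlfOf D ≤ u ∧ u ≠ D.simple i
    · rw [if_pos hc, decide_eq_true_eq] at h2
      exact ⟨fun _ => hc, fun _ => h2⟩
    · rw [if_neg hc, decide_eq_true_eq] at h2
      exact ⟨fun h => absurd h (by omega), fun h => absurd h hc⟩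

theorem chainRoot_some (D : ChevalleyDatum) (r s i u : ℕ) (hi : 1 ≤ i) (h : D.chainRoot r s i = some u) :
    ∃ M : ℤ, (i, M) ∈ D.chainCoeff r s u := by
  unfold ChevalleyDatum.chainRoot ChevalleyDatum.chainEntry at h
  cases hf : (D.chain.getD r #[]).toList.find? (fun e => e.1 = s) with
  | none =>
    rw [hf] at h
    simp at h
  | some e =>
    rw [hf] at h
    simp only [Option.map_eq_some_iff] at h
    obtain ⟨⟨u', M⟩, hq, rfl⟩ := h
    have hmem := List.mem_of_find?_eq_some hf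
    have hes := List.find?_some hf
    simp only [decide_eq_true_eq] at hes
    refine ⟨M, ?_⟩
    unfold ChevalleyDatum.chainCoeff
    simp only [List.mem_flatMap, List.mem_filter, List.mem_map, decide_eq_true_eq]
    refine ⟨e, ⟨hmem, hes⟩, ((u', M), i - 1), ⟨?_, rfl⟩, ?_⟩
    · rw [List.mem_zipIdx_iff_getElem?]
      simpa using hq
    · simp only [Prod.mk.injEq, and_true]
      omega

theorem chainCoeff_lt (D : ChevalleyDatum) (i : ℕ) (h : addOK D i = true) (r s u : ℕ) (hr : r < D.nroots)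
    (km : ℕ × ℤ) (hkm : km ∈ D.chainCoeff r s u) : u < D.nroots := by
  unfold addOK at h
  simp only [Bool.and_eq_true, decide_eq_true_eq, List.all_eq_true, List.mem_range] at h
  obtain ⟨-, hall⟩ := h
  obtain ⟨-, hch⟩ := hall r hr
  unfold ChevalleyDatum.chainCoeff at hkm
  simp only [List.mem_flatMap, List.mem_filter, List.mem_map, decide_eq_true_eq] at hkm
  obtain ⟨e, ⟨he, -⟩, q, ⟨hq, rfl⟩, -⟩ := hkm
  exact ((hch e he).2 q hq).1

section
variable (D : ChevalleyDatum) (hD : D ∈ [chevG2, chevB2, chevD4, chevF4, chevE6, chevE7, chevE8])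
include hD

theorem chain_step (f : ℕ → ℤ) (hf : ∀ v < D.nroots, IsAdditiveAt D f v) (r s i u : ℕ) (hr : r < D.nroots)
    (hi : 1 ≤ i) (h : D.chainRoot r s i = some u) : u < D.nroots ∧ f u = f s + (i : ℤ) * f r := by
  obtain ⟨M, hM⟩ := chainRoot_some D r s i u hi h
  have hadd := addAllOK_of_mem D hD
  unfold addAllOK at hadd
  rw [List.all_eq_true] at hadd
  have hrank : 0 < D.rank := by
    simp only [List.mem_cons, List.not_mem_nil, or_false] at hD
    rcases hD with rfl | rfl | rfl | rfl | rfl | rfl | rfl <;> decide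
  exact ⟨chainCoeff_lt D 0 (hadd 0 (List.mem_range.mpr hrank)) r s u hr _ hM, (hf r hr).2 s u _ hM⟩

/-- the level of the roots occurring in the commutator formula -/
theorem commTerms_lvl (f : ℕ → ℤ) (hf : ∀ v < D.nroots, IsAdditiveAt D f v) (r s : ℕ) (hr : r < D.nroots)
    (hs : s < D.nroots) (c : ℕ × ℤ × ℕ × ℕ) (hc : c ∈ D.commTerms r s) :
    c.1 < D.nroots ∧ f c.1 = (c.2.2.1 : ℤ) * f r + (c.2.2.2 : ℤ) * f s ∧ 1 ≤ c.2.2.1 ∧ 1 ≤ c.2.2.2 := by
  unfold ChevalleyDatum.commTerms at hc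
  simp only [List.mem_filterMap, List.mem_cons, List.not_mem_nil, or_false, Option.map_eq_some_iff] at hc
  obtain ⟨cand, hcand, k, hk, rfl⟩ := hc
  rcases hcand with rfl | rfl | rfl | rfl | rfl | rfl | rfl
  · obtain ⟨h1, h2⟩ := chain_step D hD f hf r s 1 k hr le_rfl hk
    refine ⟨h1, ?_, le_rfl, le_rfl⟩
    simp only [h2]; push_cast; ring
  · obtain ⟨h1, h2⟩ := chain_step D hD f hf r s 2 k hr (by norm_num) hk
    refine ⟨h1, ?_, by norm_num, le_rfl⟩
    simp only [h2]; push_cast; ring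
  · obtain ⟨h1, h2⟩ := chain_step D hD f hf s r 2 k hs (by norm_num) hk
    refine ⟨h1, ?_, le_rfl, by norm_num⟩
    simp only [h2]; push_cast; ring
  · obtain ⟨h1, h2⟩ := chain_step D hD f hf r s 3 k hr (by norm_num) hk
    refine ⟨h1, ?_, by norm_num, le_rfl⟩
    simp only [h2]; push_cast; ring
  · obtain ⟨h1, h2⟩ := chain_step D hD f hf s r 3 k hs (by norm_num) hk
    refine ⟨h1, ?_, le_rfl, by norm_num⟩
    simp only [h2]; push_cast; ring
  · simp only [Option.bind_eq_some_iff] at hk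
    obtain ⟨k', hk', hk⟩ := hk
    obtain ⟨h1', h2'⟩ := chain_step D hD f hf r s 3 k' hr (by norm_num) hk'
    obtain ⟨h1, h2⟩ := chain_step D hD f hf k' s 1 k h1' le_rfl hk
    refine ⟨h1, ?_, by norm_num, by norm_num⟩
    simp only [h2, h2']; push_cast; ring
  · simp only [Option.bind_eq_some_iff] at hk
    obtain ⟨k', hk', hk⟩ := hk
    obtain ⟨h1', h2'⟩ := chain_step D hD f hf s r 3 k' hs (by norm_num) hk'
    obtain ⟨h1, h2⟩ := chain_step D hD f hf k' r 1 k h1' le_rfl hk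
    refine ⟨h1, ?_, by norm_num, by norm_num⟩
    simp only [h2, h2']; push_cast; ring

/-- for `r = ± p` (`p = p_i` fundamental) and `s` positive, `s ≠ p`, the roots of the commutator formula are positive
and different from `p` -/
theorem commTerms_pos (i : ℕ) (hi : i < D.rank) (r s : ℕ) (hr : r = D.simple i ∨ r = D.neg (D.simple i))
    (hs : hlfOf D ≤ s ∧ s < D.nroots) (hsp : s ≠ D.simple i) (c : ℕ × ℤ × ℕ × ℕ) (hc : c ∈ D.commTerms r s) :
    hlfOf D ≤ c.1 ∧ c.1 < D.nroots ∧ c.1 ≠ D.simple i := by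
  obtain ⟨f, hf, hf0, hfpos⟩ := exists_posLvl D hD i hi
  have hpi := simple_lt D (simpleOK_of_mem D hD) i hi
  have hnpi := (triOK_spec D _ (triOK_of_mem D hD) _ hpi).1
  have hrlt : r < D.nroots := by rcases hr with rfl | rfl <;> assumption
  have hfr : f r = 0 := by
    rcases hr with rfl | rfl
    · exact hf0
    · rw [(hf _ hpi).1, hf0, neg_zero]
  obtain ⟨h1, h2, -, h4⟩ := commTerms_lvl D hD f hf r s hrlt hs.2 c hc
  have hfs : 0 < f s := (hfpos s hs.2).mpr ⟨hs.1, hsp⟩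
  have : 0 < f c.1 := by
    rw [h2, hfr, mul_zero, zero_add]
    have : (1 : ℤ) ≤ (c.2.2.2 : ℤ) := by exact_mod_cast h4
    positivity
  obtain ⟨h5, h6⟩ := (hfpos c.1 h1).mp this
  exact ⟨h5, h1, h6⟩

end

end Cfsg.Agent.Helper18
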