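import Cfsg.Agent.Helper18.DiagAll

/-!
Helper18: conjugation of root elements by the diagonal matrices `h_r(c)`:
`h_r(c) x_s(t) = x_s(c ^ <s, r^∨> t) h_r(c)` for all roots `r`, `s` of the seven tabulated types.
-/

set_option autoImplicit false

namespace Cfsg.Agent.Helper18

open Cfsg Cfsg.Lie

/-! ### Packed arrays of small natural numbers -/

/-- little-endian base-`B` packing -/
def packB (B : ℕ) : List ℕ → ℕ
  | [] => 0
  | a :: l => a + B * packB B l

/-- the `s`-th base-`B` digit -/
def getB (B W s : ℕ) : ℕ := W / B ^ s % B

theorem getB_packB (B : ℕ) (l : List ℕ) (hl : ∀ a ∈ l, a < B) (s : ℕ) (hs : s < l.length) :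
    getB B (packB B l) s = l[s] := by
  induction l generalizing s with
  | nil => simp at hs
  | cons a l ih =>
    have ha : a < B := hl a List.mem_cons_self
    have hB : 0 < B := by omega
    cases s with
    | zero =>
      simp only [getB, packB, pow_zero, Nat.div_one, List.getElem_cons_zero]
      rw [Nat.add_mul_mod_self_left, Nat.mod_eq_of_lt ha]
    | succ s =>
      simp only [List.getElem_cons_succ]
      rw [← ih (fun b hb => hl b (List.mem_cons_of_mem _ hb)) s (by simpa using hs)]
      simp only [getB, packB]
      congr 1
      rw [pow_succ, mul_comm (B ^ s) B, ← Nat.div_div_eq_div_mul]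
      congr 1
      rw [Nat.add_mul_div_left _ _ hB, Nat.div_eq_of_lt ha, zero_add]

/-- encode small integers as naturals below 16 -/
def encRow (row : List ℤ) : List ℕ := row.map fun a => (a + 8).toNat

/-- all entries lie in `[-8, 8)` -/
def rowOK (row : List ℤ) : Bool := row.all fun a => decide (-8 ≤ a) && decide (a < 8)

/-- decode the `u`-th entry of a packed row -/
def wP (W u : ℕ) : ℤ := (getB 16 W u : ℤ) - 8

theorem wP_pack (row : List ℤ) (hok : rowOK row = true) (u : ℕ) (hu : u < row.length) :
    wP (packB 16 (encRow row)) u = row[u] := by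
  unfold wP
  have h1 : ∀ a ∈ encRow row, a < 16 := by
    intro a ha
    unfold encRow at ha
    obtain ⟨b, hb, rfl⟩ := List.mem_map.mp ha
    unfold rowOK at hok
    rw [List.all_eq_true] at hok
    have := hok b hb
    simp only [Bool.and_eq_true, decide_eq_true_eq] at this
    omega
  have h2 : u < (encRow row).length := by simpa [encRow] using hu
  rw [getB_packB 16 _ h1 u h2]
  have h3 : (encRow row)[u] = (row[u] + 8).toNat := by
    simp [encRow]
  rw [h3]
  unfold rowOK at hok
  rw [List.all_eq_true] at hok
  have := hok row[u] (List.getElem_mem hu)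
  simp only [Bool.and_eq_true, decide_eq_true_eq] at this
  omega

section Conj
variable {F : Type*} [Field F]

/-- the diagonal matrix attached to a weight function on root indices -/
def wDiag (D : ChevalleyDatum) (F : Type*) [Field F] (w : ℕ → ℤ) (c : F) : Matrix D.Idx D.Idx F :=
  Matrix.diagonal (Sum.elim (fun _ => (1 : F)) (fun s : Fin D.nroots => c ^ w s.val))

/-- additivity of a weight function along the chains of the root `s` -/
def IsAdditiveAt (D : ChevalleyDatum) (w : ℕ → ℤ) (s : ℕ) : Prop :=
  w (D.neg s) = - w s ∧ ∀ v u : ℕ, ∀ km ∈ D.chainCoeff s v u, w u = w v + (km.1 : ℤ) * w s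

theorem wDiag_mul_x (D : ChevalleyDatum) (w : ℕ → ℤ) (s : ℕ) (hs : s < D.nroots)
    (hadd : IsAdditiveAt D w s) (c t : F) (hc : c ≠ 0) :
    wDiag D F w c * D.x F s t = D.x F s (c ^ w s * t) * wDiag D F w c := by
  obtain ⟨hneg, hch⟩ := hadd
  ext a b
  simp only [wDiag, Matrix.diagonal_mul, Matrix.mul_diagonal]
  unfold ChevalleyDatum.x
  rw [dif_pos hs, dif_pos hs]
  simp only [ChevalleyDatum.xMat, Matrix.of_apply]
  rcases b with i | v
  · rcases a with i' | u
    · simp only [Sum.elim_inl]
      ring
    · simp only [Sum.elim_inl, Sum.elim_inr]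
      split_ifs with h
      · rw [h]; simp only; ring
      · ring
  · simp only
    split_ifs with h1 h2
    · -- v = s
      rcases a with i' | u
      · simp
      · simp only [Sum.elim_inr]
        split_ifs with h
        · rw [h, h1]; ring
        · simp
    · -- v = neg s
      have hv : w v.val = - w s := by
        have : v.val = D.neg s := h2
        rw [this, hneg]
      rcases a with i' | u
      · simp only [Sum.elim_inl, Sum.elim_inr, hv, one_mul]
        rw [zpow_neg]
        field_simp
      · simp only [Sum.elim_inr]
        split_ifs with h3 h4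
        · rw [h3]; ring
        · have : w u.val = w s := by rw [h4]
          rw [this, hv, zpow_neg]
          field_simp
        · simp
    · rcases a with i' | u
      · simp
      · simp only [Sum.elim_inr]
        rw [mul_add, add_mul]
        congr 1
        · split_ifs with h
          · rw [h]; ring
          · simp
        · rw [← List.sum_map_mul_left, ← List.sum_map_mul_right]
          congr 1
          apply List.map_congr_left
          intro km hkm
          have := hch v.val u.val km hkm
          rw [this, zpow_add₀ hc, mul_pow, zpow_mul', zpow_natCast]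
          ring


end Conj

/-! ### Additivity of the rows of the Cartan table along chains -/

theorem toList_getElem_eq_getD (A : Array ℤ) (u : ℕ) (hu : u < A.size) (h' : u < A.toList.length) :
    A.toList[u] = A.getD u 0 := by
  simp [Array.getD_eq_getD_getElem?, hu]

/-- the packed `i`-th row of the Cartan table -/
def packedRow (D : ChevalleyDatum) (i : ℕ) : ℕ := packB 16 (encRow (D.cartanSR.getD i #[]).toList)

/-- the check: the `i`-th row of the Cartan table is additive along all chains -/
def addOK (D : ChevalleyDatum) (i : ℕ) : Bool :=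
  rowOK (D.cartanSR.getD i #[]).toList && decide ((D.cartanSR.getD i #[]).size = D.nroots) &&
  (List.range D.nroots).all fun s =>
    decide (D.neg s < D.nroots) && decide (wP (packedRow D i) (D.neg s) = - wP (packedRow D i) s) &&
    (D.chain.getD s #[]).toList.all fun e => decide (e.1 < D.nroots) &&
      e.2.toList.zipIdx.all fun q => decide (q.1.1 < D.nroots) &&
        decide (wP (packedRow D i) q.1.1 = wP (packedRow D i) e.1 + ((q.2 : ℤ) + 1) * wP (packedRow D i) s)

theorem isAdditiveAt_cartan (D : ChevalleyDatum) (i : ℕ) (h : addOK D i = true) (s : ℕ) (hs : s < D.nroots) :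
    IsAdditiveAt D (D.cartan i) s := by
  unfold addOK at h
  simp only [Bool.and_eq_true, decide_eq_true_eq, List.all_eq_true, List.mem_range] at h
  obtain ⟨⟨hok, hsz⟩, hall⟩ := h
  have hw : ∀ u < D.nroots, wP (packedRow D i) u = D.cartan i u := by
    intro u hu
    have hlen : (D.cartanSR.getD i #[]).toList.length = D.nroots := by rw [Array.length_toList]; exact hsz
    unfold packedRow
    rw [wP_pack _ hok u (by rw [hlen]; exact hu)]
    unfold ChevalleyDatum.cartan
    have hu' : u < (D.cartanSR.getD i #[]).size := by rw [hsz]; exact hu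
    exact toList_getElem_eq_getD _ u hu' _
  obtain ⟨⟨hns, hneg⟩, hch⟩ := hall s hs
  refine ⟨?_, ?_⟩
  · rw [← hw _ hns, ← hw s hs]; exact hneg
  · intro v u km hkm
    unfold ChevalleyDatum.chainCoeff at hkm
    simp only [List.mem_flatMap, List.mem_filter, List.mem_map, decide_eq_true_eq] at hkm
    obtain ⟨e, ⟨he, rfl⟩, q, ⟨hq, rfl⟩, rfl⟩ := hkm
    obtain ⟨he1, hq'⟩ := hch e he
    obtain ⟨hq1, hq2⟩ := hq' q hq
    rw [hw _ hq1, hw _ he1, hw s hs] at hq2
    rw [hq2]
    push_cast
    ring

/-- a linear combination of the rows is additive as well -/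
theorem isAdditiveAt_pairing' (D : ChevalleyDatum) (r s : ℕ)
    (h : ∀ i < D.rank, IsAdditiveAt D (D.cartan i) s) : IsAdditiveAt D (pairing' D r) s := by
  have hgen : ∀ (l : List ℕ), (∀ i ∈ l, i < D.rank) →
      IsAdditiveAt D (fun u => (l.map fun i => (D.coroot.getD r #[]).getD i 0 * (D.cartanSR.getD i #[]).getD u 0).sum) s := by
    intro l
    induction l with
    | nil =>
      intro _
      refine ⟨by simp, ?_⟩
      intro v u km _
      simp
    | cons a l ih =>
      intro hl
      obtain ⟨ih1, ih2⟩ := ih (fun i hi => hl i (List.mem_cons_of_mem _ hi))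
      obtain ⟨ha1, ha2⟩ := h a (hl a List.mem_cons_self)
      unfold ChevalleyDatum.cartan at ha1 ha2
      refine ⟨?_, ?_⟩
      · simp only [List.map_cons, List.sum_cons] at ih1 ⊢
        rw [ih1, ha1]
        ring
      · intro v u km hkm
        have e1 := ih2 v u km hkm
        have e2 := ha2 v u km hkm
        simp only [List.map_cons, List.sum_cons] at e1 ⊢
        rw [e1, e2]
        ring
  exact hgen _ (fun i hi => List.mem_range.mp hi)

/-- the check for all rows -/
def addAllOK (D : ChevalleyDatum) : Bool := (List.range D.rank).all fun i => addOK D i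

theorem isAdditiveAt_of_addAllOK (D : ChevalleyDatum) (h : addAllOK D = true) (r s : ℕ) (hs : s < D.nroots) :
    IsAdditiveAt D (pairing' D r) s := by
  apply isAdditiveAt_pairing'
  intro i hi
  unfold addAllOK at h
  rw [List.all_eq_true] at h
  exact isAdditiveAt_cartan D i (h i (List.mem_range.mpr hi)) s hs

section Conj2
variable {F : Type*} [Field F]

theorem hMat_eq_wDiag (D : ChevalleyDatum) (hD : D ∈ allData) (r : ℕ) (hr : r < D.nroots) (c : F) (hc : c ≠ 0) :
    D.hMat F r c = wDiag D F (pairing' D r) c := by
  rw [diagAll_of_mem D hD r hr c hc]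
  unfold wDiag
  congr 1
  funext j
  rcases j with a | s
  · have : code D (Sum.inl a) = a.val := rfl
    simp [wt, this, a.2]
  · have : code D (Sum.inr s) = D.rank + s.val := rfl
    simp only [wt, this, Sum.elim_inr]
    rw [if_neg (by omega)]
    congr 2
    omega

end Conj2

end Cfsg.Agent.Helper18
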