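import Cfsg.Agent.Helper18.DiagB2p0

/-! Helper18: `h_r(t)` is the diagonal matrix with entries `t ^ <s, r^∨>` for all roots of type B2. -/

set_option autoImplicit false

namespace Cfsg.Agent.Helper18

open Cfsg Cfsg.Lie

set_option maxRecDepth 100000 in
theorem negOK_B2 : negOK chevB2 4 = true := by decide +kernel

theorem diagAll_B2 : DiagAll chevB2 := by
  apply diagAll_of_checks chevB2 4 negOK_B2
  intro r hr
  exact forall_lt_of_checkPairs chevB2 0 4 diagB2_part0 r (by omega) (by omega)

end Cfsg.Agent.Helper18
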