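import Cfsg.Agent.Helper18.DiagD4p0

/-! Helper18: `h_r(t)` is the diagonal matrix with entries `t ^ <s, r^∨>` for all roots of type D4. -/

set_option autoImplicit false

namespace Cfsg.Agent.Helper18

open Cfsg Cfsg.Lie

set_option maxRecDepth 100000 in
theorem negOK_D4 : negOK chevD4 12 = true := by decide +kernel

theorem diagAll_D4 : DiagAll chevD4 := by
  apply diagAll_of_checks chevD4 12 negOK_D4
  intro r hr
  exact forall_lt_of_checkPairs chevD4 0 12 diagD4_part0 r (by omega) (by omega)

end Cfsg.Agent.Helper18
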