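import Cfsg.Agent.Helper18.DiagE6p0

/-! Helper18: `h_r(t)` is the diagonal matrix with entries `t ^ <s, r^∨>` for all roots of type E6. -/

set_option autoImplicit false

namespace Cfsg.Agent.Helper18

open Cfsg Cfsg.Lie

set_option maxRecDepth 100000 in
theorem negOK_E6 : negOK chevE6 36 = true := by decide +kernel

theorem diagAll_E6 : DiagAll chevE6 := by
  apply diagAll_of_checks chevE6 36 negOK_E6
  intro r hr
  exact forall_lt_of_checkPairs chevE6 0 36 diagE6_part0 r (by omega) (by omega)

end Cfsg.Agent.Helper18
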