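import Cfsg.Agent.Helper18.DiagE7p0
import Cfsg.Agent.Helper18.DiagE7p1

/-! Helper18: `h_r(t)` is the diagonal matrix with entries `t ^ <s, r^∨>` for all roots of type E7. -/

set_option autoImplicit false

namespace Cfsg.Agent.Helper18

open Cfsg Cfsg.Lie

set_option maxRecDepth 100000 in
theorem negOK_E7 : negOK chevE7 63 = true := by decide +kernel

theorem diagAll_E7 : DiagAll chevE7 := by
  apply diagAll_of_checks chevE7 63 negOK_E7
  intro r hr
  by_cases h0 : r < 31
  · exact forall_lt_of_checkPairs chevE7 0 31 diagE7_part0 r (by omega) (by omega)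
  exact forall_lt_of_checkPairs chevE7 31 32 diagE7_part1 r (by omega) (by omega)

end Cfsg.Agent.Helper18
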