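import Cfsg.Agent.Helper18.DiagCheck
import Cfsg.Prelude.Def_ChevE8

/-! Helper18: kernel-evaluated check that `h_r(t)` is diagonal, type E8, roots 30..59 and their negatives. -/

set_option autoImplicit false

namespace Cfsg.Agent.Helper18

open Cfsg Cfsg.Lie

set_option maxRecDepth 100000 in
theorem diagE8_part1 : checkPairs chevE8 30 30 = true := by decide +kernel

end Cfsg.Agent.Helper18
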