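import Cfsg.Agent.Helper18.DiagE8p0
import Cfsg.Agent.Helper18.DiagE8p1
import Cfsg.Agent.Helper18.DiagE8p2
import Cfsg.Agent.Helper18.DiagE8p3

/-! Helper18: `h_r(t)` is the diagonal matrix with entries `t ^ <s, r^∨>` for all roots of type E8. -/

set_option autoImplicit false

namespace Cfsg.Agent.Helper18

open Cfsg Cfsg.Lie

set_option maxRecDepth 100000 in
theorem negOK_E8 : negOK chevE8 120 = true := by decide +kernel

theorem diagAll_E8 : DiagAll chevE8 := by
  apply diagAll_of_checks chevE8 120 negOK_E8
  intro r hr
  by_cases h0 : r < 30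
  · exact forall_lt_of_checkPairs chevE8 0 30 diagE8_part0 r (by omega) (by omega)
  by_cases h1 : r < 60
  · exact forall_lt_of_checkPairs chevE8 30 30 diagE8_part1 r (by omega) (by omega)
  by_cases h2 : r < 90
  · exact forall_lt_of_checkPairs chevE8 60 30 diagE8_part2 r (by omega) (by omega)
  exact forall_lt_of_checkPairs chevE8 90 30 diagE8_part3 r (by omega) (by omega)

end Cfsg.Agent.Helper18
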