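import Cfsg.Agent.Helper18.DiagF4p0
import Cfsg.Agent.Helper18.DiagF4p1
import Cfsg.Agent.Helper18.DiagF4p2

/-! Helper18: `h_r(t)` is the diagonal matrix with entries `t ^ <s, r^∨>` for all roots of type F4. -/

set_option autoImplicit false

namespace Cfsg.Agent.Helper18

open Cfsg Cfsg.Lie

set_option maxRecDepth 100000 in
theorem negOK_F4 : negOK chevF4 24 = true := by decide +kernel

theorem diagAll_F4 : DiagAll chevF4 := by
  apply diagAll_of_checks chevF4 24 negOK_F4
  intro r hr
  by_cases h0 : r < 8
  · exact forall_lt_of_checkPairs chevF4 0 8 diagF4_part0 r (by omega) (by omega)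
  by_cases h1 : r < 16
  · exact forall_lt_of_checkPairs chevF4 8 8 diagF4_part1 r (by omega) (by omega)
  exact forall_lt_of_checkPairs chevF4 16 8 diagF4_part2 r (by omega) (by omega)

end Cfsg.Agent.Helper18
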