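import Cfsg.Agent.Helper18.DiagG2
import Cfsg.Agent.Helper18.DiagB2
import Cfsg.Agent.Helper18.DiagD4
import Cfsg.Agent.Helper18.DiagF4
import Cfsg.Agent.Helper18.DiagE6
import Cfsg.Agent.Helper18.DiagE7
import Cfsg.Agent.Helper18.DiagE8

/-!
Helper18: for all seven tabulated types, `h_r(t) = diag(1, …, 1; t ^ <s, r^∨>)` for every root `r` and `t ≠ 0`;
for a fundamental root `p_i` the exponents are the Cartan integers `A_{p_i, s}`.
-/

set_option autoImplicit false

namespace Cfsg.Agent.Helper18

open Cfsg Cfsg.Lie

/-- the seven tabulated data -/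
def allData : List ChevalleyDatum := [chevG2, chevB2, chevD4, chevF4, chevE6, chevE7, chevE8]

theorem diagAll_of_mem (D : ChevalleyDatum) (hD : D ∈ allData) : DiagAll D := by
  simp only [allData, List.mem_cons, List.not_mem_nil, or_false] at hD
  rcases hD with rfl | rfl | rfl | rfl | rfl | rfl | rfl
  · exact diagAll_G2
  · exact diagAll_B2
  · exact diagAll_D4
  · exact diagAll_F4
  · exact diagAll_E6
  · exact diagAll_E7
  · exact diagAll_E8

/-- the coroot of the `i`-th fundamental root is the `i`-th fundamental coroot, and the root is in range -/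
def simpleOK (D : ChevalleyDatum) : Bool :=
  (List.range D.rank).all fun i => decide (D.simple i < D.nroots) &&
    (List.range D.rank).all fun j => decide ((D.coroot.getD (D.simple i) #[]).getD j 0 = if j = i then 1 else 0)

theorem simpleOK_of_mem (D : ChevalleyDatum) (hD : D ∈ allData) : simpleOK D = true := by
  simp only [allData, List.mem_cons, List.not_mem_nil, or_false] at hD
  rcases hD with rfl | rfl | rfl | rfl | rfl | rfl | rfl <;> decide +kernel

theorem simple_lt (D : ChevalleyDatum) (h : simpleOK D = true) (i : ℕ) (hi : i < D.rank) : D.simple i < D.nroots := by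
  unfold simpleOK at h
  rw [List.all_eq_true] at h
  have := h i (List.mem_range.mpr hi)
  rw [Bool.and_eq_true, decide_eq_true_eq] at this
  exact this.1

theorem pairing'_simple (D : ChevalleyDatum) (h : simpleOK D = true) (i : ℕ) (hi : i < D.rank) (s : ℕ) :
    pairing' D (D.simple i) s = D.cartan i s := by
  unfold simpleOK at h
  rw [List.all_eq_true] at h
  have h1 := h i (List.mem_range.mpr hi)
  rw [Bool.and_eq_true, List.all_eq_true] at h1
  have h2 : ∀ j < D.rank, (D.coroot.getD (D.simple i) #[]).getD j 0 = if j = i then 1 else 0 := by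
    intro j hj
    have := h1.2 j (List.mem_range.mpr hj)
    rwa [decide_eq_true_eq] at this
  unfold pairing' ChevalleyDatum.cartan
  rw [list_range_sum_eq]
  rw [Finset.sum_eq_single (⟨i, hi⟩ : Fin D.rank)]
  · rw [h2 i hi]; simp
  · intro b _ hb
    rw [h2 b.val b.2]
    have : ¬ b.val = i := fun e => hb (Fin.ext e)
    simp [this]
  · intro h; exact absurd (Finset.mem_univ _) h

/-- `h_p(c)` for a fundamental root is diagonal with the Cartan integers as exponents. -/
theorem hMat_simple {F : Type*} [Field F] (D : ChevalleyDatum) (hD : D ∈ allData) (i : ℕ) (hi : i < D.rank)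
    (c : F) (hc : c ≠ 0) :
    D.hMat F (D.simple i) c =
      Matrix.diagonal (Sum.elim (fun _ => (1 : F)) (fun s : Fin D.nroots => c ^ (D.cartan i s))) := by
  have hs := simpleOK_of_mem D hD
  rw [diagAll_of_mem D hD (D.simple i) (simple_lt D hs i hi) c hc]
  congr 1
  funext j
  rcases j with a | s
  · have : code D (Sum.inl a) = a.val := rfl
    simp [wt, this, a.2]
  · have : code D (Sum.inr s) = D.rank + s.val := rfl
    simp only [wt, this, Sum.elim_inr]
    rw [if_neg (by omega)]
    congr 1
    rw [← pairing'_simple D hs i hi]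
    congr 1
    omega

end Cfsg.Agent.Helper18
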