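import Cfsg.Agent.Helper18.FastCheck

/-!
Helper18: the combined check "`h_r(t)` is diagonal with entries `t ^ <s, r^∨>`" for a root and its negative,
and its soundness.
-/

set_option autoImplicit false

namespace Cfsg.Agent.Helper18

open Cfsg Cfsg.Lie

/-- the check for the roots `r` and `-r`: the fast check for `r`, or else the column-by-column checks -/
def checkRootPair (D : ChevalleyDatum) (r : ℕ) : Bool :=
  checkFast D r || (checkH D r && checkH D (D.neg r))

/-- the check for the roots `a, a+1, ..., a+len-1` and their negatives -/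
def checkPairs (D : ChevalleyDatum) (a len : ℕ) : Bool := (List.range' a len).all fun r => checkRootPair D r

/-- every root is `r` or `-r` for some `r < h`, and `-(-r) = r` -/
def negOK (D : ChevalleyDatum) (h : ℕ) : Bool :=
  (List.range D.nroots).all fun r => decide (D.neg (D.neg r) = r) && (decide (r < h) || decide (D.neg r < h))

theorem hMat_eq_diagonal_of_checkRootPair {F : Type*} [Field F] (D : ChevalleyDatum) (r : ℕ)
    (h : checkRootPair D r = true) (t : F) (ht : t ≠ 0) :
    (D.hMat F r t = Matrix.diagonal fun j => t ^ wt D r (code D j)) ∧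
    (D.hMat F (D.neg r) t = Matrix.diagonal fun j => t ^ wt D (D.neg r) (code D j)) := by
  unfold checkRootPair at h
  rw [Bool.or_eq_true] at h
  rcases h with h | h
  · exact ⟨hMat_eq_diagonal_of_fast D r h t ht, hMat_eq_diagonal_of_fast_neg D r h t ht⟩
  · rw [Bool.and_eq_true] at h
    exact ⟨hMat_eq_diagonal D r h.1 t ht, hMat_eq_diagonal D (D.neg r) h.2 t ht⟩

/-- `h_r(t)` is the diagonal matrix with entries `t ^ <s, r^∨>`, for all roots `r` of the datum -/
def DiagAll (D : ChevalleyDatum) : Prop :=
  ∀ r < D.nroots, ∀ {F : Type*} [Field F] (t : F), t ≠ 0 →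
    D.hMat F r t = Matrix.diagonal fun j => t ^ wt D r (code D j)

theorem diagAll_of_checks (D : ChevalleyDatum) (h : ℕ) (hneg : negOK D h = true)
    (hchk : ∀ r < h, checkRootPair D r = true) : DiagAll D := by
  intro r hr F _ t ht
  unfold negOK at hneg
  rw [List.all_eq_true] at hneg
  have := hneg r (List.mem_range.mpr hr)
  simp only [Bool.and_eq_true, Bool.or_eq_true, decide_eq_true_eq] at this
  obtain ⟨hnn, hlt | hlt⟩ := this
  · exact (hMat_eq_diagonal_of_checkRootPair D r (hchk r hlt) t ht).1
  · have := (hMat_eq_diagonal_of_checkRootPair D (D.neg r) (hchk _ hlt) t ht).2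
    rw [hnn] at this
    exact this

theorem forall_lt_of_checkPairs (D : ChevalleyDatum) (a len : ℕ) (h : checkPairs D a len = true) :
    ∀ r, a ≤ r → r < a + len → checkRootPair D r = true := by
  intro r h1 h2
  unfold checkPairs at h
  rw [List.all_eq_true] at h
  exact h r (List.mem_range'_1.mpr ⟨h1, h2⟩)

end Cfsg.Agent.Helper18
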