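import Cfsg.Agent.Helper18.UpStruct
import Cfsg.Agent.Helper18.UnipMono

/-!
# Root elements and additive functionals on the roots

For a functional `f` on the roots which is additive along the chains, the root element `x_s(t)` is block diagonal
(`f s = 0`) or block unitriangular (`0 < f s`) with respect to the grading of the coordinates by `f`.
Given the commutator formula (`CommHyp`), `x_r(t)` with `0 ≤ f r` normalises the subgroup generated by the
`x_s(u)` with `0 < f s`.
-/

set_option autoImplicit false

namespace Cfsg.Agent.Helper18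

open Cfsg Cfsg.Lie Matrix

/-- the weight of a coordinate: `0` for the `h_i`, `f v` for `e_v` -/
def grW (D : ChevalleyDatum) (f : ℕ → ℤ) : D.Idx → ℤ := Sum.elim (fun _ => 0) (fun v => f v.val)

theorem chainCoeff_pos (D : ChevalleyDatum) (r s u : ℕ) (km : ℕ × ℤ) (h : km ∈ D.chainCoeff r s u) : 1 ≤ km.1 := by
  unfold ChevalleyDatum.chainCoeff at h
  simp only [List.mem_flatMap, List.mem_filter, List.mem_map, decide_eq_true_eq] at h
  obtain ⟨e, _, q, _, rfl⟩ := h
  simp

/-- a level function with natural values -/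
def natLvl {m : Type*} [Fintype m] (w : m → ℤ) : m → ℕ := fun i => (w i + ∑ j, |w j|).toNat

theorem natLvl_nonneg {m : Type*} [Fintype m] (w : m → ℤ) (i : m) : 0 ≤ w i + ∑ j, |w j| := by
  have h1 : |w i| ≤ ∑ j, |w j| :=
    Finset.single_le_sum (f := fun j => |w j|) (fun j _ => abs_nonneg _) (Finset.mem_univ i)
  have h2 := neg_abs_le (w i)
  linarith

theorem natLvl_lt_iff {m : Type*} [Fintype m] (w : m → ℤ) (i j : m) : natLvl w i < natLvl w j ↔ w i < w j := by
  unfold natLvl
  have := natLvl_nonneg w i
  have := natLvl_nonneg w j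
  omega

theorem natLvl_le_iff {m : Type*} [Fintype m] (w : m → ℤ) (i j : m) : natLvl w i ≤ natLvl w j ↔ w i ≤ w j := by
  unfold natLvl
  have := natLvl_nonneg w i
  have := natLvl_nonneg w j
  omega

section
variable {F : Type*} [Field F]

/-- the entries of `x_s(t)` vanish off the diagonal unless the weights differ by a positive multiple of `f s` -/
theorem xMat_eq_zero_of (D : ChevalleyDatum) (f : ℕ → ℤ) (s : Fin D.nroots) (hadd : IsAdditiveAt D f s.val) (t : F)
    (a b : D.Idx) (hne : a ≠ b) (hlv : ∀ m : ℕ, 1 ≤ m → grW D f a ≠ grW D f b + (m : ℤ) * f s.val) :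
    D.xMat F s t a b = 0 := by
  obtain ⟨hneg, hch⟩ := hadd
  simp only [ChevalleyDatum.xMat, Matrix.of_apply]
  rcases b with i | v
  · rcases a with i' | u
    · have : i' ≠ i := fun e => hne (by rw [e])
      simp [this]
    · have : u ≠ s := by
        intro e
        apply hlv 1 le_rfl
        simp [grW, e]
      simp [this]
  · simp only
    split_ifs with h1 h2
    · rcases a with i' | u
      · rfl
      · have : u ≠ s := fun e => hne (by rw [e, h1])
        simp [this]
    · have hv : v.val = D.neg s.val := h2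
      rcases a with i' | u
      · exfalso
        apply hlv 1 le_rfl
        simp only [grW, Sum.elim_inl, Sum.elim_inr, hv, hneg]
        push_cast
        ring
      · have h3 : u ≠ v := fun e => hne (by rw [e])
        have h4 : u ≠ s := by
          intro e
          apply hlv 2 (by norm_num)
          simp only [grW, Sum.elim_inr, hv, hneg, e]
          push_cast
          ring
        simp [h3, h4]
    · rcases a with i' | u
      · rfl
      · have h3 : u ≠ v := fun e => hne (by rw [e])
        simp only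
        rw [if_neg h3, zero_add]
        apply xMat_sum_eq_zero
        by_contra hnil
        obtain ⟨km, hkm⟩ := List.exists_mem_of_ne_nil _ hnil
        have := hch v.val u.val km hkm
        apply hlv km.1 (chainCoeff_pos D _ _ _ km hkm)
        simp only [grW, Sum.elim_inr]
        rw [this]

/-- the diagonal entries of `x_s(t)` are `1` when `f s ≠ 0` -/
theorem xMat_diag_eq_one (D : ChevalleyDatum) (f : ℕ → ℤ) (s : Fin D.nroots) (hadd : IsAdditiveAt D f s.val)
    (hfs : f s.val ≠ 0) (t : F) (a : D.Idx) : D.xMat F s t a a = 1 := by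
  obtain ⟨hneg, hch⟩ := hadd
  simp only [ChevalleyDatum.xMat, Matrix.of_apply]
  rcases a with i | v
  · simp
  · simp only
    split_ifs with h1 h2
    · simp
    · rfl
    · rw [xMat_sum_eq_zero, add_zero]
      by_contra hnil
      obtain ⟨km, hkm⟩ := List.exists_mem_of_ne_nil _ hnil
      have h3 := hch v.val v.val km hkm
      have h4 := chainCoeff_pos D _ _ _ km hkm
      have h5 : (km.1 : ℤ) * f s.val = 0 := by linarith
      rcases mul_eq_zero.mp h5 with h6 | h6
      · omega
      · exact hfs h6

end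

section
variable {F : Type*} [Field F]
variable (D : ChevalleyDatum) (hD : D ∈ [chevG2, chevB2, chevD4, chevF4, chevE6, chevE7, chevE8])
include hD

/-- `x_s(t)` with `0 < f s` is block unitriangular -/
theorem xGL_mem_lower_of_pos (f : ℕ → ℤ) (s : ℕ) (hs : s < D.nroots) (hadd : IsAdditiveAt D f s) (hfs : 0 < f s)
    (t : F) : xGL D F s t ∈ lowerGL (natLvl (grW D f)) F 1 := by
  have htri := triOK_of_mem D hD
  rw [mem_lowerGL, xGL_val D _ htri]
  unfold ChevalleyDatum.x
  rw [dif_pos hs]
  constructor
  · intro i j hij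
    rw [add_zero, natLvl_lt_iff] at hij
    apply xMat_eq_zero_of D f ⟨s, hs⟩ hadd t i j
    · rintro rfl
      exact lt_irrefl _ hij
    · intro m hm e
      have h1 : (1 : ℤ) ≤ (m : ℤ) := by exact_mod_cast hm
      have : 0 < (m : ℤ) * f s := by positivity
      simp only at e
      linarith
  · intro i j hij
    rw [Matrix.sub_apply]
    by_cases e : i = j
    · subst e
      rw [xMat_diag_eq_one D f ⟨s, hs⟩ hadd hfs.ne' t i, Matrix.one_apply_eq, sub_self]
    · rw [Matrix.one_apply_ne e, sub_zero]
      apply xMat_eq_zero_of D f ⟨s, hs⟩ hadd t i j e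
      intro m hm e'
      have hle : grW D f i ≤ grW D f j := by
        rw [Nat.lt_succ_iff, natLvl_le_iff] at hij
        exact hij
      have h1 : (1 : ℤ) ≤ (m : ℤ) := by exact_mod_cast hm
      have : 0 < (m : ℤ) * f s := by positivity
      simp only at e'
      linarith

/-- `x_s(t)` with `f s = 0` is block diagonal, in particular block upper triangular -/
theorem xGL_mem_upper_of_zero (f : ℕ → ℤ) (s : ℕ) (hs : s < D.nroots) (hadd : IsAdditiveAt D f s) (hfs : f s = 0)
    (t : F) : xGL D F s t ∈ lowerGL (natLvl (fun a => - grW D f a)) F 0 := by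
  have htri := triOK_of_mem D hD
  rw [mem_lowerGL_zero, xGL_val D _ htri]
  unfold ChevalleyDatum.x
  rw [dif_pos hs]
  intro i j hij
  rw [add_zero, natLvl_lt_iff] at hij
  apply xMat_eq_zero_of D f ⟨s, hs⟩ hadd t i j
  · rintro rfl
    exact lt_irrefl _ hij
  · intro m hm e
    simp only at e
    rw [hfs, mul_zero, add_zero] at e
    linarith

/-- the diagonal subgroup is block diagonal -/
theorem diagonalSubgroup_le_upper (f : ℕ → ℤ) :
    D.diagonalSubgroup F ≤ lowerGL (natLvl (fun a => - grW D f a)) F 0 := by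
  intro g hg
  rw [mem_lowerGL_zero]
  intro i j hij
  apply offdiag_of_mem_diagonalSubgroup D hD g hg i j
  rintro rfl
  omega

omit hD in
/-- block unitriangular and block upper triangular matrices meet trivially -/
theorem lower_one_inf_upper (w : D.Idx → ℤ) :
    lowerGL (natLvl w) F 1 ⊓ lowerGL (natLvl (fun a => - w a)) F 0 = ⊥ := by
  rw [eq_bot_iff]
  rintro g ⟨⟨-, h1⟩, h2⟩
  replace h2 : g ∈ lowerGL (natLvl fun a => -w a) F 0 := h2
  rw [mem_lowerGL_zero] at h2
  rw [Subgroup.mem_bot]
  apply Units.ext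
  rw [Units.val_one, ← sub_eq_zero]
  ext i j
  rw [Matrix.zero_apply]
  by_cases hij : w i ≤ w j
  · apply h1 i j
    rw [Nat.lt_succ_iff, natLvl_le_iff]
    exact hij
  · have hne : i ≠ j := by
      rintro rfl
      exact hij le_rfl
    rw [Matrix.sub_apply, Matrix.one_apply_ne hne, sub_zero]
    apply h2 i j
    rw [add_zero, natLvl_lt_iff]
    linarith

/-- the generators of level `> 0` -/
def lvlGens (D : ChevalleyDatum) (F : Type*) [Field F] (f : ℕ → ℤ) : Set (GL D.Idx F) :=
  {g : GL D.Idx F | ∃ (v : ℕ) (c : F), v < D.nroots ∧ 0 < f v ∧ (g : Matrix D.Idx D.Idx F) = D.x F v c}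

theorem xGL_mul_add (r : ℕ) (a b : F) : xGL D F r a * xGL D F r b = xGL D F r (a + b) := by
  have htri := triOK_of_mem D hD
  apply Units.ext
  rw [Units.val_mul, xGL_val D _ htri, xGL_val D _ htri, xGL_val D _ htri]
  by_cases hr : r < D.nroots
  · exact Cfsg.Agent.S1023.result D hD r hr a b
  · unfold ChevalleyDatum.x
    rw [dif_neg hr, dif_neg hr, dif_neg hr, mul_one]

/-- `x_r(t)⁻¹ x_s(u) x_r(t)` is a product of root elements of positive level when `0 ≤ f r` and `0 < f s` -/
theorem conj_mem_lvl (h25 : CommHyp D F) (f : ℕ → ℤ) (hf : ∀ v < D.nroots, IsAdditiveAt D f v) (r : ℕ)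
    (hr : r < D.nroots) (hfr : 0 ≤ f r) (s : ℕ) (hs : s < D.nroots) (hfs : 0 < f s) (t u : F) :
    (xGL D F r t)⁻¹ * xGL D F s u * xGL D F r t ∈ Subgroup.closure (lvlGens D F f) := by
  have htri := triOK_of_mem D hD
  have hmem : ∀ v c, v < D.nroots → 0 < f v → xGL D F v c ∈ Subgroup.closure (lvlGens D F f) :=
    fun v c hv hfv => Subgroup.subset_closure ⟨v, c, hv, hfv, xGL_val D _ htri v c⟩
  by_cases h1 : s = r
  · subst h1
    rw [xGL_inv' D hD, xGL_mul_add D hD, xGL_mul_add D hD]
    have : -t + u + t = u := by ring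
    rw [this]
    exact hmem s u hs hfs
  · have h2 : s ≠ D.neg r := by
      intro e
      have := (hf r hr).1
      rw [← e] at this
      linarith
    rw [comm_xGL D hD h25 r s hr hs h1 h2 t u]
    apply mul_mem (hmem s u hs hfs)
    unfold wordGL ChevalleyDatum.commWord
    apply Subgroup.list_prod_mem
    intro g hg
    simp only [List.map_map, List.mem_map, Function.comp_apply] at hg
    obtain ⟨c, hc, rfl⟩ := hg
    obtain ⟨c1, c2, c3, c4⟩ := commTerms_lvl D hD f hf r s hr hs c hc
    apply hmem _ _ c1
    rw [c2]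
    have e3 : (1 : ℤ) ≤ (c.2.2.1 : ℤ) := by exact_mod_cast c3
    have e4 : (1 : ℤ) ≤ (c.2.2.2 : ℤ) := by exact_mod_cast c4
    have : 0 ≤ (c.2.2.1 : ℤ) * f r := by positivity
    have : 0 < (c.2.2.2 : ℤ) * f s := by positivity
    linarith

/-- root elements of level `≥ 0` normalise the subgroup generated by those of level `> 0` -/
theorem xGL_mem_normalizer_lvl (h25 : CommHyp D F) (f : ℕ → ℤ) (hf : ∀ v < D.nroots, IsAdditiveAt D f v) (r : ℕ)
    (hr : r < D.nroots) (hfr : 0 ≤ f r) (t : F) :
    xGL D F r t ∈ Subgroup.normalizer (Subgroup.closure (lvlGens D F f) : Set (GL D.Idx F)) := by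
  have htri := triOK_of_mem D hD
  apply mem_normalizer_closure_of'
  · rintro x ⟨s, u, hs, hfs, hx⟩
    have hxx : x = xGL D F s u := Units.ext (by rw [hx, xGL_val D _ htri])
    have := conj_mem_lvl D hD h25 f hf r hr hfr s hs hfs (-t) u
    rw [xGL_inv' D hD r (-t), neg_neg, ← xGL_inv' D hD r t] at this
    rw [hxx]
    exact this
  · rintro x ⟨s, u, hs, hfs, hx⟩
    have hxx : x = xGL D F s u := Units.ext (by rw [hx, xGL_val D _ htri])
    rw [hxx]
    exact conj_mem_lvl D hD h25 f hf r hr hfr s hs hfs t u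

/-- the diagonal subgroup normalises the subgroup generated by the root elements of level `> 0` -/
theorem diagonalSubgroup_le_normalizer_lvl (f : ℕ → ℤ) :
    D.diagonalSubgroup F ≤ Subgroup.normalizer (Subgroup.closure (lvlGens D F f) : Set (GL D.Idx F)) := by
  have htri := triOK_of_mem D hD
  conv_lhs => unfold ChevalleyDatum.diagonalSubgroup
  rw [Subgroup.closure_le]
  rintro g ⟨r, c, hr, hc, hg⟩
  apply mem_normalizer_closure_of
  · rintro x ⟨s, t, hs, hfs, hx⟩
    have : x = xGL D F s t := Units.ext (by rw [hx, xGL_val D _ htri])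
    rw [this, (hMat_conj_x D hD g r hr c hc hg s hs t).1]
    exact ⟨s, _, hs, hfs, xGL_val D _ htri _ _⟩
  · rintro x ⟨s, t, hs, hfs, hx⟩
    have : x = xGL D F s t := Units.ext (by rw [hx, xGL_val D _ htri])
    rw [this, (hMat_conj_x D hD g r hr c hc hg s hs t).2]
    exact ⟨s, _, hs, hfs, xGL_val D _ htri _ _⟩

end

end Cfsg.Agent.Helper18
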