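import Cfsg.Agent.Helper18.Conj

/-!
Helper18: the elements of the diagonal subgroup `H` are the products `h_{p_1}(c_1) ⋯ h_{p_l}(c_l)`.
-/

set_option autoImplicit false

namespace Cfsg.Agent.Helper18

open Cfsg Cfsg.Lie

section
variable {F : Type*} [Field F]

/-- the diagonal matrix `h_{p_1}(c_1) ⋯ h_{p_l}(c_l)` -/
def hProd (D : ChevalleyDatum) (F : Type*) [Field F] (c : ℕ → F) : Matrix D.Idx D.Idx F :=
  Matrix.diagonal (Sum.elim (fun _ => (1 : F))
    (fun s : Fin D.nroots => ((List.range D.rank).map fun i => c i ^ D.cartan i s.val).prod))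

theorem wordMat_append (D : ChevalleyDatum) (w₁ w₂ : List (ℕ × F)) :
    D.wordMat F (w₁ ++ w₂) = D.wordMat F w₁ * D.wordMat F w₂ := by
  simp [ChevalleyDatum.wordMat, List.map_append, List.prod_append]

theorem wordMat_flatMap (D : ChevalleyDatum) (l : List ℕ) (f : ℕ → List (ℕ × F)) :
    D.wordMat F (l.flatMap f) = (l.map fun i => D.wordMat F (f i)).prod := by
  induction l with
  | nil => simp [ChevalleyDatum.wordMat]
  | cons a l ih => rw [List.flatMap_cons, wordMat_append, ih, List.map_cons, List.prod_cons]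

theorem diagonal_list_prod {n : Type*} [Fintype n] [DecidableEq n] (l : List ℕ) (d : ℕ → n → F) :
    (l.map fun i => Matrix.diagonal (d i)).prod = Matrix.diagonal (fun j => (l.map fun i => d i j).prod) := by
  induction l with
  | nil => simp
  | cons a l ih =>
    rw [List.map_cons, List.prod_cons, ih, Matrix.diagonal_mul_diagonal]
    simp

theorem zpow_list_sum (t : F) (ht : t ≠ 0) (l : List ℤ) : t ^ l.sum = (l.map fun a => t ^ a).prod := by
  induction l with
  | nil => simp
  | cons a l ih => rw [List.sum_cons, zpow_add₀ ht, ih, List.map_cons, List.prod_cons]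

theorem hProd_one (D : ChevalleyDatum) : hProd D F (fun _ => 1) = 1 := by
  unfold hProd
  rw [← Matrix.diagonal_one]
  congr 1
  funext j
  rcases j with a | s
  · rfl
  · simp

theorem hProd_mul (D : ChevalleyDatum) (c c' : ℕ → F) :
    hProd D F c * hProd D F c' = hProd D F (fun i => c i * c' i) := by
  unfold hProd
  rw [Matrix.diagonal_mul_diagonal]
  congr 1
  funext j
  rcases j with a | s
  · simp
  · simp only [Sum.elim_inr]
    rw [← List.prod_map_mul]
    congr 1
    apply List.map_congr_left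
    intro i _
    rw [mul_zpow]

theorem hProd_of_words (D : ChevalleyDatum) (hD : D ∈ allData) (c : ℕ → F) (hc : ∀ i < D.rank, c i ≠ 0) :
    D.wordMat F ((List.range D.rank).flatMap fun i => D.hWord (D.simple i) (c i)) = hProd D F c := by
  rw [wordMat_flatMap]
  have h1 : ((List.range D.rank).map fun i => D.wordMat F (D.hWord (D.simple i) (c i))) =
      (List.range D.rank).map fun i => Matrix.diagonal
        (Sum.elim (fun _ => (1 : F)) (fun s : Fin D.nroots => c i ^ (D.cartan i s))) := by
    apply List.map_congr_left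
    intro i hi
    rw [List.mem_range] at hi
    exact hMat_simple D hD i hi (c i) (hc i hi)
  rw [h1, diagonal_list_prod]
  unfold hProd
  congr 1
  funext j
  rcases j with a | s
  · simp
  · rfl

/-- `h_r(t)` as a product over the fundamental roots -/
theorem hMat_eq_hProd (D : ChevalleyDatum) (hD : D ∈ allData) (r : ℕ) (hr : r < D.nroots) (t : F) (ht : t ≠ 0) :
    D.hMat F r t = hProd D F (fun i => t ^ (D.coroot.getD r #[]).getD i 0) := by
  rw [hMat_eq_wDiag D hD r hr t ht]
  unfold wDiag hProd
  congr 1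
  funext j
  rcases j with a | s
  · rfl
  · simp only [Sum.elim_inr]
    unfold pairing'
    rw [zpow_list_sum t ht, List.map_map]
    congr 1
    apply List.map_congr_left
    intro i _
    simp only [Function.comp]
    rw [zpow_mul]
    rfl

/-- the subgroup of the products `h_{p_1}(c_1) ⋯ h_{p_l}(c_l)` -/
def hProdSubgroup (D : ChevalleyDatum) (F : Type*) [Field F] : Subgroup (GL D.Idx F) where
  carrier := {g | ∃ c : ℕ → F, (∀ i, c i ≠ 0) ∧ (g : Matrix D.Idx D.Idx F) = hProd D F c}
  one_mem' := ⟨fun _ => 1, fun _ => one_ne_zero, by rw [hProd_one]; rfl⟩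
  mul_mem' := by
    rintro g g' ⟨c, hc, hg⟩ ⟨c', hc', hg'⟩
    exact ⟨fun i => c i * c' i, fun i => mul_ne_zero (hc i) (hc' i), by rw [Units.val_mul, hg, hg', hProd_mul]⟩
  inv_mem' := by
    rintro g ⟨c, hc, hg⟩
    refine ⟨fun i => (c i)⁻¹, fun i => inv_ne_zero (hc i), ?_⟩
    have h1 : (g : Matrix D.Idx D.Idx F) * hProd D F (fun i => (c i)⁻¹) = 1 := by
      rw [hg, hProd_mul]
      have : (fun i => c i * (c i)⁻¹) = fun _ => (1 : F) := by
        funext i; exact mul_inv_cancel₀ (hc i)
      rw [this, hProd_one]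
    calc ((g⁻¹ : GL D.Idx F) : Matrix D.Idx D.Idx F)
        = ((g⁻¹ : GL D.Idx F) : Matrix D.Idx D.Idx F) * ((g : Matrix D.Idx D.Idx F) * hProd D F (fun i => (c i)⁻¹)) := by
          rw [h1, mul_one]
      _ = hProd D F (fun i => (c i)⁻¹) := by
          rw [← mul_assoc, ← Units.val_mul, inv_mul_cancel, Units.val_one, one_mul]

theorem diagonalSubgroup_le_hProdSubgroup (D : ChevalleyDatum) (hD : D ∈ allData) :
    D.diagonalSubgroup F ≤ hProdSubgroup D F := by
  unfold ChevalleyDatum.diagonalSubgroup
  rw [Subgroup.closure_le]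
  rintro g ⟨r, t, hr, ht, hg⟩
  exact ⟨fun i => t ^ (D.coroot.getD r #[]).getD i 0, fun i => zpow_ne_zero _ ht,
    by rw [hg, hMat_eq_hProd D hD r hr t ht]⟩

end

end Cfsg.Agent.Helper18
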