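import Cfsg.Agent.Helper18.CommPos

/-!
# Coefficient functionals

For every fundamental root `p_k` an integer combination of the rows of the Cartan table which has, at every root,
the sign of the `k`-th coefficient of the coroot (it is a positive multiple of the `k`-th coefficient of the root).
-/

set_option autoImplicit false

namespace Cfsg.Agent.Helper18

open Cfsg Cfsg.Lie

/-- the functional attached to `ws[k]` has the sign of the `k`-th coefficient of the coroot -/
def coefOK (D : ChevalleyDatum) (ws : List (List ℤ)) : Bool :=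
  (List.range D.rank).all fun k => (List.range D.nroots).all fun u =>
    (decide (0 < (D.coroot.getD u #[]).getD k 0) == decide (0 < lvlFast D (ws.getD k []) u)) &&
    (decide ((D.coroot.getD u #[]).getD k 0 < 0) == decide (lvlFast D (ws.getD k []) u < 0))

def coefWeightsG2 : List (List ℤ) := [[2, 3], [1, 2]]
def coefWeightsB2 : List (List ℤ) := [[1, 1], [1, 2]]
def coefWeightsD4 : List (List ℤ) := [[2, 2, 1, 1], [1, 2, 1, 1], [1, 2, 2, 1], [1, 2, 1, 2]]
def coefWeightsF4 : List (List ℤ) := [[2, 3, 4, 2], [3, 6, 8, 4], [2, 4, 6, 3], [1, 2, 3, 2]]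
def coefWeightsE6 : List (List ℤ) := [[4, 3, 5, 6, 4, 2], [1, 2, 2, 3, 2, 1], [5, 6, 10, 12, 8, 4],
  [2, 3, 4, 6, 4, 2], [4, 6, 8, 12, 10, 5], [2, 3, 4, 6, 5, 4]]
def coefWeightsE7 : List (List ℤ) := [[2, 2, 3, 4, 3, 2, 1], [4, 7, 8, 12, 9, 6, 3], [3, 4, 6, 8, 6, 4, 2],
  [4, 6, 8, 12, 9, 6, 3], [6, 9, 12, 18, 15, 10, 5], [2, 3, 4, 6, 5, 4, 2], [2, 3, 4, 6, 5, 4, 3]]
def coefWeightsE8 : List (List ℤ) := [[4, 5, 7, 10, 8, 6, 4, 2], [5, 8, 10, 15, 12, 9, 6, 3],
  [7, 10, 14, 20, 16, 12, 8, 4], [10, 15, 20, 30, 24, 18, 12, 6], [8, 12, 16, 24, 20, 15, 10, 5],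
  [6, 9, 12, 18, 15, 12, 8, 4], [4, 6, 8, 12, 10, 8, 6, 3], [2, 3, 4, 6, 5, 4, 3, 2]]

set_option maxRecDepth 100000 in
theorem coefOK_G2 : coefOK chevG2 coefWeightsG2 = true := by decide +kernel
set_option maxRecDepth 100000 in
theorem coefOK_B2 : coefOK chevB2 coefWeightsB2 = true := by decide +kernel
set_option maxRecDepth 100000 in
theorem coefOK_D4 : coefOK chevD4 coefWeightsD4 = true := by decide +kernel
set_option maxRecDepth 100000 in
theorem coefOK_F4 : coefOK chevF4 coefWeightsF4 = true := by decide +kernel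
set_option maxRecDepth 100000 in
theorem coefOK_E6 : coefOK chevE6 coefWeightsE6 = true := by decide +kernel
set_option maxRecDepth 100000 in
theorem coefOK_E7 : coefOK chevE7 coefWeightsE7 = true := by decide +kernel
set_option maxRecDepth 100000 in
theorem coefOK_E8 : coefOK chevE8 coefWeightsE8 = true := by decide +kernel

theorem exists_coefWeights (D : ChevalleyDatum) (hD : D ∈ [chevG2, chevB2, chevD4, chevF4, chevE6, chevE7, chevE8]) :
    ∃ ws : List (List ℤ), coefOK D ws = true := by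
  simp only [List.mem_cons, List.not_mem_nil, or_false] at hD
  rcases hD with rfl | rfl | rfl | rfl | rfl | rfl | rfl
  exacts [⟨_, coefOK_G2⟩, ⟨_, coefOK_B2⟩, ⟨_, coefOK_D4⟩, ⟨_, coefOK_F4⟩, ⟨_, coefOK_E6⟩,
    ⟨_, coefOK_E7⟩, ⟨_, coefOK_E8⟩]

end Cfsg.Agent.Helper18
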