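import Cfsg.Agent.Helper18.Graded
import Cfsg.Agent.Helper18.LeviData
import Cfsg.Agent.S1047

/-!
# Levi decomposition of the standard parabolic subgroups (conditional on `CommHyp`)
-/

set_option autoImplicit false

namespace Cfsg.Agent.Helper18

open Cfsg Cfsg.Lie Matrix

theorem array_getD_nonneg (A : Array ℤ) (h : ∀ c ∈ A.toList, 0 ≤ c) (k : ℕ) : 0 ≤ A.getD k 0 := by
  rw [← array_toList_getD]
  by_cases hk : k < A.toList.length
  · rw [List.getD_eq_getElem _ _ hk]
    exact h _ (List.getElem_mem hk)
  · rw [List.getD_eq_default _ _ (by omega)]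

theorem array_getD_nonpos (A : Array ℤ) (h : ∀ c ∈ A.toList, c ≤ 0) (k : ℕ) : A.getD k 0 ≤ 0 := by
  rw [← array_toList_getD]
  by_cases hk : k < A.toList.length
  · rw [List.getD_eq_getElem _ _ hk]
    exact h _ (List.getElem_mem hk)
  · rw [List.getD_eq_default _ _ (by omega)]

theorem list_sum_nonpos_int (l : List ℤ) (h : ∀ x ∈ l, x ≤ 0) : l.sum ≤ 0 := by
  induction l with
  | nil => simp
  | cons a l ih =>
    rw [List.sum_cons]
    have h1 := h a List.mem_cons_self
    have h2 := ih (fun x hx => h x (List.mem_cons_of_mem _ hx))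
    omega

theorem isAdditiveAt_sum_lvlF (D : ChevalleyDatum) (ws : List (List ℤ)) (s : ℕ)
    (h : ∀ i < D.rank, IsAdditiveAt D (D.cartan i) s) (l : List ℕ) :
    IsAdditiveAt D (fun u => (l.map fun k => lvlF D (ws.getD k []) u).sum) s := by
  induction l with
  | nil =>
    refine ⟨by simp, ?_⟩
    intro v u km _
    simp
  | cons a l ih =>
    obtain ⟨ih1, ih2⟩ := ih
    obtain ⟨ha1, ha2⟩ := isAdditiveAt_lvlF D (ws.getD a []) s h
    refine ⟨?_, ?_⟩
    · simp only [List.map_cons, List.sum_cons] at ih1 ⊢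
      rw [ih1, ha1]
      ring
    · intro v u km hkm
      have e1 := ih2 v u km hkm
      have e2 := ha2 v u km hkm
      simp only [List.map_cons, List.sum_cons] at e1 ⊢
      rw [e1, e2]
      ring

section
variable (D : ChevalleyDatum) (hD : D ∈ [chevG2, chevB2, chevD4, chevF4, chevE6, chevE7, chevE8])
include hD

/-- the level functional attached to `J`: the sum of the coefficients outside `J` (up to positive factors) -/
theorem exists_leviLvl (J : Set ℕ) :
    ∃ f : ℕ → ℤ, (∀ s < D.nroots, IsAdditiveAt D f s) ∧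
      (∀ u, D.IsPosRoot u → 0 ≤ f u) ∧
      (∀ u, D.InRootSub J u → f u = 0) ∧
      (∀ u < D.nroots, 0 < f u → D.IsPosRoot u ∧ ¬ D.InRootSub J u) ∧
      (∀ u, D.IsPosRoot u → ¬ D.InRootSub J u → 0 < f u) := by
  classical
  obtain ⟨ws, hws⟩ := exists_coefWeights D hD
  have hadd := addAllOK_of_mem D hD
  have hposOK := posOK_of_mem D hD
  have hspec : ∀ k < D.rank, ∀ u < D.nroots,
      (0 < (D.coroot.getD u #[]).getD k 0 ↔ 0 < lvlF D (ws.getD k []) u) ∧
      ((D.coroot.getD u #[]).getD k 0 < 0 ↔ lvlF D (ws.getD k []) u < 0) := by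
    intro k hk u hu
    unfold coefOK at hws
    rw [List.all_eq_true] at hws
    have h1 := hws k (List.mem_range.mpr hk)
    rw [List.all_eq_true] at h1
    have h2 := h1 u (List.mem_range.mpr hu)
    rw [lvlFast_eq D hadd _ _ hu] at h2
    simp only [Bool.and_eq_true, beq_iff_eq, decide_eq_decide] at h2
    exact h2
  set ks := (List.range D.rank).filter (fun k => k ∉ J) with hks
  have hmem : ∀ k, k ∈ ks ↔ k < D.rank ∧ k ∉ J := by
    intro k
    rw [hks, List.mem_filter, List.mem_range]
    simp
  refine ⟨fun u => (ks.map fun k => lvlF D (ws.getD k []) u).sum, ?_, ?_, ?_, ?_, ?_⟩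
  · intro s hs
    apply isAdditiveAt_sum_lvlF
    intro i hi
    unfold addAllOK at hadd
    rw [List.all_eq_true] at hadd
    exact isAdditiveAt_cartan D i (hadd i (List.mem_range.mpr hi)) s hs
  · intro u hu
    apply List.sum_nonneg
    intro x hx
    rw [List.mem_map] at hx
    obtain ⟨k, hk, rfl⟩ := hx
    have hk' := (hmem k).mp hk
    have h1 := array_getD_nonneg _ hu.2 k
    have h2 := (hspec k hk'.1 u hu.1).2
    by_contra hneg
    have := h2.mpr (by omega)
    omega
  · intro u hu
    apply List.sum_eq_zero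
    intro x hx
    rw [List.mem_map] at hx
    obtain ⟨k, hk, rfl⟩ := hx
    have hk' := (hmem k).mp hk
    have h1 := hu.2 k hk'.1 hk'.2
    obtain ⟨h2, h3⟩ := hspec k hk'.1 u hu.1
    rw [h1] at h2 h3
    by_contra hne
    rcases lt_or_gt_of_ne hne with h | h
    · exact absurd (h3.mpr h) (lt_irrefl _)
    · exact absurd (h2.mpr h) (lt_irrefl _)
  · intro u hu hfu
    have hex : ∃ k ∈ ks, 0 < lvlF D (ws.getD k []) u := by
      by_contra hno
      push Not at hno
      have : (ks.map fun k => lvlF D (ws.getD k []) u).sum ≤ 0 := by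
        apply list_sum_nonpos_int
        intro x hx
        rw [List.mem_map] at hx
        obtain ⟨k, hk, rfl⟩ := hx
        exact hno k hk
      simp only at hfu
      omega
    obtain ⟨k, hk, hkpos⟩ := hex
    have hk' := (hmem k).mp hk
    have hc : 0 < (D.coroot.getD u #[]).getD k 0 := (hspec k hk'.1 u hu).1.mpr hkpos
    constructor
    · rw [isPosRoot_iff D _ hposOK]
      refine ⟨?_, hu⟩
      by_contra hlt
      have hneg : D.IsNegRoot u := (isNegRoot_iff D _ hposOK u).mpr ⟨by omega, hu⟩
      have := array_getD_nonpos _ hneg.2 k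
      omega
    · intro hin
      have := hin.2 k hk'.1 hk'.2
      omega
  · intro u hu hnin
    have hex : ∃ k, k < D.rank ∧ k ∉ J ∧ (D.coroot.getD u #[]).getD k 0 ≠ 0 := by
      by_contra hno
      push Not at hno
      exact hnin ⟨hu.1, hno⟩
    obtain ⟨k, hk1, hk2, hk3⟩ := hex
    have h1 := array_getD_nonneg _ hu.2 k
    have hkpos : 0 < lvlF D (ws.getD k []) u := (hspec k hk1 u hu.1).1.mp (by omega)
    have hnn : ∀ x ∈ ks.map fun k => lvlF D (ws.getD k []) u, 0 ≤ x := by
      intro x hx
      rw [List.mem_map] at hx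
      obtain ⟨k', hk', rfl⟩ := hx
      have hk'' := (hmem k').mp hk'
      have h1 := array_getD_nonneg _ hu.2 k'
      have h2 := (hspec k' hk''.1 u hu.1).2
      by_contra hneg
      have := h2.mpr (by omega)
      omega
    have hle := List.single_le_sum hnn _ (List.mem_map.mpr ⟨k, (hmem k).mpr ⟨hk1, hk2⟩, rfl⟩)
    simp only
    omega

variable {F : Type*} [Field F]

/-- Levi decomposition, given the commutator formula -/
theorem levi_decomp (h25 : CommHyp D F) (J : Set ℕ) :
    D.parabolicSubgroup F J ≤ Subgroup.normalizer (D.unipotentRadical F J : Set (GL D.Idx F)) ∧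
      D.unipotentRadical F J ⊔ D.leviSubgroup F J = D.parabolicSubgroup F J ∧
      D.unipotentRadical F J ⊓ D.leviSubgroup F J = ⊥ := by
  have htri := triOK_of_mem D hD
  obtain ⟨f, hadd, hpos, hzero, hgt, hgt'⟩ := exists_leviLvl D hD J
  have hU : D.unipotentRadical F J = Subgroup.closure (lvlGens D F f) := by
    unfold ChevalleyDatum.unipotentRadical lvlGens
    congr 1
    ext g
    constructor
    · rintro ⟨r, t, hr, hnr, hg⟩
      exact ⟨r, t, hr.1, hgt' r hr hnr, hg⟩
    · rintro ⟨v, c, hv, hfv, hg⟩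
      obtain ⟨h1, h2⟩ := hgt v hv hfv
      exact ⟨v, c, h1, h2, hg⟩
  have hP := Cfsg.Agent.S1047.result (F := F) D hD J
  refine ⟨?_, ?_, ?_⟩
  · rw [hP, hU]
    apply sup_le (diagonalSubgroup_le_normalizer_lvl D hD f)
    rw [Subgroup.closure_le]
    rintro g ⟨r, t, hr, hg⟩
    have hgx : g = xGL D F r t := Units.ext (by rw [hg, xGL_val D _ htri])
    rw [hgx]
    rcases hr with hr | hr
    · exact xGL_mem_normalizer_lvl D hD h25 f hadd r hr.1 (hpos r hr) t
    · exact xGL_mem_normalizer_lvl D hD h25 f hadd r hr.1 (le_of_eq (hzero r hr).symm) t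
  · rw [hP]
    apply le_antisymm
    · apply sup_le
      · unfold ChevalleyDatum.unipotentRadical
        rw [Subgroup.closure_le]
        rintro g ⟨r, t, hr, -, hg⟩
        exact Subgroup.mem_sup_right (Subgroup.subset_closure ⟨r, t, Or.inl hr, hg⟩)
      · unfold ChevalleyDatum.leviSubgroup
        apply sup_le le_sup_left
        apply le_sup_of_le_right
        apply Subgroup.closure_mono
        rintro g ⟨r, t, hr, hg⟩
        exact ⟨r, t, Or.inr hr, hg⟩
    · apply sup_le
      · apply le_sup_of_le_right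
        unfold ChevalleyDatum.leviSubgroup
        exact le_sup_left
      · rw [Subgroup.closure_le]
        rintro g ⟨r, t, hr, hg⟩
        by_cases hin : D.InRootSub J r
        · apply Subgroup.mem_sup_right
          unfold ChevalleyDatum.leviSubgroup
          exact Subgroup.mem_sup_right (Subgroup.subset_closure ⟨r, t, hin, hg⟩)
        · apply Subgroup.mem_sup_left
          unfold ChevalleyDatum.unipotentRadical
          exact Subgroup.subset_closure ⟨r, t, hr.resolve_right hin, hin, hg⟩
  · rw [eq_bot_iff, ← lower_one_inf_upper (F := F) D (grW D f)]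
    apply inf_le_inf
    · rw [hU, Subgroup.closure_le]
      rintro g ⟨v, c, hv, hfv, hg⟩
      have hgx : g = xGL D F v c := Units.ext (by rw [hg, xGL_val D _ htri])
      rw [hgx]
      exact xGL_mem_lower_of_pos D hD f v hv (hadd v hv) hfv c
    · unfold ChevalleyDatum.leviSubgroup
      apply sup_le (diagonalSubgroup_le_upper D hD f)
      rw [Subgroup.closure_le]
      rintro g ⟨r, t, hr, hg⟩
      have hgx : g = xGL D F r t := Units.ext (by rw [hg, xGL_val D _ htri])
      rw [hgx]
      exact xGL_mem_upper_of_zero D hD f r hr.1 (hadd r hr.1) (hzero r hr) t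

end

end Cfsg.Agent.Helper18
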