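import Mathlib

/-!
# Abelian `p`-subgroups of linear groups of small degree

Let `F` be a finite field with `q` elements, `p` a prime not dividing `q` and `d` a lower bound for the
order of `q` modulo `p`.  An abelian group of exponent `p` acting faithfully on an `F`-space of dimension
less than `2 d` has order at most `p`.
-/

set_option autoImplicit false

namespace Cfsg.Agent.Helper18.LinPRank

open Finset

section ring
variable {R : Type*} [Ring R]

/-- reindexing a sum of powers by a multiplier prime to `p` -/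
theorem sum_pow_mul {p : ℕ} (hp : p.Prime) {y : R} (hy : y ^ p = 1) {c : ℕ} (hc0 : 0 < c) (hcp : c < p) :
    ∑ j ∈ range p, y ^ (j * c) = ∑ k ∈ range p, y ^ k := by
  have hcop : Nat.gcd p c = 1 :=
    (Nat.Prime.coprime_iff_not_dvd hp).mpr (Nat.not_dvd_of_pos_of_lt hc0 hcp)
  have hmaps : ∀ j ∈ range p, (j * c) % p ∈ range p := fun j _ => mem_range.mpr (Nat.mod_lt _ hp.pos)
  have hinj : Set.InjOn (fun j => (j * c) % p) (range p : Set ℕ) := by
    intro j hj j' hj' h
    have h1 : j * c ≡ j' * c [MOD p] := h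
    have h2 := Nat.ModEq.cancel_right_of_coprime hcop h1
    exact Nat.ModEq.eq_of_lt_of_lt h2 (mem_range.mp hj) (mem_range.mp hj')
  apply Finset.sum_nbij (fun j => (j * c) % p) hmaps hinj
  · exact Finset.surjOn_of_injOn_of_card_le _ hmaps hinj le_rfl
  · intro j _
    exact pow_eq_pow_mod _ hy

/-- the sum over the `p + 1` subgroups of order `p` of `⟨x⟩ × ⟨y⟩` -/
theorem sum_sum_identity {p : ℕ} (hp : p.Prime) {x y : R} (hxy : Commute x y) (hy : y ^ p = 1) :
    ∑ j ∈ range p, ∑ i ∈ range p, (x * y ^ j) ^ i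
      = (p : R) + (∑ i ∈ range p, x ^ i) * (∑ k ∈ range p, y ^ k) - ∑ k ∈ range p, y ^ k := by
  have h1 : ∀ i j, (x * y ^ j) ^ i = x ^ i * y ^ (j * i) := by
    intro i j
    rw [(hxy.pow_right j).mul_pow, ← pow_mul]
  simp_rw [h1]
  rw [Finset.sum_comm]
  simp_rw [← Finset.mul_sum]
  obtain ⟨p', rfl⟩ : ∃ p', p = p' + 1 := ⟨p - 1, by have := hp.pos; omega⟩
  rw [Finset.sum_range_succ' (fun i => x ^ i * ∑ j ∈ range (p' + 1), y ^ (j * i))]
  have h2 : ∀ i ∈ range p', x ^ (i + 1) * ∑ j ∈ range (p' + 1), y ^ (j * (i + 1))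
      = x ^ (i + 1) * ∑ k ∈ range (p' + 1), y ^ k := by
    intro i hi
    rw [sum_pow_mul hp hy (Nat.succ_pos i) (by have := mem_range.mp hi; omega)]
  rw [Finset.sum_congr rfl h2, ← Finset.sum_mul, Finset.sum_range_succ' (fun i => x ^ i) p']
  simp only [mul_zero, pow_zero, sum_const, card_range, one_mul, nsmul_eq_mul, mul_one]
  rw [add_mul, one_mul]
  abel

end ring

section main
set_option linter.unusedSectionVars false
variable {F V A : Type*} [Field F] [Fintype F] [AddCommGroup V] [Module F V] [Module.Finite F V] [Group A]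
variable (ρ : A →* Module.End F V)

/-- the fixed space of an element -/
def fix (a : A) : Submodule F V := LinearMap.ker (ρ a - 1)

variable {ρ}

theorem mem_fix {a : A} {v : V} : v ∈ fix ρ a ↔ ρ a v = v := by
  unfold fix
  rw [LinearMap.mem_ker, LinearMap.sub_apply, Module.End.one_apply, sub_eq_zero]

theorem rho_mul_apply (a b : A) (v : V) : ρ (a * b) v = ρ a (ρ b v) := by
  rw [map_mul, Module.End.mul_apply]

theorem fix_invariant (hcomm : ∀ a b : A, a * b = b * a) (a b : A) {v : V} (hv : v ∈ fix ρ b) :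
    ρ a v ∈ fix ρ b := by
  rw [mem_fix] at hv ⊢
  rw [← rho_mul_apply, hcomm b a, rho_mul_apply, hv]

theorem fix_eq_top {a : A} (hρ : Function.Injective ρ) (h : fix ρ a = ⊤) : a = 1 := by
  apply hρ
  rw [map_one]
  ext v
  have : v ∈ fix ρ a := by rw [h]; trivial
  rw [Module.End.one_apply]
  exact mem_fix.mp this

theorem card_modEq_fix {p : ℕ} [Fact p.Prime] (a : A) (ha : a ^ p = 1) (U : Submodule F V)
    (hU : ∀ v ∈ U, ρ a v ∈ U) : Nat.card ↥U ≡ Nat.card ↥(U ⊓ fix ρ a) [MOD p] := by
  classical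
  have : Finite V := Module.finite_of_finite F
  have : Fintype ↥U := Fintype.ofFinite _
  let g : Function.End ↥U := fun u => ⟨ρ a u.1, hU u.1 u.2⟩
  have hpow : ∀ (n : ℕ) (u : ↥U), ((g ^ n) u).1 = ρ (a ^ n) u.1 := by
    intro n
    induction n with
    | zero =>
      intro u
      rw [pow_zero, pow_zero, map_one]
      rfl
    | succ k ih =>
      intro u
      rw [pow_succ, pow_succ, rho_mul_apply]
      exact ih (g u)
  have hg : g ^ p ^ 1 = 1 := by
    rw [pow_one]
    funext u
    apply Subtype.ext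
    rw [hpow, ha, map_one]
    rfl
  have h := Equiv.Perm.card_fixedPoints_modEq (p := p) (n := 1) hg
  rw [Nat.card_eq_fintype_card]
  refine h.trans ?_
  rw [← Nat.card_eq_fintype_card]
  have e : ↥(Function.fixedPoints g) ≃ ↥(U ⊓ fix ρ a) :=
    { toFun := fun u => ⟨u.1.1, ⟨u.1.2, mem_fix.mpr (congrArg Subtype.val u.2)⟩⟩
      invFun := fun v => ⟨⟨v.1, v.2.1⟩, Subtype.ext (mem_fix.mp v.2.2)⟩
      left_inv := fun u => rfl
      right_inv := fun v => rfl }
  rw [Nat.card_congr e]

theorem finrank_step {p : ℕ} [hp : Fact p.Prime] (hq : ((Fintype.card F : ℕ) : ZMod p) ≠ 0) {d : ℕ}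
    (hd : ∀ i, 0 < i → i < d → ((Fintype.card F : ℕ) : ZMod p) ^ i ≠ 1)
    (C U : Submodule F V) (hCU : C ≤ U) (hmod : Nat.card ↥U ≡ Nat.card ↥C [MOD p]) :
    C = U ∨ Module.finrank F ↥C + d ≤ Module.finrank F ↥U := by
  have hle : Module.finrank F ↥C ≤ Module.finrank F ↥U := Submodule.finrank_mono hCU
  have hU' : Nat.card ↥U = Fintype.card F ^ Module.finrank F ↥U := by
    rw [Module.natCard_eq_pow_finrank (K := F) (V := ↥U), Nat.card_eq_fintype_card]
  have hC' : Nat.card ↥C = Fintype.card F ^ Module.finrank F ↥C := by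
    rw [Module.natCard_eq_pow_finrank (K := F) (V := ↥C), Nat.card_eq_fintype_card]
  rw [hU', hC'] at hmod
  have h1 := (ZMod.natCast_eq_natCast_iff _ _ _).mpr hmod
  rw [Nat.cast_pow, Nat.cast_pow] at h1
  have h2 : ((Fintype.card F : ℕ) : ZMod p) ^ (Module.finrank F ↥U - Module.finrank F ↥C) = 1 := by
    have h3 : ((Fintype.card F : ℕ) : ZMod p) ^ Module.finrank F ↥C *
        ((Fintype.card F : ℕ) : ZMod p) ^ (Module.finrank F ↥U - Module.finrank F ↥C) =
        ((Fintype.card F : ℕ) : ZMod p) ^ Module.finrank F ↥C * 1 := by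
      rw [← pow_add, Nat.add_sub_cancel' hle, mul_one, h1]
    exact mul_left_cancel₀ (pow_ne_zero _ hq) h3
  by_cases h0 : Module.finrank F ↥U - Module.finrank F ↥C = 0
  · left
    exact Submodule.eq_of_le_of_finrank_eq hCU (by omega)
  · right
    by_contra hlt
    exact hd _ (by omega) (by omega) h2

/-- the trace-like operator `∑ (ρ c)^i` maps into the fixed space of `c` -/
theorem geom_mem_fix {p : ℕ} (c : A) (hc : c ^ p = 1) (v : V) :
    (∑ i ∈ range p, (ρ c) ^ i) v ∈ fix ρ c := by
  rw [mem_fix, ← Module.End.mul_apply]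
  have h1 : (ρ c - 1) * ∑ i ∈ range p, (ρ c) ^ i = 0 := by
    rw [mul_geom_sum, ← map_pow, hc, map_one, sub_self]
  have h2 : ρ c * ∑ i ∈ range p, (ρ c) ^ i = ∑ i ∈ range p, (ρ c) ^ i := by
    rw [sub_mul, one_mul, sub_eq_zero] at h1
    exact h1
  rw [h2]

/-- **Main lemma.** An abelian group of exponent `p` acting faithfully on a space of dimension `< 2 d` over a
finite field whose order has multiplicative order at least `d` modulo `p` has at most `p` elements. -/
theorem card_le_of_linear {p : ℕ} [hp : Fact p.Prime] (hρ : Function.Injective ρ)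
    (hcomm : ∀ a b : A, a * b = b * a) (hexp : ∀ a : A, a ^ p = 1)
    (hq : ((Fintype.card F : ℕ) : ZMod p) ≠ 0) (hpF : ((p : ℕ) : F) ≠ 0) {d : ℕ}
    (hd : ∀ i, 0 < i → i < d → ((Fintype.card F : ℕ) : ZMod p) ^ i ≠ 1)
    (hn : Module.finrank F V < 2 * d) : Nat.card A ≤ p := by
  classical
  have hVfin : Finite V := Module.finite_of_finite F
  have hEfin : Finite (Module.End F V) :=
    Finite.of_injective (fun f : Module.End F V => (f : V → V)) DFunLike.coe_injective
  have hAfin : Finite A := Finite.of_injective ρ hρ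
  by_contra hlt
  rw [not_le] at hlt
  have hp1 : 1 < p := hp.out.one_lt
  -- a non-trivial element
  have hnt : Nontrivial A := Finite.one_lt_card_iff_nontrivial.mp (by omega)
  obtain ⟨b, hb⟩ := exists_ne (1 : A)
  have hob : orderOf b = p := orderOf_eq_prime (hexp b) hb
  -- an element outside `⟨b⟩`
  have hex : ∃ a : A, a ∉ Subgroup.zpowers b := by
    by_contra hall
    rw [not_exists] at hall
    have hall : ∀ x : A, x ∈ Subgroup.zpowers b := fun x => not_not.mp (hall x)
    have htop : Subgroup.zpowers b = ⊤ := by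
      rw [eq_top_iff]
      intro x _
      exact hall x
    have h1 : Nat.card ↥(Subgroup.zpowers b) = p := by rw [Nat.card_zpowers, hob]
    rw [htop, Subgroup.card_top] at h1
    omega
  obtain ⟨a, ha⟩ := hex
  have habj : ∀ j : ℕ, a * b ^ j ≠ 1 := by
    intro j h
    apply ha
    have : a = (b ^ j)⁻¹ := eq_inv_of_mul_eq_one_left h
    rw [this]
    exact inv_mem (Subgroup.pow_mem _ (Subgroup.mem_zpowers b) j)
  -- fixed spaces are small
  have hsmall : ∀ c : A, c ≠ 1 → Module.finrank F ↥(fix ρ c) < d := by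
    intro c hc
    have h1 := card_modEq_fix (ρ := ρ) c (hexp c) ⊤ (fun v _ => Submodule.mem_top)
    rw [top_inf_eq] at h1
    rcases finrank_step hq hd (fix ρ c) ⊤ le_top h1 with h2 | h2
    · exact absurd (fix_eq_top hρ h2) hc
    · rw [finrank_top] at h2
      omega
  -- all fixed spaces of non-trivial elements coincide
  have hfix : ∀ c : A, c ≠ 1 → ∀ a' : A, fix ρ c ≤ fix ρ a' := by
    intro c hc a'
    have h1 := card_modEq_fix (ρ := ρ) a' (hexp a') (fix ρ c) (fun v hv => fix_invariant hcomm a' c hv)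
    rcases finrank_step hq hd (fix ρ c ⊓ fix ρ a') (fix ρ c) inf_le_left h1 with h2 | h2
    · exact inf_eq_left.mp h2
    · have := hsmall c hc
      omega
  -- the averaging identity
  have hxy : Commute (ρ a) (ρ b) := by
    show ρ a * ρ b = ρ b * ρ a
    rw [← map_mul, ← map_mul, hcomm]
  have hyp : (ρ b) ^ p = 1 := by rw [← map_pow, hexp, map_one]
  have hid := sum_sum_identity hp.out hxy hyp
  have hall : ∀ v : V, v ∈ fix ρ b := by
    intro v
    have h1 : ((p : ℕ) : Module.End F V) v =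
        (∑ j ∈ range p, ∑ i ∈ range p, (ρ a * ρ b ^ j) ^ i) v
          - ((∑ i ∈ range p, ρ a ^ i) * ∑ k ∈ range p, ρ b ^ k) v + (∑ k ∈ range p, ρ b ^ k) v := by
      rw [hid]
      simp only [LinearMap.sub_apply, LinearMap.add_apply]
      abel
    have h2 : ((p : ℕ) : Module.End F V) v = ((p : ℕ) : F) • v := by
      rw [Module.End.natCast_apply, Nat.cast_smul_eq_nsmul]
    have h3 : ((p : ℕ) : F) • v ∈ fix ρ b := by
      rw [← h2, h1]
      refine Submodule.add_mem _ (Submodule.sub_mem _ ?_ ?_) ?_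
      · rw [LinearMap.sum_apply]
        refine Submodule.sum_mem _ (fun j _ => ?_)
        have e : ρ a * ρ b ^ j = ρ (a * b ^ j) := by rw [map_mul, map_pow]
        rw [e]
        exact hfix _ (habj j) b (geom_mem_fix _ (hexp _) v)
      · rw [Module.End.mul_apply, LinearMap.sum_apply]
        refine Submodule.sum_mem _ (fun i _ => ?_)
        rw [← map_pow]
        exact fix_invariant hcomm _ _ (geom_mem_fix _ (hexp _) v)
      · exact geom_mem_fix _ (hexp _) v
    have h4 := Submodule.smul_mem (fix ρ b) (((p : ℕ) : F)⁻¹) h3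
    rwa [smul_smul, inv_mul_cancel₀ hpF, one_smul] at h4
  apply hb
  apply fix_eq_top hρ
  rw [eq_top_iff]
  intro v _
  exact hall v

end main

/-- matrix form of the main lemma -/
theorem card_le_of_matrix {F A ι : Type*} [Field F] [Fintype F] [Group A] [Fintype ι] [DecidableEq ι]
    {p : ℕ} [hp : Fact p.Prime] (φ : A →* Matrix ι ι F) (hφ : Function.Injective φ)
    (hcomm : ∀ a b : A, a * b = b * a) (hexp : ∀ a : A, a ^ p = 1)
    (hq : ((Fintype.card F : ℕ) : ZMod p) ≠ 0) (hpF : ((p : ℕ) : F) ≠ 0) {d : ℕ}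
    (hd : ∀ i, 0 < i → i < d → ((Fintype.card F : ℕ) : ZMod p) ^ i ≠ 1)
    (hn : Fintype.card ι < 2 * d) : Nat.card A ≤ p := by
  let e : Matrix ι ι F ≃ₐ[F] Module.End F (ι → F) := Matrix.toLinAlgEquiv'
  let ρ : A →* Module.End F (ι → F) := (e.toMulEquiv.toMonoidHom).comp φ
  have hρ : Function.Injective ρ := e.injective.comp hφ
  exact card_le_of_linear (ρ := ρ) hρ hcomm hexp hq hpF hd
    (by rw [Module.finrank_fintype_fun_eq_card]; exact hn)

end Cfsg.Agent.Helper18.LinPRank
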