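import Cfsg.Agent.Helper18.ScalarExt
import Cfsg.Agent.Helper18.Borel

/-!
# The shape of the elements of `N`: block-monomial matrices

Every non-zero entry `(i, j)` of `n_r(u)` relates the weights of `i` and `j` (`nMat_weight_rel`).  With a
table check on the weight columns (distinct roots have distinct non-zero weight columns) this shows that every
element of `N` has no entries mixing the Cartan part and the root part, and that its root block has at most
one non-zero entry in each column.
-/

set_option autoImplicit false

namespace Cfsg.Agent.Helper18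

open Cfsg Cfsg.Lie Matrix

/-- the weight column of the root `v`: the Cartan integers `A_{p_k, v}` -/
def colList (D : ChevalleyDatum) (v : ℕ) : List ℤ := (List.range D.rank).map fun k => D.cartan k v

/-- distinct roots have distinct weight columns, no weight column is zero, and `<r, r^∨> = 2` -/
def colsOK (D : ChevalleyDatum) : Bool :=
  decide (((List.range D.nroots).map (colList D)).Nodup) &&
  ((List.range D.nroots).all fun v => (colList D v).any (· != 0)) &&
  ((List.range D.nroots).all fun r => decide (pairing' D r r = 2))

set_option maxRecDepth 100000 in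
theorem colsOK_G2 : colsOK chevG2 = true := by decide +kernel
set_option maxRecDepth 100000 in
theorem colsOK_B2 : colsOK chevB2 = true := by decide +kernel
set_option maxRecDepth 100000 in
theorem colsOK_D4 : colsOK chevD4 = true := by decide +kernel
set_option maxRecDepth 100000 in
theorem colsOK_F4 : colsOK chevF4 = true := by decide +kernel
set_option maxRecDepth 100000 in
theorem colsOK_E6 : colsOK chevE6 = true := by decide +kernel
set_option maxRecDepth 100000 in
theorem colsOK_E7 : colsOK chevE7 = true := by decide +kernel
set_option maxRecDepth 100000 in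
theorem colsOK_E8 : colsOK chevE8 = true := by decide +kernel

theorem colsOK_of_mem (D : ChevalleyDatum)
    (hD : D ∈ [chevG2, chevB2, chevD4, chevF4, chevE6, chevE7, chevE8]) : colsOK D = true := by
  simp only [List.mem_cons, List.not_mem_nil, or_false] at hD
  rcases hD with rfl | rfl | rfl | rfl | rfl | rfl | rfl
  exacts [colsOK_G2, colsOK_B2, colsOK_D4, colsOK_F4, colsOK_E6, colsOK_E7, colsOK_E8]

theorem colList_getElem (D : ChevalleyDatum) (v k : ℕ) (hk : k < D.rank) :
    (colList D v)[k]'(by simp [colList, hk]) = D.cartan k v := by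
  simp [colList]

theorem cols_inj (D : ChevalleyDatum) (h : colsOK D = true) (v v' : ℕ) (hv : v < D.nroots) (hv' : v' < D.nroots)
    (hc : ∀ k < D.rank, D.cartan k v = D.cartan k v') : v = v' := by
  unfold colsOK at h
  rw [Bool.and_eq_true, Bool.and_eq_true, decide_eq_true_eq] at h
  have h1 := h.1.1
  have e : colList D v = colList D v' := by
    unfold colList
    apply List.map_congr_left
    intro k hk
    exact hc k (List.mem_range.mp hk)
  rw [List.nodup_map_iff_inj_on List.nodup_range] at h1
  exact h1 v (List.mem_range.mpr hv) v' (List.mem_range.mpr hv') e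

theorem col_ne_zero (D : ChevalleyDatum) (h : colsOK D = true) (v : ℕ) (hv : v < D.nroots) :
    ∃ k < D.rank, D.cartan k v ≠ 0 := by
  unfold colsOK at h
  rw [Bool.and_eq_true, Bool.and_eq_true, List.all_eq_true] at h
  have h1 := h.1.2 v (List.mem_range.mpr hv)
  rw [List.any_eq_true] at h1
  obtain ⟨c, hc, hc0⟩ := h1
  unfold colList at hc
  rw [List.mem_map] at hc
  obtain ⟨k, hk, rfl⟩ := hc
  exact ⟨k, List.mem_range.mp hk, by simpa using hc0⟩

theorem pairing'_self (D : ChevalleyDatum) (h : colsOK D = true) (r : ℕ) (hr : r < D.nroots) :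
    pairing' D r r = 2 := by
  unfold colsOK at h
  rw [Bool.and_eq_true, List.all_eq_true] at h
  have h1 := h.2 r (List.mem_range.mpr hr)
  rwa [decide_eq_true_eq] at h1

section Shape
variable {F : Type*} [Field F]

/-- block-monomial shape: no entries mixing the Cartan part and the root part, and at most one non-zero entry
in each column of the root block -/
def NL (D : ChevalleyDatum) (M : Matrix D.Idx D.Idx F) : Prop :=
  (∀ a v, M (Sum.inl a) (Sum.inr v) = 0) ∧ (∀ v b, M (Sum.inr v) (Sum.inl b) = 0) ∧
  (∀ w v v', M (Sum.inr v) (Sum.inr w) ≠ 0 → M (Sum.inr v') (Sum.inr w) ≠ 0 → v = v')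

theorem NL_of_offdiag (D : ChevalleyDatum) (M : Matrix D.Idx D.Idx F) (h : ∀ i j, i ≠ j → M i j = 0) : NL D M := by
  refine ⟨fun a v => h _ _ (by simp), fun v b => h _ _ (by simp), fun w v v' h1 h2 => ?_⟩
  have e1 : v = w := by
    by_contra hne
    exact h1 (h _ _ (by simpa using hne))
  have e2 : v' = w := by
    by_contra hne
    exact h2 (h _ _ (by simpa using hne))
  rw [e1, e2]

theorem NL_mul (D : ChevalleyDatum) (M M' : Matrix D.Idx D.Idx F) (h : NL D M) (h' : NL D M') : NL D (M * M') := by
  obtain ⟨h1, h2, h3⟩ := h
  obtain ⟨h1', h2', h3'⟩ := h'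
  refine ⟨fun a v => ?_, fun v b => ?_, fun w v v' hv hv' => ?_⟩
  · rw [Matrix.mul_apply, Fintype.sum_sum_type]
    simp [h1, h1']
  · rw [Matrix.mul_apply, Fintype.sum_sum_type]
    simp [h2, h2']
  · rw [Matrix.mul_apply, Fintype.sum_sum_type] at hv hv'
    simp only [h2, zero_mul, Finset.sum_const_zero, zero_add] at hv hv'
    obtain ⟨k, -, hk⟩ := Finset.exists_ne_zero_of_sum_ne_zero hv
    obtain ⟨k', -, hk'⟩ := Finset.exists_ne_zero_of_sum_ne_zero hv'
    have e : k = k' := h3' w k k' (right_ne_zero_of_mul hk) (right_ne_zero_of_mul hk')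
    subst e
    exact h3 k v v' (left_ne_zero_of_mul hk) (left_ne_zero_of_mul hk')

end Shape

end Cfsg.Agent.Helper18
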