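import Cfsg.Agent.Helper18.WeylPerm

/-!
# Relations between the `n_r` modulo `H`

From the statement of S1031 (hypothesis `NConjHyp`): `n_p n_s n_p⁻¹ ∈ H n_{w_p(s)}` for `p` fundamental and every root
`s`, and `n_r² ∈ H`.
-/

set_option autoImplicit false

namespace Cfsg.Agent.Helper18

open Cfsg Cfsg.Lie Matrix

section
variable {F : Type*} [Field F]
variable (D : ChevalleyDatum) (hD : D ∈ [chevG2, chevB2, chevD4, chevF4, chevE6, chevE7, chevE8])
include hD

/-- `n_r(1)² ∈ H` -/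
theorem nGL_sq_mem (r : ℕ) (hr : r < D.nroots) :
    wordGL D F (D.nWord r (1 : F)) * wordGL D F (D.nWord r (1 : F)) ∈ D.diagonalSubgroup F := by
  have h1 := nWordGL_one_inv (F := F) D hD r hr
  have h2 : wordGL D F (D.hWord r (-1 : F)) ∈ D.diagonalSubgroup F :=
    hWordGL_mem_diagonalSubgroup D hD r hr (-1) (by simp)
  rw [wordGL_hWord, ← h1] at h2
  have := inv_mem h2
  rwa [_root_.mul_inv_rev, inv_inv] at this

theorem pairing'_neg_self (a : ℕ) (ha : a < D.nroots) : pairing' D (D.neg a) a = -2 := by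
  obtain ⟨hna, hnn, -, -⟩ := triOK_spec D _ (triOK_of_mem D hD) a ha
  have h1 := pairing'_neg_right D hD (D.neg a) (D.neg a) hna
  rw [hnn, pairing'_self D (colsOK_of_mem D hD) _ hna] at h1
  exact h1

omit hD in
theorem entry_eq_mulVec (M : Matrix D.Idx D.Idx F) (i j : D.Idx) :
    M i j = (M.mulVec (Pi.single j 1)) i := by
  simp [Matrix.mulVec_single_one]

/-- the column `e_a` of `x_a(η) x_{-a}(u) x_a(η)` -/
theorem rank_one_column (a : ℕ) (ha : a < D.nroots) (η u : F) :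
    (D.x F a η * D.x F (D.neg a) u * D.x F a η) (Sum.inr ⟨a, ha⟩) (Sum.inr ⟨a, ha⟩) = (1 + u * η) ^ 2 ∧
    (D.x F a η * D.x F (D.neg a) u * D.x F a η)
      (Sum.inr ⟨D.neg a, (triOK_spec D _ (triOK_of_mem D hD) a ha).1⟩) (Sum.inr ⟨a, ha⟩) = - u ^ 2 := by
  obtain ⟨hna, hnn, h3, h4⟩ := triOK_spec D _ (triOK_of_mem D hD) a ha
  have hne : D.neg a ≠ a := by
    intro e
    by_cases hlt : a < hlfOf D
    · have := h3 hlt; omega
    · have := h4 (by omega); omega
  have hP := pairing'_neg_self D hD a ha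
  unfold pairing' at hP
  rw [list_range_sum_eq] at hP
  have hP' := congrArg (fun z : ℤ => (z : F)) hP
  push_cast at hP'
  -- the column vector
  have hcol : (D.x F a η * D.x F (D.neg a) u * D.x F a η).mulVec (bR D a ha) =
      bR D a ha + u • (∑ i : Fin D.rank, (((D.coroot.getD (D.neg a) #[]).getD i 0 : ℤ) : F) •
        (bI D i - ((((D.cartanSR.getD i #[]).getD a 0 : ℤ) : F) * η) • bR D a ha)) -
      (u ^ 2) • (bR D (D.neg a) hna + η • (∑ i : Fin D.rank, (((D.coroot.getD a #[]).getD i 0 : ℤ) : F) • bI D i) -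
        (η ^ 2) • bR D a ha) := by
    rw [← Matrix.mulVec_mulVec, ← Matrix.mulVec_mulVec, x_self, x_neg D (D.neg a) a hna ha hnn.symm hne.symm u,
      Matrix.mulVec_sub, Matrix.mulVec_add, x_self, Matrix.mulVec_smul, Matrix.mulVec_smul, Matrix.mulVec_sum,
      x_neg D a (D.neg a) ha hna rfl hne η]
    simp only [Matrix.mulVec_smul, x_cartan D a ha]
  have e1 : bR (F := F) D a ha (Sum.inr ⟨a, ha⟩) = 1 := by simp [bR]
  have e2 : bR (F := F) D (D.neg a) hna (Sum.inr ⟨a, ha⟩) = 0 := by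
    simp [bR, Pi.single_apply, Fin.ext_iff, hne.symm]
  have e3 : ∀ i, bI (F := F) D i (Sum.inr ⟨a, ha⟩) = 0 := by intro i; simp [bI]
  have f1 : bR (F := F) D a ha (Sum.inr ⟨D.neg a, hna⟩) = 0 := by
    simp [bR, Pi.single_apply, Fin.ext_iff, hne]
  have f2 : bR (F := F) D (D.neg a) hna (Sum.inr ⟨D.neg a, hna⟩) = 1 := by simp [bR]
  have f3 : ∀ i, bI (F := F) D i (Sum.inr ⟨D.neg a, hna⟩) = 0 := by intro i; simp [bI]
  have key : ∀ i : D.Idx, (D.x F a η * D.x F (D.neg a) u * D.x F a η) i (Sum.inr ⟨a, ha⟩) =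
      ((bR D a ha + u • (∑ i : Fin D.rank, (((D.coroot.getD (D.neg a) #[]).getD i 0 : ℤ) : F) •
        (bI D i - ((((D.cartanSR.getD i #[]).getD a 0 : ℤ) : F) * η) • bR D a ha)) -
      (u ^ 2) • (bR D (D.neg a) hna + η • (∑ i : Fin D.rank, (((D.coroot.getD a #[]).getD i 0 : ℤ) : F) • bI D i) -
        (η ^ 2) • bR D a ha) : D.Idx → F)) i := by
    intro i
    rw [entry_eq_mulVec D (D.x F a η * D.x F (D.neg a) u * D.x F a η) i (Sum.inr ⟨a, ha⟩)]
    exact congrFun hcol i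
  constructor
  · rw [key]
    simp only [Pi.add_apply, Pi.sub_apply, Pi.smul_apply, Finset.sum_apply, smul_eq_mul, e1, e2, e3, zero_sub,
      mul_zero, Finset.sum_const_zero, add_zero, zero_add, mul_one, mul_neg]
    rw [Finset.sum_neg_distrib]
    have : ∑ x : Fin D.rank, (((D.coroot.getD (D.neg a) #[]).getD x.val 0 : ℤ) : F) *
        ((((D.cartanSR.getD x.val #[]).getD a 0 : ℤ) : F) * η) = -2 * η := by
      rw [← hP', Finset.sum_mul]
      apply Finset.sum_congr rfl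
      intro x _
      ring
    rw [this]
    ring
  · rw [key]
    simp only [Pi.add_apply, Pi.sub_apply, Pi.smul_apply, Finset.sum_apply, smul_eq_mul, f1, f2, f3, zero_sub,
      mul_zero, Finset.sum_const_zero, add_zero, zero_add, mul_one, sub_zero, neg_zero]

theorem neg_ne_self (a : ℕ) (ha : a < D.nroots) : D.neg a ≠ a := by
  obtain ⟨-, -, h3, h4⟩ := triOK_spec D _ (triOK_of_mem D hD) a ha
  intro e
  by_cases hlt : a < hlfOf D
  · have := h3 hlt; omega
  · have := h4 (by omega); omega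

/-- if `x_a(η) x_{-a}(-η') x_a(η) ∈ N` with `η'² = 1`, then `η η' = 1` -/
theorem eta_mul_eq_one (a : ℕ) (ha : a < D.nroots) (η η' : F) (hη' : η' ^ 2 = 1)
    (g : GL D.Idx F) (hg : g ∈ D.monomialSubgroup F)
    (hgv : (g : Matrix D.Idx D.Idx F) = D.x F a η * D.x F (D.neg a) (-η') * D.x F a η) : η * η' = 1 := by
  have hna := (triOK_spec D _ (triOK_of_mem D hD) a ha).1
  have hne := neg_ne_self D hD a ha
  obtain ⟨c1, c2⟩ := rank_one_column D hD a ha η (-η')
  obtain ⟨⟨-, -, n3⟩, -⟩ := monomialSubgroup_le_nlGL D hD hg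
  rw [hgv] at n3
  by_contra hne1
  have h1 : (1 + -η' * η) ^ 2 ≠ 0 := by
    apply pow_ne_zero
    intro e
    apply hne1
    linear_combination -e
  have h2 : -(-η') ^ 2 ≠ 0 := by
    rw [neg_pow_two, hη']
    exact neg_ne_zero.mpr one_ne_zero
  have := n3 ⟨a, ha⟩ ⟨a, ha⟩ ⟨D.neg a, hna⟩ (by rw [c1]; exact h1) (by rw [c2]; exact h2)
  exact hne (congrArg Fin.val this).symm

theorem nGL_mem_monomialSubgroup (r : ℕ) (hr : r < D.nroots) :
    wordGL D F (D.nWord r (1 : F)) ∈ D.monomialSubgroup F := by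
  unfold ChevalleyDatum.monomialSubgroup
  apply Subgroup.mem_sup_right
  apply Subgroup.subset_closure
  exact ⟨r, hr, nWordGL_val D hD _ _⟩

/-- `n_p n_s n_p⁻¹ ∈ H n_{w_p(s)}` -/
theorem nGL_conj_nGL (h31 : NConjHyp D F) (i s : ℕ) (hi : i < D.rank) (hs : s < D.nroots) :
    ∃ h ∈ D.diagonalSubgroup F,
      wordGL D F (D.nWord (D.simple i) (1 : F)) * wordGL D F (D.nWord s (1 : F)) *
        (wordGL D F (D.nWord (D.simple i) (1 : F)))⁻¹ = h * wordGL D F (D.nWord (D.reflectRoot i s) (1 : F)) := by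
  have htri := triOK_of_mem D hD
  have hns := (triOK_spec D _ htri s hs).1
  have ha := reflectRoot_lt D hD i s hi hs
  have hpi := simple_lt D (simpleOK_of_mem D hD) i hi
  obtain ⟨η, hη, c1⟩ := nGL_conj_xGL D hD h31 i s hi hs
  obtain ⟨η', hη', c2⟩ := nGL_conj_xGL D hD h31 i (D.neg s) hi hns
  rw [reflectRoot_neg D hD i s hi hs] at c2
  have hniN := nGL_mem_monomialSubgroup (F := F) D hD _ hpi
  generalize D.reflectRoot i s = a at ha c1 c2 ⊢
  generalize wordGL D F (D.nWord (D.simple i) (1 : F)) = ni at hniN c1 c2 ⊢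
  -- the conjugate as a product of three root elements
  have hm : ni * wordGL D F (D.nWord s (1 : F)) * ni⁻¹ =
      xGL D F a (η : F) * xGL D F (D.neg a) (-(η' : F)) * xGL D F a (η : F) := by
    rw [wordGL_nWord', mul_inv_eq_iff_eq_mul]
    have e1 := c1 1
    have e2 := c2 (-(1 : F)⁻¹)
    rw [mul_one] at e1
    have : (η' : F) * -(1 : F)⁻¹ = -(η' : F) := by simp
    rw [this] at e2
    calc ni * (xGL D F s 1 * xGL D F (D.neg s) (-(1 : F)⁻¹) * xGL D F s 1)
        = (ni * xGL D F s 1) * xGL D F (D.neg s) (-(1 : F)⁻¹) * xGL D F s 1 := by simp only [mul_assoc]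
      _ = xGL D F a (η : F) * (ni * xGL D F (D.neg s) (-(1 : F)⁻¹)) * xGL D F s 1 := by
          rw [e1]; simp only [mul_assoc]
      _ = xGL D F a (η : F) * xGL D F (D.neg a) (-(η' : F)) * (ni * xGL D F s 1) := by
          rw [e2]; simp only [mul_assoc]
      _ = xGL D F a (η : F) * xGL D F (D.neg a) (-(η' : F)) * xGL D F a (η : F) * ni := by
          rw [e1]; simp only [mul_assoc]
  have hmN : ni * wordGL D F (D.nWord s (1 : F)) * ni⁻¹ ∈ D.monomialSubgroup F :=
    mul_mem (mul_mem hniN (nGL_mem_monomialSubgroup D hD s hs)) (inv_mem hniN)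
  have hη'2 : ((η' : ℤ) : F) ^ 2 = 1 := by
    rcases hη' with rfl | rfl <;> simp
  have hηη' : (η : F) * (η' : F) = 1 := by
    apply eta_mul_eq_one D hD a ha (η : F) (η' : F) hη'2 _ hmN
    rw [hm, Units.val_mul, Units.val_mul, xGL_val D _ htri, xGL_val D _ htri]
  have hη'eq : -(η' : F) = -((η : F))⁻¹ := by
    congr 1
    exact (eq_inv_of_mul_eq_one_right hηη')
  rw [hm, hη'eq, ← wordGL_nWord']
  rcases hη with rfl | rfl
  · refine ⟨1, one_mem _, ?_⟩
    rw [one_mul]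
    norm_num
  · refine ⟨(wordGL D F (D.nWord a (1 : F)) * wordGL D F (D.nWord a (1 : F)))⁻¹,
      inv_mem (nGL_sq_mem D hD a ha), ?_⟩
    have : ((-1 : ℤ) : F) = -1 := by norm_num
    rw [this, ← nWordGL_one_inv D hD a ha]
    group

end

end Cfsg.Agent.Helper18
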