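import Cfsg.Agent.Helper18.LongWord

/-!
Helper18: `P_J = ⟨H, X_r : r ∈ Φ⁺ ∪ Φ_J⟩`, from the statement of S1031 (hypothesis `NConjHyp`).
-/

set_option autoImplicit false

namespace Cfsg.Agent.Helper18

open Cfsg Cfsg.Lie

theorem array_toList_getD (A : Array ℤ) (i : ℕ) : A.toList.getD i 0 = A.getD i 0 := by
  simp [Array.getD_eq_getD_getElem?, List.getD_eq_getElem?_getD]

/-- descent data for negative roots: some simple reflection moves `r` up in the list of roots, changing only one
coroot coefficient, which is non-zero -/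
def descOK (D : ChevalleyDatum) (tabs : List ℕ) (hlf : ℕ) : Bool :=
  (List.range hlf).all fun r =>
    (fun cr : List ℤ =>
      (List.range D.rank).any fun j =>
        (fun r' : ℕ =>
          decide (cr.getD j 0 ≠ 0) && decide (r < r') && decide (r' < D.nroots) &&
          (getB 256 (tabs.getD j 0) r' == r) &&
          (fun cr' : List ℤ => (List.range D.rank).all fun i => (i == j) || (cr'.getD i 0 == cr.getD i 0))
            ((D.coroot.getD r' #[]).toList)) (getB 256 (tabs.getD j 0) r))
      ((D.coroot.getD r #[]).toList)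

theorem descOK_spec (D : ChevalleyDatum) (tabs : List ℕ) (hlf : ℕ) (ht : tabsOK D tabs = true)
    (h : descOK D tabs hlf = true) (hn : hlf ≤ D.nroots) (r : ℕ) (hr : r < hlf) :
    ∃ j < D.rank, (D.coroot.getD r #[]).getD j 0 ≠ 0 ∧ r < D.reflectRoot j r ∧ D.reflectRoot j r < D.nroots ∧
      D.reflectRoot j (D.reflectRoot j r) = r ∧
      ∀ i < D.rank, i ≠ j → (D.coroot.getD (D.reflectRoot j r) #[]).getD i 0 = (D.coroot.getD r #[]).getD i 0 := by
  unfold descOK at h
  rw [List.all_eq_true] at h
  have h1 := h r (List.mem_range.mpr hr)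
  simp only [List.any_eq_true, List.mem_range, Bool.and_eq_true, decide_eq_true_eq, beq_iff_eq,
    List.all_eq_true, Bool.or_eq_true] at h1
  obtain ⟨j, hj, ⟨⟨⟨⟨h2, h3⟩, h4⟩, h5⟩, h6⟩⟩ := h1
  have hrn : r < D.nroots := by omega
  have e1 := (tabsOK_spec D tabs ht j r hj hrn).1
  rw [e1] at h3 h4 h5 h6
  have e2 := (tabsOK_spec D tabs ht j _ hj h4).1
  rw [e2] at h5
  rw [array_toList_getD] at h2
  refine ⟨j, hj, h2, h3, h4, h5, fun i hi hij => ?_⟩
  rcases h6 i hi with e | e
  · exact absurd e hij
  · rw [array_toList_getD, array_toList_getD] at e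
    exact e

/-- every negative root of `Φ_J` is the image of a positive root under a word in the reflections of `J` -/
theorem exists_word_of_inRootSub (D : ChevalleyDatum) (tabs : List ℕ) (hlf : ℕ) (ht : tabsOK D tabs = true)
    (h : descOK D tabs hlf = true) (hn : hlf ≤ D.nroots) (J : Set ℕ) :
    ∀ (k r : ℕ), D.nroots - r ≤ k → r < hlf → D.InRootSub J r →
      ∃ (w : List ℕ) (s : ℕ), (∀ i ∈ w, i ∈ J ∧ i < D.rank) ∧ hlf ≤ s ∧ s < D.nroots ∧ rho D w s = r := by
  intro k
  induction k with
  | zero =>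
    intro r hk hr _
    omega
  | succ k ih =>
    intro r hk hr hJ
    obtain ⟨j, hj, hne, hlt, hltn, hinv, hco⟩ := descOK_spec D tabs hlf ht h hn r hr
    have hjJ : j ∈ J := by
      by_contra hnot
      exact hne (hJ.2 j hj hnot)
    by_cases hpos : hlf ≤ D.reflectRoot j r
    · refine ⟨[j], D.reflectRoot j r, ?_, hpos, hltn, ?_⟩
      · intro i hi
        rw [List.mem_singleton] at hi
        subst hi
        exact ⟨hjJ, hj⟩
      · simp [rho, hinv]
    · have hJ' : D.InRootSub J (D.reflectRoot j r) := by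
        refine ⟨hltn, fun i hi hiJ => ?_⟩
        have hij : i ≠ j := fun e => hiJ (e ▸ hjJ)
        rw [hco i hi hij]
        exact hJ.2 i hi hiJ
      obtain ⟨w, s, hw, hs1, hs2, hs3⟩ := ih (D.reflectRoot j r) (by omega) (by omega) hJ'
      refine ⟨j :: w, s, ?_, hs1, hs2, ?_⟩
      · intro i hi
        rcases List.mem_cons.mp hi with rfl | hi'
        · exact ⟨hjJ, hj⟩
        · exact hw i hi'
      · show D.reflectRoot j (rho D w s) = r
        rw [hs3, hinv]

/-- table facts about the fundamental roots: they are positive, and `(-r)^∨ = -r^∨` -/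
def simplePosOK (D : ChevalleyDatum) (hlf : ℕ) : Bool :=
  (List.range D.rank).all (fun j => decide (hlf ≤ D.simple j) && decide (D.simple j < D.nroots) &&
    (List.range D.rank).all fun i =>
      decide ((D.coroot.getD (D.neg (D.simple j)) #[]).getD i 0 = if i = j then -1 else 0))

section
variable {F : Type*} [Field F]

theorem parabolic_eq (D : ChevalleyDatum) (hD : D ∈ [chevG2, chevB2, chevD4, chevF4, chevE6, chevE7, chevE8])
    (h31 : NConjHyp D F) (tabs : List ℕ) (ht : tabsOK D tabs = true) (hdesc : descOK D tabs (hlfOf D) = true)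
    (hsp : simplePosOK D (hlfOf D) = true) (hn : hlfOf D ≤ D.nroots) (J : Set ℕ) :
    D.parabolicSubgroup F J = D.diagonalSubgroup F ⊔
      Subgroup.closure {g : GL D.Idx F | ∃ (r : ℕ) (t : F), (D.IsPosRoot r ∨ D.InRootSub J r) ∧
        (g : Matrix D.Idx D.Idx F) = D.x F r t} := by
  have htri := triOK_of_mem D hD
  have hpos := posOK_of_mem D hD
  have hrefl : ∀ i s, i < D.rank → s < D.nroots → D.reflectRoot i s < D.nroots :=
    fun i s hi hs => (tabsOK_spec D tabs ht i s hi hs).2
  have hspec : ∀ j < D.rank, hlfOf D ≤ D.simple j ∧ D.simple j < D.nroots ∧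
      ∀ i < D.rank, (D.coroot.getD (D.neg (D.simple j)) #[]).getD i 0 = if i = j then -1 else 0 := by
    intro j hj
    unfold simplePosOK at hsp
    rw [List.all_eq_true] at hsp
    have := hsp j (List.mem_range.mpr hj)
    simp only [Bool.and_eq_true, decide_eq_true_eq, List.all_eq_true, List.mem_range] at this
    exact ⟨this.1.1, this.1.2, this.2⟩
  set R := D.diagonalSubgroup F ⊔
      Subgroup.closure {g : GL D.Idx F | ∃ (r : ℕ) (t : F), (D.IsPosRoot r ∨ D.InRootSub J r) ∧
        (g : Matrix D.Idx D.Idx F) = D.x F r t} with hR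
  have hxR : ∀ r t, (D.IsPosRoot r ∨ D.InRootSub J r) → xGL D F r t ∈ R := by
    intro r t hr
    apply Subgroup.mem_sup_right
    apply Subgroup.subset_closure
    exact ⟨r, t, hr, xGL_val D _ htri r t⟩
  apply le_antisymm
  · -- P_J ≤ R
    unfold ChevalleyDatum.parabolicSubgroup ChevalleyDatum.borelSubgroup
    refine sup_le (sup_le ?_ le_sup_left) ?_
    · unfold ChevalleyDatum.posUnipotent
      rw [Subgroup.closure_le]
      rintro g ⟨r, t, hr, hg⟩
      have : g = xGL D F r t := Units.ext (by rw [hg, xGL_val D _ htri])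
      rw [this]
      exact hxR r t (Or.inl hr)
    · rw [Subgroup.closure_le]
      rintro g ⟨j, hjJ, hj, hg⟩
      obtain ⟨h1, h2, h3⟩ := hspec j hj
      have : g = wordGL D F (D.nWord (D.simple j) (1 : F)) := Units.ext (by rw [hg, nWordGL_val D hD])
      rw [this, wordGL_nWord']
      have hp : D.IsPosRoot (D.simple j) := (isPosRoot_iff D _ hpos _).mpr ⟨h1, h2⟩
      have hnp : D.InRootSub J (D.neg (D.simple j)) := by
        refine ⟨(triOK_spec D _ htri _ h2).1, fun i hi hiJ => ?_⟩
        have hij : ¬ i = j := fun e => hiJ (e ▸ hjJ)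
        rw [h3 i hi, if_neg hij]
      exact mul_mem (mul_mem (hxR _ _ (Or.inl hp)) (hxR _ _ (Or.inr hnp))) (hxR _ _ (Or.inl hp))
  · -- R ≤ P_J
    have hB : D.borelSubgroup F ≤ D.parabolicSubgroup F J := le_sup_left
    have hU : D.posUnipotent F ≤ D.parabolicSubgroup F J := le_trans le_sup_left hB
    have hxU : ∀ s t, hlfOf D ≤ s → s < D.nroots → xGL D F s t ∈ D.parabolicSubgroup F J := by
      intro s t h1 h2
      apply hU
      apply Subgroup.subset_closure
      exact ⟨s, t, (isPosRoot_iff D _ hpos s).mpr ⟨h1, h2⟩, xGL_val D _ htri s t⟩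
    refine sup_le (le_trans le_sup_right hB) ?_
    rw [Subgroup.closure_le]
    rintro g ⟨r, t, hr, hg⟩
    have hgx : g = xGL D F r t := Units.ext (by rw [hg, xGL_val D _ htri])
    rw [SetLike.mem_coe, hgx]
    have hrn : r < D.nroots := by
      rcases hr with hr | hr
      · exact hr.1
      · exact hr.1
    by_cases hrp : hlfOf D ≤ r
    · exact hxU r t hrp hrn
    · have hrJ : D.InRootSub J r := by
        rcases hr with hr | hr
        · exact absurd ((isPosRoot_iff D _ hpos r).mp hr).1 hrp
        · exact hr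
      obtain ⟨w, s, hw, hs1, hs2, hs3⟩ :=
        exists_word_of_inRootSub D tabs (hlfOf D) ht hdesc hn J (D.nroots - r) r le_rfl (by omega) hrJ
      obtain ⟨-, η, hη, hc⟩ := nWordsGL_conj_xGL D hD h31 hrefl w (fun i hi => (hw i hi).2) s hs2
      have hnw : nWordsGL D F w ∈ D.parabolicSubgroup F J := by
        apply Subgroup.list_prod_mem
        intro x hx
        obtain ⟨i, hi, rfl⟩ := List.mem_map.mp hx
        apply Subgroup.mem_sup_right
        apply Subgroup.subset_closure
        exact ⟨i, (hw i hi).1, (hw i hi).2, nWordGL_val D hD _ _⟩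
      have e : xGL D F r t = nWordsGL D F w * xGL D F s ((η : F) * t) * (nWordsGL D F w)⁻¹ := by
        rw [hc, hs3, mul_inv_cancel_right, ← mul_assoc]
        congr 1
        rcases hη with rfl | rfl <;> simp
      rw [e]
      exact mul_mem (mul_mem hnw (hxU s _ hs1 hs2)) (inv_mem hnw)

end

end Cfsg.Agent.Helper18
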