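import Cfsg.Agent.Helper18.GraphAut.Check

/-!
A decidable certificate for the equality of two words in root elements over every field of characteristic `p`.
-/

set_option autoImplicit false

namespace Cfsg.Agent.Helper18

open Cfsg Cfsg.Lie Cfsg.Agent.Helper18.GraphAut

/-- the columns of the two words agree modulo `p` -/
def wordEqOK (D : ChevalleyDatum) (p : ℕ) (W₁ W₂ : List (ℕ × Poly)) : Bool :=
  (List.range (D.rank + D.nroots)).all fun j =>
    (List.range (D.rank + D.nroots)).all fun k =>
      divP p (psub (rowPoly (applyWord D W₁ [(j, pconst 1)]) k) (rowPoly (applyWord D W₂ [(j, pconst 1)]) k))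

theorem wordMat_eq_of_wordEqOK {F : Type*} [Field F] (p : ℕ) [CharP F p] (D : ChevalleyDatum)
    (W₁ W₂ : List (ℕ × Poly)) (h : wordEqOK D p W₁ W₂ = true) (x y z : F) :
    D.wordMat F (W₁.map fun e => (e.1, peval x y z e.2)) = D.wordMat F (W₂.map fun e => (e.1, peval x y z e.2)) := by
  apply matrix_ext_mulVec
  intro j
  have e1 := applyWord_spec x y z D W₁ [(code D j, pconst 1)]
  have e2 := applyWord_spec x y z D W₂ [(code D j, pconst 1)]
  rw [vecD_single, peval_pconst, Int.cast_one] at e1 e2
  rw [← e1, ← e2]
  funext i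
  unfold vecD
  rw [← peval_rowPoly, ← peval_rowPoly, ← sub_eq_zero, ← peval_psub]
  apply peval_eq_zero_of_divP x y z p
  unfold wordEqOK at h
  rw [List.all_eq_true] at h
  have h1 := h (code D j) (List.mem_range.mpr (code_lt D j))
  rw [List.all_eq_true] at h1
  exact h1 (code D i) (List.mem_range.mpr (code_lt D i))

end Cfsg.Agent.Helper18
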