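import Mathlib

/-!
# Cyclic Sylow subgroups from a cyclic subgroup of index prime to `p`
-/

set_option autoImplicit false

namespace Cfsg.Agent.Helper18.SylowTransfer

variable {G : Type*} [Group G]

/-- if `C` is a cyclic subgroup whose index is prime to `p` then the Sylow `p`-subgroups are cyclic -/
theorem sylow_isCyclic_of_cyclic_subgroup [Finite G] {p : ℕ} [hp : Fact p.Prime] (C : Subgroup G)
    (hC : IsCyclic ↥C) (hidx : ¬ p ∣ C.index) (P : Sylow p G) : IsCyclic ↥(P : Subgroup G) := by
  obtain ⟨Q⟩ : Nonempty (Sylow p ↥C) := inferInstance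
  have hQc : IsCyclic ↥(Q : Subgroup ↥C) := inferInstance
  set Q' : Subgroup G := (Q : Subgroup ↥C).map C.subtype with hQ'
  have hQ'p : IsPGroup p ↥Q' := Q.isPGroup'.map C.subtype
  have hQ'i : ¬ p ∣ Q'.index := by
    rw [hQ', Subgroup.index_map_subtype]
    intro h
    rcases (Nat.Prime.dvd_mul hp.out).mp h with h | h
    · exact Q.not_dvd_index h
    · exact hidx h
  have hQ'c : IsCyclic ↥Q' := by
    have e : ↥(Q : Subgroup ↥C) ≃* ↥Q' := (Q : Subgroup ↥C).equivMapOfInjective C.subtype C.subtype_injective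
    exact e.isCyclic.mp hQc
  set S : Sylow p G := hQ'p.toSylow hQ'i with hS
  obtain ⟨g, hg⟩ := MulAction.exists_smul_eq G S P
  have e2 : ↥(S : Subgroup G) ≃* ↥((g • S : Sylow p G) : Subgroup G) := S.equivSMul g
  rw [hg] at e2
  have hSc : IsCyclic ↥(S : Subgroup G) := by
    have : (S : Subgroup G) = Q' := IsPGroup.toSylow_coe hQ'p hQ'i
    rw [this]
    exact hQ'c
  exact e2.isCyclic.mp hSc

/-- if `p` does not divide the order then the Sylow `p`-subgroups are cyclic -/
theorem sylow_isCyclic_of_not_dvd [Finite G] {p : ℕ} [hp : Fact p.Prime] (h : ¬ p ∣ Nat.card G)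
    (P : Sylow p G) : IsCyclic ↥(P : Subgroup G) := by
  apply sylow_isCyclic_of_cyclic_subgroup (⊥ : Subgroup G) inferInstance _ P
  rw [Subgroup.index_bot]
  exact h

end Cfsg.Agent.Helper18.SylowTransfer
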