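import Cfsg.Agent.Helper18.Monomial

/-!
Helper18: `n_p h_s(t) n_p⁻¹ = h_{w_p(s)}(t)` for fundamental roots `p`, `s`.
-/

set_option autoImplicit false

namespace Cfsg.Agent.Helper18

open Cfsg Cfsg.Lie

/-- the coroot of the reflected root `w_p(s)` is `s^∨ - <p, s^∨> p^∨`, for fundamental `p`, `s` -/
def reflCorootOK (D : ChevalleyDatum) : Bool :=
  (List.range D.rank).all fun i => (List.range D.rank).all fun j =>
    decide (D.reflectRoot i (D.simple j) < D.nroots) &&
    (List.range D.rank).all fun k =>
      decide ((D.coroot.getD (D.reflectRoot i (D.simple j)) #[]).getD k 0 =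
        (D.coroot.getD (D.simple j) #[]).getD k 0 -
          pairing' D (D.simple j) (D.simple i) * (D.coroot.getD (D.simple i) #[]).getD k 0)

set_option maxRecDepth 100000 in
theorem reflCorootOK_of_mem (D : ChevalleyDatum) (hD : D ∈ [chevG2, chevB2, chevD4, chevF4, chevE6, chevE7, chevE8]) :
    reflCorootOK D = true := by
  simp only [List.mem_cons, List.not_mem_nil, or_false] at hD
  rcases hD with rfl | rfl | rfl | rfl | rfl | rfl | rfl <;> decide +kernel

theorem pairing'_reflect (D : ChevalleyDatum) (h : reflCorootOK D = true) (i j : ℕ) (hi : i < D.rank) (hj : j < D.rank)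
    (u : ℕ) :
    D.reflectRoot i (D.simple j) < D.nroots ∧
    pairing' D (D.reflectRoot i (D.simple j)) u =
      pairing' D (D.simple j) u - pairing' D (D.simple j) (D.simple i) * pairing' D (D.simple i) u := by
  unfold reflCorootOK at h
  rw [List.all_eq_true] at h
  have h1 := h i (List.mem_range.mpr hi)
  rw [List.all_eq_true] at h1
  have h2 := h1 j (List.mem_range.mpr hj)
  rw [Bool.and_eq_true, decide_eq_true_eq, List.all_eq_true] at h2
  refine ⟨h2.1, ?_⟩
  have h3 : ∀ k : Fin D.rank, (D.coroot.getD (D.reflectRoot i (D.simple j)) #[]).getD k.val 0 =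
        (D.coroot.getD (D.simple j) #[]).getD k.val 0 -
          pairing' D (D.simple j) (D.simple i) * (D.coroot.getD (D.simple i) #[]).getD k.val 0 := by
    intro k
    have := h2.2 k.val (List.mem_range.mpr k.2)
    rwa [decide_eq_true_eq] at this
  generalize pairing' D (D.simple j) (D.simple i) = c at h3 ⊢
  unfold pairing'
  rw [list_range_sum_eq, list_range_sum_eq, list_range_sum_eq, Finset.mul_sum, ← Finset.sum_sub_distrib]
  apply Finset.sum_congr rfl
  intro k _
  rw [h3 k]
  ring

section
variable {F : Type*} [Field F]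

theorem nMat_mul_hMat_simple (D : ChevalleyDatum) (hD : D ∈ [chevG2, chevB2, chevD4, chevF4, chevE6, chevE7, chevE8])
    (i j : ℕ) (hi : i < D.rank) (hj : j < D.rank) (t : F) (ht : t ≠ 0) :
    D.nMat F (D.simple i) 1 * D.hMat F (D.simple j) t =
      D.hMat F (D.reflectRoot i (D.simple j)) t * D.nMat F (D.simple i) 1 := by
  have hs := simpleOK_of_mem D hD
  have hp := simple_lt D hs i hi
  have hsj := simple_lt D hs j hj
  have hrefl := reflCorootOK_of_mem D hD
  have hw := (pairing'_reflect D hrefl i j hi hj 0).1
  set p := D.simple i with hp_def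
  set s := D.simple j with hs_def
  set w := D.reflectRoot i s with hw_def
  set χ : F := t ^ pairing' D s p with hχ_def
  have hχ : χ ≠ 0 := zpow_ne_zero _ ht
  -- GL-level elements
  set g := wordGL D F (D.hWord s t) with hg_def
  set N := wordGL D F (D.nWord p (1 : F)) with hN_def
  set Hw := wordGL D F (D.hWord w t) with hHw_def
  set Hp := wordGL D F (D.hWord p χ) with hHp_def
  have hgv : (g : Matrix D.Idx D.Idx F) = D.hMat F s t := hWordGL_val D hD s t
  have e1 := hMat_comm_nGL D hD g s hsj t ht hgv p hp 1
  rw [mul_one] at e1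
  have e2 : wordGL D F (D.nWord p χ) = Hp * N := by
    have : wordGL D F (D.nWord p χ) = Hp * (wordGL D F (D.hWord p (1 : F)))⁻¹ * N := by
      rw [hHp_def, hN_def, wordGL_hWord, wordGL_hWord]; group
    rw [this, hWordGL_one D hD p hp, inv_one, mul_one]
  rw [← hχ_def, e2] at e1
  -- g = Hp * Hw as diagonal matrices
  have e3 : g = Hp * Hw := by
    apply Units.ext
    rw [Units.val_mul, hgv, hHp_def, hHw_def, hWordGL_val D hD, hWordGL_val D hD,
      hMat_eq_wDiag D hD s hsj t ht, hMat_eq_wDiag D hD p hp χ hχ, hMat_eq_wDiag D hD w hw t ht]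
    unfold wDiag
    rw [Matrix.diagonal_mul_diagonal]
    congr 1
    funext a
    rcases a with a | u
    · simp
    · simp only [Sum.elim_inr]
      rw [(pairing'_reflect D hrefl i j hi hj u.val).2, hχ_def, ← zpow_mul, ← zpow_add₀ ht]
      congr 1
      ring
  -- conclude
  have e4 : N * g = Hw * N := by
    have : g * N = Hp * N * g := e1
    rw [e3] at this ⊢
    -- Hp * Hw * N = Hp * N * (Hp * Hw)
    have h5 : Hw * N = N * (Hp * Hw) := by
      have := congrArg (fun z => Hp⁻¹ * z) this
      simp only [mul_assoc, inv_mul_cancel_left] at this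
      simpa [mul_assoc] using this
    exact h5.symm
  have := congrArg (fun z : GL D.Idx F => (z : Matrix D.Idx D.Idx F)) e4
  simp only [Units.val_mul] at this
  rw [hgv, hN_def, hHw_def, nWordGL_val D hD, hWordGL_val D hD] at this
  exact this

end

end Cfsg.Agent.Helper18
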