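import Cfsg.Agent.Helper18.Monomial

/-!
Helper18: extension of scalars for root elements, and the shape of the elements `n_r(u)`.

Over the field of rational functions `K = F(X)` the diagonal subgroup contains the elements `h_s(X)`, on which the
weights (the roots and `0`) take pairwise distinct values. Since `h n_r(u) = n_r(χ u) h` and
`n_r(χ u) = h_r(χ u) h_r(u)⁻¹ n_r(u)`, an entry `(i, j)` of `n_r(u)` can be non-zero only if the weight of the
column `j` is the reflection of the weight of the row `i`. The entries of `n_r(u)` over `F` map to those over `K`.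
-/

set_option autoImplicit false

namespace Cfsg.Agent.Helper18

open Cfsg Cfsg.Lie

section Map
variable {F K : Type*} [Field F] [Field K]

theorem xMat_map' (D : ChevalleyDatum) (f : F →+* K) (r : Fin D.nroots) (t : F) :
    (D.xMat F r t).map f = D.xMat K r (f t) := by
  ext row col
  simp only [Matrix.map_apply, ChevalleyDatum.xMat, Matrix.of_apply]
  rcases col with i | s
  · rcases row with i' | u
    · simp only [apply_ite f, map_one, map_zero]
    · simp only [apply_ite f, map_zero, map_neg, map_mul, map_intCast]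
  · simp only
    split_ifs with h1 h2
    · rcases row with i' | u
      · simp
      · simp only [apply_ite f, map_one, map_zero]
    · rcases row with i' | u
      · simp only [map_mul, map_intCast]
      · simp only [apply_ite f, map_one, map_zero, map_neg, map_pow]
    · rcases row with i' | u
      · simp
      · simp only [map_add, apply_ite f, map_one, map_zero, map_list_sum, List.map_map]
        congr 2
        ext km
        simp [map_mul, map_intCast, map_pow]

theorem x_map' (D : ChevalleyDatum) (f : F →+* K) (r : ℕ) (t : F) :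
    (D.x F r t).map f = D.x K r (f t) := by
  unfold ChevalleyDatum.x
  split_ifs with h
  · exact xMat_map' D f ⟨r, h⟩ t
  · ext i j
    simp [Matrix.map_apply, Matrix.one_apply, apply_ite f]

theorem nMat_map' (D : ChevalleyDatum) (f : F →+* K) (r : ℕ) (t : F) :
    (D.nMat F r t).map f = D.nMat K r (f t) := by
  simp only [ChevalleyDatum.nMat, ChevalleyDatum.nWord, ChevalleyDatum.wordMat, List.map_cons, List.map_nil,
    List.prod_cons, List.prod_nil, mul_one]
  rw [Matrix.map_mul, Matrix.map_mul, x_map', x_map', map_neg, map_inv₀]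

end Map

section RatFunc
open RatFunc

theorem ratfunc_intDegree_X_pow {F : Type*} [Field F] (n : ℕ) : intDegree ((X : RatFunc F) ^ n) = n := by
  induction n with
  | zero => simp
  | succ n ih =>
    rw [pow_succ, intDegree_mul (pow_ne_zero _ RatFunc.X_ne_zero) RatFunc.X_ne_zero, ih, intDegree_X]
    push_cast; ring

theorem ratfunc_intDegree_X_zpow {F : Type*} [Field F] (e : ℤ) : intDegree ((X : RatFunc F) ^ e) = e := by
  rcases e with n | n
  · simp only [Int.ofNat_eq_natCast, zpow_natCast]
    exact ratfunc_intDegree_X_pow n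
  · rw [zpow_negSucc, intDegree_inv, ratfunc_intDegree_X_pow]
    push_cast
    omega

theorem ratfunc_X_zpow_injective {F : Type*} [Field F] (a b : ℤ) (h : (X : RatFunc F) ^ a = X ^ b) : a = b := by
  have := congrArg intDegree h
  rwa [ratfunc_intDegree_X_zpow, ratfunc_intDegree_X_zpow] at this

end RatFunc

/-- the weight of a coordinate under `h_s`: `0` for the `h_i`, `<v, s^∨>` for `e_v` -/
def wtI (D : ChevalleyDatum) (s : ℕ) : D.Idx → ℤ := Sum.elim (fun _ => 0) (fun v => pairing' D s v.val)

section Weight
variable {K : Type*} [Field K]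

theorem wDiag_eq (D : ChevalleyDatum) (s : ℕ) (c : K) :
    wDiag D K (pairing' D s) c = Matrix.diagonal (fun i => c ^ wtI D s i) := by
  unfold wDiag
  congr 1
  funext i
  rcases i with a | v <;> simp [wtI]

variable (D : ChevalleyDatum) (hD : D ∈ [chevG2, chevB2, chevD4, chevF4, chevE6, chevE7, chevE8])
include hD

theorem hWordGL_comm (r s : ℕ) (hr : r < D.nroots) (hs : s < D.nroots) (a b : K) (ha : a ≠ 0) (hb : b ≠ 0) :
    wordGL D K (D.hWord r a) * wordGL D K (D.hWord s b) = wordGL D K (D.hWord s b) * wordGL D K (D.hWord r a) := by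
  apply Units.ext
  rw [Units.val_mul, Units.val_mul, hWordGL_val D hD, hWordGL_val D hD, hMat_eq_wDiag D hD r hr a ha,
    hMat_eq_wDiag D hD s hs b hb]
  unfold wDiag
  rw [Matrix.diagonal_mul_diagonal, Matrix.diagonal_mul_diagonal]
  congr 1
  funext i
  exact mul_comm _ _

/-- the matrix form of `h_r(v) h_s(c) n_r(v) = h_r(χ v) n_r(v) h_s(c)` -/
theorem hh_nMat (r s : ℕ) (hr : r < D.nroots) (hs : s < D.nroots) (c v : K) (hc : c ≠ 0) (hv : v ≠ 0) :
    D.hMat K r v * D.hMat K s c * D.nMat K r v =
      D.hMat K r (c ^ pairing' D s r * v) * D.nMat K r v * D.hMat K s c := by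
  set g := wordGL D K (D.hWord s c) with hg
  have hgv : (g : Matrix D.Idx D.Idx K) = D.hMat K s c := hWordGL_val D hD s c
  have e1 := hMat_comm_nGL D hD g s hs c hc hgv r hr v
  set χ := c ^ pairing' D s r with hχ
  have hχv : χ * v ≠ 0 := mul_ne_zero (zpow_ne_zero _ hc) hv
  have e2 : wordGL D K (D.hWord r v) * wordGL D K (D.nWord r (χ * v)) =
      wordGL D K (D.hWord r (χ * v)) * wordGL D K (D.nWord r v) := by
    have a1 : wordGL D K (D.nWord r (χ * v)) =
        wordGL D K (D.hWord r (χ * v)) * (wordGL D K (D.nWord r (-1 : K)))⁻¹ := by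
      rw [wordGL_hWord, mul_inv_cancel_right]
    have a2 : wordGL D K (D.nWord r v) =
        wordGL D K (D.hWord r v) * (wordGL D K (D.nWord r (-1 : K)))⁻¹ := by
      rw [wordGL_hWord, mul_inv_cancel_right]
    rw [a1, ← mul_assoc, hWordGL_comm D hD r r hr hr v (χ * v) hv hχv, mul_assoc, ← a2]
  have e3 : wordGL D K (D.hWord r v) * g * wordGL D K (D.nWord r v) =
      wordGL D K (D.hWord r (χ * v)) * wordGL D K (D.nWord r v) * g := by
    rw [mul_assoc, e1, ← mul_assoc, e2]
  have := congrArg (fun z : GL D.Idx K => (z : Matrix D.Idx D.Idx K)) e3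
  simp only [Units.val_mul] at this
  rw [hgv, hWordGL_val D hD, hWordGL_val D hD, nWordGL_val D hD] at this
  exact this

end Weight

section WeightRel
variable {F : Type*} [Field F]
variable (D : ChevalleyDatum) (hD : D ∈ [chevG2, chevB2, chevD4, chevF4, chevE6, chevE7, chevE8])
include hD

/-- a non-zero entry `(i, j)` of `n_r(u)` forces the weight of `j` to be the reflection of the weight of `i` -/
theorem nMat_weight_rel (r : ℕ) (hr : r < D.nroots) (u : F) (hu : u ≠ 0) (i j : D.Idx)
    (hij : D.nMat F r u i j ≠ 0) (s : ℕ) (hs : s < D.nroots) :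
    wtI D s i = pairing' D s r * wtI D r i + wtI D s j := by
  let K := RatFunc F
  let f : F →+* K := algebraMap F K
  have hf : Function.Injective f := (algebraMap F K).injective
  have hX : (RatFunc.X : K) ≠ 0 := RatFunc.X_ne_zero
  have hv : f u ≠ 0 := fun e => hu (hf (by rw [e, map_zero]))
  have hNK : D.nMat K r (f u) i j ≠ 0 := by
    rw [← nMat_map' D f r u, Matrix.map_apply]
    intro e
    exact hij (hf (by rw [e, map_zero]))
  have h := hh_nMat (K := K) D hD r s hr hs RatFunc.X (f u) hX hv
  have hχv : (RatFunc.X : K) ^ pairing' D s r * f u ≠ 0 := mul_ne_zero (zpow_ne_zero _ hX) hv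
  rw [hMat_eq_wDiag D hD r hr (f u) hv, hMat_eq_wDiag D hD s hs RatFunc.X hX,
    hMat_eq_wDiag D hD r hr _ hχv, wDiag_eq, wDiag_eq, wDiag_eq] at h
  have h2 := congrFun (congrFun h i) j
  rw [Matrix.diagonal_mul_diagonal, Matrix.diagonal_mul, Matrix.mul_diagonal, Matrix.diagonal_mul] at h2
  -- cancel the entry and the powers of `f u`
  have hfu : (f u) ^ wtI D r i ≠ 0 := zpow_ne_zero _ hv
  rw [mul_zpow] at h2
  have h3 : (RatFunc.X : K) ^ wtI D s i = RatFunc.X ^ (pairing' D s r * wtI D r i + wtI D s j) := by
    rw [zpow_add₀ hX, zpow_mul]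
    have h4 : (f u ^ wtI D r i * D.nMat K r (f u) i j) * (RatFunc.X : K) ^ wtI D s i =
        (f u ^ wtI D r i * D.nMat K r (f u) i j) *
          (((RatFunc.X : K) ^ pairing' D s r) ^ wtI D r i * RatFunc.X ^ wtI D s j) := by
      linear_combination h2
    exact mul_left_cancel₀ (mul_ne_zero hfu hNK) h4
  exact ratfunc_X_zpow_injective _ _ h3

end WeightRel

end Cfsg.Agent.Helper18
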