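import Cfsg.Agent.Helper18.TorusH

/-!
Helper18: the kernel of the torus `(Fˣ)^l → H`, counted through a Smith normal form certificate of the Cartan matrix.
-/

set_option autoImplicit false

namespace Cfsg.Agent.Helper18

open Cfsg Cfsg.Lie

/-- the square integer matrix given by a list of rows -/
def mOf (l : ℕ) (L : List (List ℤ)) : Matrix (Fin l) (Fin l) ℤ :=
  Matrix.of fun i j => (L.getD i.val []).getD j.val 0

/-- a Smith normal form certificate `P A Q = diag d`, with inverses of `P` and `Q` -/
structure TorusCert where
  P : List (List ℤ)
  P' : List (List ℤ)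
  Q : List (List ℤ)
  Q' : List (List ℤ)
  d : List ℕ

/-- the Cartan matrix of the fundamental roots -/
def cartanSimple (D : ChevalleyDatum) : Matrix (Fin D.rank) (Fin D.rank) ℤ :=
  Matrix.of fun i j => D.cartan i.val (D.simple j.val)

/-- the coefficients of the root `s` on the fundamental roots, computed from the certificate -/
def rootCoef (D : ChevalleyDatum) (C : TorusCert) (s : ℕ) : List ℤ :=
  let a := (List.range D.rank).map fun i => D.cartan i s
  let Pa := C.P.map fun row => (List.zipWith (· * ·) row a).sum
  let y := List.zipWith (fun x (d : ℕ) => x / (d : ℤ)) Pa C.d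
  C.Q.map fun row => (List.zipWith (· * ·) row y).sum

/-- every column of the table of Cartan integers is the combination of the columns of the fundamental roots with
the coefficients `rootCoef` -/
def torusCoefOK (D : ChevalleyDatum) (C : TorusCert) : Bool :=
  (List.range D.nroots).all fun s => (List.range D.rank).all fun i =>
    decide (D.cartan i s = ((List.range D.rank).map fun j => D.cartan i (D.simple j) * (rootCoef D C s).getD j 0).sum)

/-- the certificate is valid -/
def CertOK (D : ChevalleyDatum) (C : TorusCert) : Prop :=
  mOf D.rank C.P * mOf D.rank C.P' = 1 ∧ mOf D.rank C.Q * mOf D.rank C.Q' = 1 ∧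
    mOf D.rank C.P * cartanSimple D * mOf D.rank C.Q = Matrix.diagonal (fun k => ((C.d.getD k.val 0 : ℕ) : ℤ)) ∧
    torusCoefOK D C = true

section
variable {F : Type*} [Field F]

theorem torusChar_ker_eq (D : ChevalleyDatum) (hs : simpleOK D = true) (C : TorusCert) (hC : torusCoefOK D C = true) :
    (torusChar D F).ker = (zact (cartanSimple D) : (Fin D.rank → Fˣ) →* (Fin D.rank → Fˣ)).ker := by
  ext c
  rw [MonoidHom.mem_ker, MonoidHom.mem_ker]
  constructor
  · intro h
    funext j
    have h1 := congrFun h (Sum.inr ⟨D.simple j.val, simple_lt D hs j.val j.2⟩)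
    simp only [torusChar, MonoidHom.coe_mk, OneHom.coe_mk, Sum.elim_inr, Pi.one_apply] at h1
    rw [zact_apply]
    exact h1
  · intro h
    funext j
    rcases j with a | s
    · rfl
    · simp only [torusChar, MonoidHom.coe_mk, OneHom.coe_mk, Sum.elim_inr, Pi.one_apply]
      have hcoef : ∀ i : Fin D.rank, D.cartan i.val s.val =
          ∑ j : Fin D.rank, cartanSimple D i j * (rootCoef D C s.val).getD j.val 0 := by
        intro i
        unfold torusCoefOK at hC
        rw [List.all_eq_true] at hC
        have h1 := hC s.val (List.mem_range.mpr s.2)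
        rw [List.all_eq_true] at h1
        have h2 := h1 i.val (List.mem_range.mpr i.2)
        rw [decide_eq_true_eq, list_range_sum_eq] at h2
        exact h2
      calc ∏ i : Fin D.rank, c i ^ D.cartan i.val s.val
          = ∏ i : Fin D.rank, ∏ j : Fin D.rank, (c i ^ cartanSimple D i j) ^ (rootCoef D C s.val).getD j.val 0 := by
            apply Finset.prod_congr rfl
            intro i _
            rw [hcoef i, zpow_finset_sum]
            apply Finset.prod_congr rfl
            intro j _
            rw [zpow_mul]
        _ = ∏ j : Fin D.rank, ∏ i : Fin D.rank, (c i ^ cartanSimple D i j) ^ (rootCoef D C s.val).getD j.val 0 :=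
            Finset.prod_comm
        _ = ∏ j : Fin D.rank, (zact (cartanSimple D) c j) ^ (rootCoef D C s.val).getD j.val 0 := by
            apply Finset.prod_congr rfl
            intro j _
            rw [Finset.prod_zpow, zact_apply]
        _ = 1 := by
            rw [h]
            simp

/-- `|ker| = ∏ gcd(q - 1, d_k)` -/
theorem card_torusChar_ker [Fintype F] (D : ChevalleyDatum) (hs : simpleOK D = true) (C : TorusCert)
    (hC : CertOK D C) :
    Nat.card (torusChar D F).ker = ∏ k : Fin D.rank, (Fintype.card F - 1).gcd (C.d.getD k.val 0) := by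
  obtain ⟨h1, h2, h3, h4⟩ := hC
  rw [torusChar_ker_eq D hs C h4, card_ker_zact (cartanSimple D) _ _ _ _ (fun k => C.d.getD k.val 0) h1 h2 h3]
  apply Finset.prod_congr rfl
  intro k _
  rw [IsCyclic.card_powMonoidHom_ker, Nat.card_units, Nat.card_eq_fintype_card]

end

end Cfsg.Agent.Helper18
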