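import Cfsg.Agent.Helper18.UnipMono
import Cfsg.Agent.Helper18.LongWord

/-!
# Table checks for the permutation of the roots attached to a word in the `n_p`

A non-zero entry `(v, s)` in the root block of `n_p` (`p = p_{i+1}` fundamental) forces `v = w_p(s)`; hence a word
`n_{i_1} ⋯ n_{i_k}` that lies in `H` acts trivially on the roots.
-/

set_option autoImplicit false

namespace Cfsg.Agent.Helper18

open Cfsg Cfsg.Lie Matrix

theorem wP_packedRow (D : ChevalleyDatum) (i : ℕ) (h : addOK D i = true) (u : ℕ) (hu : u < D.nroots) :
    wP (packedRow D i) u = D.cartan i u := by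
  unfold addOK at h
  simp only [Bool.and_eq_true, decide_eq_true_eq] at h
  obtain ⟨⟨hok, hsz⟩, -⟩ := h
  have hlen : (D.cartanSR.getD i #[]).toList.length = D.nroots := by rw [Array.length_toList]; exact hsz
  unfold packedRow
  rw [wP_pack _ hok u (by rw [hlen]; exact hu)]
  unfold ChevalleyDatum.cartan
  have hu' : u < (D.cartanSR.getD i #[]).size := by rw [hsz]; exact hu
  exact toList_getElem_eq_getD _ u hu' _

/-- the weight column of `w_i(s)` is the reflected weight column, and `w_i(-s) = -w_i(s)` -/
def reflColOK (D : ChevalleyDatum) (tabs : List ℕ) : Bool :=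
  (List.range D.rank).all fun i =>
    ((List.range D.rank).all fun k => (List.range D.nroots).all fun s =>
      decide (wP (packedRow D k) (getB 256 (tabs.getD i 0) s) =
        wP (packedRow D k) s - wP (packedRow D i) s * wP (packedRow D k) (D.simple i))) &&
    ((List.range D.nroots).all fun s =>
      getB 256 (tabs.getD i 0) (D.neg s) == D.neg (getB 256 (tabs.getD i 0) s))

set_option maxRecDepth 100000 in
theorem reflColOK_G2 : reflColOK chevG2 reflTabsG2 = true := by decide +kernel
set_option maxRecDepth 100000 in
theorem reflColOK_B2 : reflColOK chevB2 reflTabsB2 = true := by decide +kernel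
set_option maxRecDepth 100000 in
theorem reflColOK_D4 : reflColOK chevD4 reflTabsD4 = true := by decide +kernel
set_option maxRecDepth 100000 in
theorem reflColOK_F4 : reflColOK chevF4 reflTabsF4 = true := by decide +kernel
set_option maxRecDepth 100000 in
theorem reflColOK_E6 : reflColOK chevE6 reflTabsE6 = true := by decide +kernel
set_option maxRecDepth 100000 in
theorem reflColOK_E7 : reflColOK chevE7 reflTabsE7 = true := by decide +kernel
set_option maxRecDepth 100000 in
theorem reflColOK_E8 : reflColOK chevE8 reflTabsE8 = true := by decide +kernel

end Cfsg.Agent.Helper18
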